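import Cfsg.Agent.Helper1.C9Defs
import Cfsg.Agent.S1372
import Cfsg.Agent.S1403
import Cfsg.Agent.S1429
import Cfsg.Agent.Helper22.BG12b

/-!
# CALL S1376 (helper1), piece NIL (helper59): `M_σ` is nilpotent in the setting `C9`.
-/

set_option autoImplicit false

namespace Cfsg.Agent.Helper59

open Subgroup Cfsg

universe u

variable {G : Type u} [Group G] [Finite G]

/-- NIL. S1429 with `p := |K|` (prime, divides `|M|`, not in `σ(M) ∪ κ(M)`; `hP1` fails at `|K|` as
`κ(M) = ∅`), any Sylow: third clause. -/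
theorem c9_sigma_nil (hG : IsMinSimpleOddOrder G) {M N K U L : Subgroup G} {x : G}
    (h : Cfsg.Agent.Helper1.C9 M N K U L x) : Group.IsNilpotent ↥(sigmaCore M) := by
  have hU : Cfsg.Agent.Helper22.BGUniq G :=
    fun K hK h1 h2 => Cfsg.Agent.S1403.result hG K hK h1 h2
  have hp : (Nat.card K).Prime := (Cfsg.Agent.S1372.result hG N h.hN K U h.hKU h.hK1 h.hU1).1
  haveI : Fact (Nat.card K).Prime := ⟨hp⟩
  have hKML : K ≤ M ⊓ L := h.hKF.trans (Subgroup.map_subtype_le _)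
  have hKM : K ≤ M := hKML.trans inf_le_left
  have hpM : Nat.card K ∣ Nat.card M := Subgroup.card_dvd_of_le hKM
  have hκ : ∀ q : ℕ, q ∉ kappa M := by
    intro q hq
    rw [h.hκ] at hq
    exact hq
  have hpσ : Nat.card K ∉ sigma M := by
    intro hσ
    have hKp : IsPGroup (Nat.card K) K := IsPGroup.of_card (n := 1) (by rw [pow_one])
    have h1 : K ≤ sigmaCore M :=
      Cfsg.Agent.Helper22.bg12_le_sigmaCore hG hU h.hM hp hσ hKM hKp
    have h2 : K ≤ (M ⊓ L) ⊓ sigmaCore M := le_inf hKML h1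
    rw [h.hE.2.2.1] at h2
    exact h.hK1 (le_bot_iff.mp h2)
  have hP1 : ¬ (∀ q : ℕ, q.Prime → q ∣ Nat.card M → q ∉ sigma M → q ∈ kappa M) :=
    fun hall => hκ _ (hall _ hp hpM hpσ)
  obtain ⟨S⟩ := (inferInstance : Nonempty (Sylow (Nat.card K) ↥M))
  exact (Cfsg.Agent.S1429.result hG M h.hM hP1 (Nat.card K) hpM
    (fun hmem => hmem.elim hpσ (hκ _)) S).2.2

end Cfsg.Agent.Helper59
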