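import Cfsg.Statements.S1383
import Cfsg.Agent.Helper25.BG17Main
import Cfsg.Agent.Helper52.BG15cFN

/-!
# CALL BG83 (helper25, row S1383), piece TYP (double by helper59)
-/

set_option autoImplicit false

namespace Cfsg.Agent.Helper59

open Cfsg Subgroup

universe u

variable {G : Type u} [Group G] [Finite G]

/-- TYP. The type-P data when `K ≠ 1`, `U = 1`, `M_F = M_σ`. -/
theorem bg83_typeP (hG : IsMinSimpleOddOrder G) {M K U : Subgroup G} (hM : IsCoatom M)
    (hKU : IsSigmaDecomposition M K U) (hK1 : K ≠ ⊥) (hU : U = ⊥)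
    (hH : fittingHallOf M = sigmaCore M) :
    IsTypePWith M K ⊥ (sigmaCore M ⊓ centralizer (K : Set G)) := by
  subst hU
  have h64 := Cfsg.Agent.S1364.result hG M hM K ⊥ hKU hK1
  have h65 := Cfsg.Agent.S1365.result hG M hM K ⊥ hKU hK1
  obtain ⟨hs1, hs2, hs3, hs4, hs5⟩ := Cfsg.Agent.Helper46.bg17_snc_basic hG hM hKU hK1
  have hσF : sigmaCore M ≤ fittingOf M := by
    rw [← hH]
    exact (Cfsg.Agent.Helper52.bg15c_fit_normal M).2.2.2
  have hFE : sigmaCore M ⊔ (M ⊓ centralizer (sigmaCore M : Set G)) = fittingOf M := by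
    apply le_antisymm
    · exact sup_le hσF (Cfsg.Agent.Helper2.bg17_cent_le_fitting hG hM)
    · exact Cfsg.Agent.Helper80.bg17_fitting_le_sup M (sigmaCore M) hσF
        (Cfsg.Agent.Helper23.le_normalizer_piCoreOf (sigma M) M)
        (Cfsg.Agent.Helper25.bg16_hall_facts hG M hM).1
  refine
    { W₁_ne := hK1
      W₁_cyclic := hKU.cyclic
      W₁_hall := Cfsg.Agent.Helper74.bg17_K_hall hKU.hall
      W₁_compl := Cfsg.Agent.Helper47.bg17_W1_compl hG hM hKU hK1
      U_nilpotent := Cfsg.Agent.Helper25.bg17_nilpotent_of_comm ⊥ (fun a ha b hb => by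
        rw [Subgroup.mem_bot.mp ha, Subgroup.mem_bot.mp hb])
      U_normal := hKU.normal
      U_compl := ?_
      H_not_cyclic := h64.2.2.2
      derived_two_le := ?_
      fitting_eq := ?_
      fitting_le := Cfsg.Agent.Helper2.bg17_fitting_le_comm hG hM hKU hK1
        (fun k hk hk1 => Cfsg.Agent.Helper46.bg17_K_not_cent hG hM hKU.cyclic hKU.hall hk hk1)
      W₂_le := le_inf h64.2.2.1 h65.2
      W₂_centralizer := Cfsg.Agent.Helper91.bg17_W2_cent hG hM hKU hK1
      selfNormalizing := ?_ }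
  · rw [hH]
    exact Cfsg.Agent.Helper31.bg17_U_compl hG hM hKU hK1
  · rw [hH]
    exact (Cfsg.Agent.Helper37.bg17_derived_two hG hM hKU hK1).trans le_sup_left
  · rw [hH]
    exact hFE
  · refine ⟨hK1, hs1, hs2, hs3, hs4, ?_⟩
    intro X hX hne
    exact le_antisymm (Cfsg.Agent.Helper2.bg17_norm_le hG hM hKU hK1 X hX hne)
      (hs5 X (fun x hx => (hX hx).1))

end Cfsg.Agent.Helper59
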