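import Mathlib
import Cfsg.Agent.Helper56.ZSylow
import Cfsg.Agent.Helper1.FpfPQ

/-!
# Groups of odd order with a fixed-point-free ring representation

`Fpf ρ` (from `Cfsg.Agent.Helper56`) says that `ρ g - 1` is a unit for every `g ≠ 1`; Frobenius
complements have such representations (`Cfsg.Agent.Helper56.frobComp_fpf_ring`).

* `Cfsg.Agent.Helper59.fpfOdd_modEq_one`, `fpfOdd_modEq_of_conj` : an automorphism `w ↦ w ^ k` of a
  cyclic group, of order prime to `p`, fixing an element outside the subgroup of index `p ^ e`, has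
  `k ≡ 1 [MOD p ^ e]`.
* `Cfsg.Agent.Helper59.fpfOdd_pq` : an element of prime order normalising a subgroup of prime order
  centralises it.
* `Cfsg.Agent.Helper59.fpfOdd_commute` : in a group of odd order with a fixed-point-free
  representation, two elements of the same prime order commute;
  `Cfsg.Agent.Helper59.fpfOdd_mem_zpowers` : so there is only one subgroup of each prime order.
-/

set_option autoImplicit false

namespace Cfsg.Agent.Helper59

open Cfsg.Agent.Helper56

theorem fpfOdd_modEq_one {p e k j i : ℕ} (hp : p.Prime) (hj : Nat.Coprime j p)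
    (hkj : k ^ j ≡ 1 [MOD p ^ e]) (hik : k * i ≡ i [MOD p ^ e]) (hi : ¬ p ^ e ∣ i) :
    k ≡ 1 [MOD p ^ e] := by
  have : Fact p.Prime := ⟨hp⟩
  have h1 : ((k : ℕ) : ZMod (p ^ e)) ^ j = 1 := by
    have := (ZMod.natCast_eq_natCast_iff _ _ _).mpr hkj
    simpa using this
  have h2 : (orderOf ((k : ℕ) : ZMod (p ^ e))).Coprime (p ^ e) :=
    Nat.Coprime.pow_right e (Nat.Coprime.coprime_dvd_left (orderOf_dvd_of_pow_eq_one h1) hj)
  rcases ZMod.eq_one_or_isUnit_sub_one rfl ((k : ℕ) : ZMod (p ^ e)) h2 with h3 | h3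
  · apply (ZMod.natCast_eq_natCast_iff _ _ _).mp
    simpa using h3
  · exfalso
    apply hi
    rw [← ZMod.natCast_eq_zero_iff]
    have h4 : (((k : ℕ) : ZMod (p ^ e)) - 1) * ((i : ℕ) : ZMod (p ^ e)) = 0 := by
      have := (ZMod.natCast_eq_natCast_iff _ _ _).mpr hik
      rw [Nat.cast_mul] at this
      rw [sub_mul, one_mul, this, sub_self]
    exact h3.mul_right_eq_zero.mp h4

theorem fpfOdd_conj_pow {G : Type*} [Group G] {w g : G} {k : ℕ} (hk : g * w * g⁻¹ = w ^ k)
    (n : ℕ) : g ^ n * w * (g ^ n)⁻¹ = w ^ (k ^ n) := by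
  induction n with
  | zero => simp
  | succ n ih =>
    have h1 : g ^ (n + 1) * w * (g ^ (n + 1))⁻¹ = g * (g ^ n * w * (g ^ n)⁻¹) * g⁻¹ := by
      rw [pow_succ']; group
    rw [h1, ih, ← conj_pow, hk, ← pow_mul, pow_succ']

theorem fpfOdd_modEq_of_conj {G : Type*} [Group G] {w g : G} {k : ℕ}
    (hk : g * w * g⁻¹ = w ^ k) {p e : ℕ} (hp : p.Prime) (hpe : p ^ e ∣ orderOf w) {j : ℕ}
    (hj : Nat.Coprime j p) (hgj : Commute (g ^ j) w) {i : ℕ} (hi : ¬ p ^ e ∣ i)
    (hgi : Commute g (w ^ i)) : k ≡ 1 [MOD p ^ e] := by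
  have h1 : w ^ (k ^ j) = w ^ 1 := by
    rw [← fpfOdd_conj_pow hk j, pow_one, hgj.eq, mul_inv_cancel_right]
  have h2 : w ^ (k * i) = w ^ i := by
    rw [pow_mul, ← hk, conj_pow, hgi.eq, mul_inv_cancel_right]
  exact fpfOdd_modEq_one hp hj ((pow_eq_pow_iff_modEq.mp h1).of_dvd hpe)
    ((pow_eq_pow_iff_modEq.mp h2).of_dvd hpe) hi

theorem fpfOdd_pq {G R : Type*} [Group G] [Ring R] [Nontrivial R] {ρ : G →* R} (h : Fpf ρ)
    {p r : ℕ} (hp : p.Prime) (hr : r.Prime) {x v : G} (hv1 : v ≠ 1) (hvp : v ^ p = 1)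
    (hxr : x ^ r = 1) {k : ℕ} (hk : x * v * x⁻¹ = v ^ k) : Commute x v := by
  by_contra hne
  have hx1 : x ≠ 1 := by
    rintro rfl
    exact hne (Commute.one_left v)
  have hXY : ρ x * ρ v = ρ v ^ k * ρ x := by
    rw [← map_pow, ← map_mul, ← map_mul, ← hk]
    congr 1
    group
  have hY : ρ v ^ p = 1 := by rw [← map_pow, hvp, map_one]
  have hNQ := h.geom_sum_eq_zero hv1 hvp
  have hNP := h.geom_sum_eq_zero hx1 hxr
  have hcop : ∀ i, 1 ≤ i → i < r → Nat.Coprime p (1 + (p - 1) * k ^ i) := by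
    intro i hi1 hir
    rw [Nat.Prime.coprime_iff_not_dvd hp]
    intro hdvd
    apply hne
    have h1 : k ^ i ≡ 1 [MOD p] := by
      have h3 : k ^ i + (1 + (p - 1) * k ^ i) = 1 + p * k ^ i := by
        have : p - 1 + 1 = p := Nat.sub_add_cancel hp.one_lt.le
        calc k ^ i + (1 + (p - 1) * k ^ i) = 1 + (p - 1 + 1) * k ^ i := by ring
          _ = 1 + p * k ^ i := by rw [this]
      have h4 : k ^ i + (1 + (p - 1) * k ^ i) ≡ k ^ i + 0 [MOD p] :=
        Nat.ModEq.add_left _ ((Nat.modEq_zero_iff_dvd).mpr hdvd)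
      rw [h3, add_zero] at h4
      have h5 : 1 + p * k ^ i ≡ 1 [MOD p] := by
        unfold Nat.ModEq
        rw [Nat.add_mul_mod_self_left]
      exact h4.symm.trans h5
    have : Fact p.Prime := ⟨hp⟩
    have : Fact r.Prime := ⟨hr⟩
    have hov : orderOf v = p := orderOf_eq_prime hvp hv1
    have hox : orderOf x = r := orderOf_eq_prime hxr hx1
    have h6 : Commute (x ^ i) v := by
      have h7 := fpfOdd_conj_pow hk i
      have h8 : v ^ (k ^ i) = v ^ 1 := pow_eq_pow_iff_modEq.mpr (hov ▸ h1)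
      rw [h8, pow_one] at h7
      show x ^ i * v = v * x ^ i
      calc x ^ i * v = x ^ i * v * (x ^ i)⁻¹ * x ^ i := by group
        _ = v * x ^ i := by rw [h7]
    have hir' : Nat.Coprime i r :=
      (Nat.coprime_of_lt_prime (by omega) hir hr).symm
    obtain ⟨m, -, hm⟩ := Nat.exists_mul_mod_eq_one_of_coprime hir' hr.one_lt
    have h9 : (x ^ i) ^ m = x := by
      rw [← pow_mul, ← pow_mod_orderOf, hox, hm, pow_one]
    rw [← h9]
    exact h6.pow_left m
  have hp0 := Cfsg.Agent.Helper1.natCast_eq_zero_of_metacyclic (ρ x) (ρ v) k r p hp.pos hr.pos hXY hY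
    hNQ hNP hcop
  have : Fact p.Prime := ⟨hp⟩
  have : CharP R p := (CharP.charP_iff_prime_eq_zero hp).mpr hp0
  have h1 : (ρ v - 1) ^ p = 0 := by
    rw [sub_pow_char_of_commute p (Commute.one_right _), one_pow, hY, sub_self]
  have h2 : IsUnit ((ρ v - 1) ^ p) := (h v hv1).pow p
  rw [h1] at h2
  exact not_isUnit_zero h2

theorem fpfOdd_modEq_of_forall_prime {m k : ℕ} (hm : m ≠ 0)
    (h : ∀ p : ℕ, p.Prime → p ∣ m → k ≡ 1 [MOD p ^ m.factorization p]) : k ≡ 1 [MOD m] := by
  rw [Nat.modEq_iff_dvd, Int.natCast_dvd, Nat.dvd_iff_prime_pow_dvd_dvd]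
  intro p e hp hpe
  rcases Nat.eq_zero_or_pos e with rfl | he
  · simp
  · have hpm : p ∣ m := dvd_trans (dvd_pow_self p he.ne') hpe
    have h1 := h p hp hpm
    rw [Nat.modEq_iff_dvd, Int.natCast_dvd] at h1
    exact dvd_trans (pow_dvd_pow p ((hp.pow_dvd_iff_le_factorization hm).mp hpe)) h1

theorem fpfOdd_isZGroup {H R : Type*} [Group H] [Finite H] [Ring R] [Nontrivial R] {ρ : H →* R}
    (h : Fpf ρ) (hodd : Odd (Nat.card H)) : IsZGroup H := by
  apply h.isZGroup
  intro P
  have h1 : Nat.card P = 1 := by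
    obtain ⟨k, hk⟩ := IsPGroup.iff_card.mp P.isPGroup'
    have h2 : Nat.card P ∣ Nat.card H := Subgroup.card_subgroup_dvd_card _
    rcases Nat.eq_zero_or_pos k with rfl | hk0
    · simpa using hk
    · exfalso
      have h3 : 2 ∣ Nat.card H := dvd_trans (hk ▸ dvd_pow_self 2 hk0.ne') h2
      exact (Nat.not_even_iff_odd.mpr hodd) (even_iff_two_dvd.mpr h3)
  have : Subsingleton P := (Nat.card_eq_one_iff_unique.mp h1).1
  exact isCyclic_of_subsingleton

/-- In a group of odd order with a fixed-point-free representation, elements of prime order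
centralise the commutator subgroup. -/
theorem fpfOdd_centralizes_commutator {H R : Type*} [Group H] [Finite H] [Ring R] [Nontrivial R]
    {ρ : H →* R} (h : Fpf ρ) (hodd : Odd (Nat.card H)) {r : ℕ} (hr : r.Prime) {z : H}
    (hz : z ^ r = 1) : ∀ d ∈ commutator H, Commute z d := by
  have hZ : IsZGroup H := fpfOdd_isZGroup h hodd
  have hcyc : IsCyclic (commutator H) := IsZGroup.isCyclic_commutator H
  have hcop := IsZGroup.coprime_commutator_index H
  have : Fact r.Prime := ⟨hr⟩
  obtain ⟨⟨w, hwD⟩, hw⟩ := hcyc.exists_generator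
  have hgen : ∀ d ∈ commutator H, d ∈ Subgroup.zpowers w := by
    intro d hd
    obtain ⟨n, hn⟩ := Subgroup.mem_zpowers_iff.mp (hw ⟨d, hd⟩)
    exact Subgroup.mem_zpowers_iff.mpr ⟨n, by simpa using congrArg Subtype.val hn⟩
  suffices hzw : Commute z w by
    intro d hd
    obtain ⟨n, rfl⟩ := Subgroup.mem_zpowers_iff.mp (hgen d hd)
    exact hzw.zpow_right n
  have hm : orderOf w = Nat.card (commutator H) := by
    rw [← orderOf_eq_card_of_forall_mem_zpowers hw, Subgroup.orderOf_mk]
  have hm0 : orderOf w ≠ 0 := (orderOf_pos w).ne'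
  by_cases hrD : r ∣ Nat.card (commutator H)
  · have hri : Nat.Coprime (commutator H).index r :=
      (Nat.Coprime.coprime_dvd_left hrD hcop).symm
    have hzD : z ∈ commutator H := by
      by_cases hz1 : z = 1
      · rw [hz1]; exact one_mem _
      · have hoz : orderOf z = r := orderOf_eq_prime hz hz1
        obtain ⟨m, -, hm'⟩ := Nat.exists_mul_mod_eq_one_of_coprime hri hr.one_lt
        have h9 : (z ^ (commutator H).index) ^ m = z := by
          rw [← pow_mul, ← pow_mod_orderOf, hoz, hm', pow_one]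
        rw [← h9]
        exact Subgroup.pow_mem _ (Subgroup.pow_index_mem _ z) m
    obtain ⟨n, rfl⟩ := Subgroup.mem_zpowers_iff.mp (hgen z hzD)
    exact (Commute.refl w).zpow_left n
  · have hconj : z * w * z⁻¹ ∈ commutator H :=
      (inferInstance : (commutator H).Normal).conj_mem w hwD z
    obtain ⟨k, hk⟩ : ∃ k : ℕ, z * w * z⁻¹ = w ^ k := by
      have := hgen _ hconj
      rw [← mem_powers_iff_mem_zpowers] at this
      obtain ⟨k, hk⟩ := this
      exact ⟨k, hk.symm⟩
    have key : ∀ p : ℕ, p.Prime → p ∣ orderOf w →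
        k ≡ 1 [MOD p ^ (orderOf w).factorization p] := by
      intro p hp hpm
      have hpr : p ≠ r := by
        rintro rfl
        exact hrD (hm ▸ hpm)
      have hpos : 0 < orderOf w / p :=
        Nat.div_pos (Nat.le_of_dvd (orderOf_pos w) hpm) hp.pos
      apply fpfOdd_modEq_of_conj hk hp (Nat.ordProj_dvd _ _) (j := r)
        ((Nat.coprime_primes hr hp).mpr hpr.symm) (i := orderOf w / p)
      · rw [hz]; exact Commute.one_left w
      · intro hdvd
        have h1 : p ^ ((orderOf w).factorization p + 1) ∣ orderOf w := by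
          rw [pow_succ']
          exact Nat.mul_dvd_of_dvd_div hpm hdvd
        have := (hp.pow_dvd_iff_le_factorization hm0).mp h1
        omega
      · apply fpfOdd_pq h hp hr (v := w ^ (orderOf w / p)) ?_ ?_ hz (k := k) ?_
        · exact pow_ne_one_of_lt_orderOf hpos.ne' (Nat.div_lt_self (orderOf_pos w) hp.one_lt)
        · rw [← pow_mul, Nat.div_mul_cancel hpm, pow_orderOf_eq_one]
        · rw [← conj_pow, hk, ← pow_mul, ← pow_mul, mul_comm]
    have hk1 : k ≡ 1 [MOD orderOf w] := fpfOdd_modEq_of_forall_prime hm0 key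
    have h2 : w ^ k = w ^ 1 := pow_eq_pow_iff_modEq.mpr hk1
    rw [h2, pow_one] at hk
    show z * w = w * z
    calc z * w = z * w * z⁻¹ * z := by group
      _ = w * z := by rw [hk]

/-- In a group of odd order with a fixed-point-free representation, two elements of the same
prime order commute. -/
theorem fpfOdd_commute {H R : Type*} [Group H] [Finite H] [Ring R] [Nontrivial R]
    {ρ : H →* R} (h : Fpf ρ) (hodd : Odd (Nat.card H)) {r : ℕ} (hr : r.Prime) {x y : H}
    (hx : x ^ r = 1) (hy : y ^ r = 1) : Commute x y := by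
  have hx' := fpfOdd_centralizes_commutator h hodd hr hx
  have hy' := fpfOdd_centralizes_commutator h hodd hr hy
  have hZ : IsZGroup H := fpfOdd_isZGroup h hodd
  have hxE : x ∈ Subgroup.centralizer (commutator H : Set H) := by
    rw [Subgroup.mem_centralizer_iff]
    intro d hd
    exact (hx' d hd).eq.symm
  have hyE : y ∈ Subgroup.centralizer (commutator H : Set H) := by
    rw [Subgroup.mem_centralizer_iff]
    intro d hd
    exact (hy' d hd).eq.symm
  have hf : ((Abelianization.of (G := H)).comp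
      (Subgroup.centralizer (commutator H : Set H)).subtype).ker ≤
      Subgroup.center (Subgroup.centralizer (commutator H : Set H)) := by
    intro c hc
    rw [MonoidHom.mem_ker] at hc
    have hcD : (c : H) ∈ commutator H := by
      have h1 : (c : H) ∈ (Abelianization.of (G := H)).ker := MonoidHom.mem_ker.mpr hc
      rwa [Abelianization.ker_of] at h1
    rw [Subgroup.mem_center_iff]
    intro g
    apply Subtype.ext
    exact (Subgroup.mem_centralizer_iff.mp g.2 c hcD).symm
  have hcomm := MonoidHom.isMulCommutative_of_isCyclic_of_ker_le_center _ hf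
  have := hcomm.is_comm.comm ⟨x, hxE⟩ ⟨y, hyE⟩
  exact congrArg Subtype.val this

/-- In a group of odd order with a fixed-point-free representation there is only one subgroup of
each prime order. -/
theorem fpfOdd_mem_zpowers {H R : Type*} [Group H] [Finite H] [Ring R] [Nontrivial R]
    {ρ : H →* R} (h : Fpf ρ) (hodd : Odd (Nat.card H)) {r : ℕ} (hr : r.Prime) {x y : H}
    (hx : x ^ r = 1) (hx1 : x ≠ 1) (hy : y ^ r = 1) : y ∈ Subgroup.zpowers x :=
  h.mem_zpowers_of_commute hr (fpfOdd_commute h hodd hr hx hy).eq hx hy hx1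

end Cfsg.Agent.Helper59
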