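import Mathlib
import Cfsg.Agent.S0739
import Cfsg.Agent.Helper15.ZassenhausCount
import Cfsg.Agent.Helper6.Zass

/-!
# Simple Zassenhaus groups whose two-point stabilisers have odd order

Consequences of `Cfsg.Agent.S0739.result` (the two-point stabiliser is cyclic and inverted by every
element swapping the two points):

* `zassOdd_hnil` : a simple Zassenhaus group has no normal `q`-complement.
* `zassOdd_inverts`, `zassOdd_swap_sq`, `zassOdd_swap_orderOf` : elements swapping two points invert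
  the stabiliser of the two points, and are involutions.
* `zassOdd_swap_conj`, `zassOdd_isConj` : all involutions are conjugate.
* `zassOdd_card_swap`, `zassOdd_card_moved`, `zassOdd_card_invol` : the number of involutions.
-/

set_option autoImplicit false

namespace Cfsg.Agent.Helper59

open MulAction Cfsg.Agent.Helper15

section

variable {G Ω : Type*} [Group G] [MulAction G Ω]

/-- A simple Zassenhaus group has no normal subgroup of index `q ^ v_q(|G|)` for a prime `q`
dividing the order of a two-point stabiliser. -/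
theorem zassOdd_hnil [Finite G] [Finite Ω] [IsSimpleGroup G] (hZ : Cfsg.IsZassenhausGroup G Ω)
    {a b : Ω} (hab : a ≠ b) (q : ℕ) (hq : q.Prime)
    (hqd : q ∣ Nat.card ↥(stabilizer G a ⊓ stabilizer G b)) :
    ¬ ∃ N : Subgroup G, N.Normal ∧ N.index = q ^ (Nat.card G).factorization q := by
  rintro ⟨N, hN, hidx⟩
  have hcard := zass_card_group hZ hab
  have h3 := zass_three_le_card hZ
  have hqG : q ∣ Nat.card G := dvd_trans hqd (Subgroup.card_subgroup_dvd_card _)
  have hv : 0 < (Nat.card G).factorization q :=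
    hq.factorization_pos_of_dvd Nat.card_pos.ne' hqG
  rcases hN.eq_bot_or_eq_top with h | h
  · rw [h, Subgroup.index_bot] at hidx
    have h1 : Nat.card Ω ∣ q ^ (Nat.card G).factorization q := by
      rw [← hidx, hcard, mul_assoc]
      exact dvd_mul_right _ _
    have h2 : Nat.card Ω - 1 ∣ q ^ (Nat.card G).factorization q := by
      rw [← hidx, hcard]
      exact Dvd.dvd.mul_right (dvd_mul_left _ _) _
    obtain ⟨i, -, hi⟩ := (Nat.dvd_prime_pow hq).mp h1
    obtain ⟨j, -, hj⟩ := (Nat.dvd_prime_pow hq).mp h2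
    have hi0 : i ≠ 0 := by
      rintro rfl
      rw [pow_zero] at hi
      omega
    have hj0 : j ≠ 0 := by
      rintro rfl
      rw [pow_zero] at hj
      omega
    have hq1 : q ∣ Nat.card Ω := hi ▸ dvd_pow_self q hi0
    have hq2 : q ∣ Nat.card Ω - 1 := hj ▸ dvd_pow_self q hj0
    have h4 : q ∣ Nat.card Ω - (Nat.card Ω - 1) := Nat.dvd_sub hq1 hq2
    have h5 : Nat.card Ω - (Nat.card Ω - 1) = 1 := by omega
    rw [h5] at h4
    exact hq.one_lt.ne' (Nat.dvd_one.mp h4)
  · rw [h, Subgroup.index_top] at hidx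
    have := Nat.one_lt_pow hv.ne' hq.one_lt
    omega

variable [Finite G] [Finite Ω] [IsSimpleGroup G] (hZ : Cfsg.IsZassenhausGroup G Ω)
  {a b : Ω} (hab : a ≠ b) (hodd : Odd (Nat.card ↥(stabilizer G a ⊓ stabilizer G b)))

include hZ hab hodd

/-- In a simple Zassenhaus group with two-point stabilisers of odd order, an element swapping two
points inverts their stabiliser. -/
theorem zassOdd_inverts {c d : Ω} (hcd : c ≠ d) {s : G} (hsc : s • c = d) (hsd : s • d = c) :
    ∀ k ∈ stabilizer G c ⊓ stabilizer G d, s * k * s⁻¹ = k⁻¹ := by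
  classical
  have := Fintype.ofFinite Ω
  have hodd' : Odd (Nat.card ↥(stabilizer G c ⊓ stabilizer G d)) := by
    rw [zass_card_stab_inf hZ hab hcd]
    exact hodd
  exact (Cfsg.Agent.S0739.result hZ hcd hodd'
    (fun q hq hqd => zassOdd_hnil hZ hcd q hq hqd)).2.2 s hsc hsd

omit [Finite G] [Finite Ω] [IsSimpleGroup G] in
theorem zassOdd_odd_orderOf {c d : Ω} (hcd : c ≠ d) {k : G}
    (hk : k ∈ stabilizer G c ⊓ stabilizer G d) : Odd (orderOf k) := by
  apply Odd.of_dvd_nat _ (Subgroup.orderOf_dvd_natCard _ hk)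
  rw [zass_card_stab_inf hZ hab hcd]
  exact hodd

theorem zassOdd_swap_sq {c d : Ω} (hcd : c ≠ d) {s : G} (hsc : s • c = d) (hsd : s • d = c) :
    s * s = 1 := by
  have hinv := zassOdd_inverts hZ hab hodd hcd hsc hsd
  have hmem : s * s ∈ stabilizer G c ⊓ stabilizer G d := by
    refine Subgroup.mem_inf.mpr ⟨?_, ?_⟩
    · rw [mem_stabilizer_iff, mul_smul, hsc, hsd]
    · rw [mem_stabilizer_iff, mul_smul, hsd, hsc]
  have h1 := hinv _ hmem
  have h2 : s * (s * s) * s⁻¹ = s * s := by group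
  rw [h2] at h1
  have h3 : (s * s) * (s * s) = 1 := mul_eq_one_iff_eq_inv.mpr h1
  have hodd' := zassOdd_odd_orderOf hZ hab hodd hcd hmem
  have h4 : orderOf (s * s) ∣ 2 := orderOf_dvd_of_pow_eq_one (by rw [pow_two, h3])
  rcases (Nat.dvd_prime Nat.prime_two).mp h4 with h5 | h5
  · exact orderOf_eq_one_iff.mp h5
  · rw [h5] at hodd'
    exact absurd hodd' (by decide)

theorem zassOdd_swap_orderOf {c d : Ω} (hcd : c ≠ d) {s : G} (hsc : s • c = d)
    (hsd : s • d = c) : orderOf s = 2 := by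
  have h1 := zassOdd_swap_sq hZ hab hodd hcd hsc hsd
  have h2 : s ≠ 1 := by
    rintro rfl
    rw [one_smul] at hsc
    exact hcd hsc
  have : Fact (Nat.Prime 2) := ⟨Nat.prime_two⟩
  exact orderOf_eq_prime (by rw [pow_two]; exact h1) h2

theorem zassOdd_swap_conj {c d : Ω} (hcd : c ≠ d) {s s' : G} (hsc : s • c = d)
    (hsd : s • d = c) (hsc' : s' • c = d) (hsd' : s' • d = c) : ∃ j : G, j * s * j⁻¹ = s' := by
  have hinv := zassOdd_inverts hZ hab hodd hcd hsc hsd
  have hmem : s⁻¹ * s' ∈ stabilizer G c ⊓ stabilizer G d := by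
    refine Subgroup.mem_inf.mpr ⟨?_, ?_⟩
    · rw [mem_stabilizer_iff, mul_smul, hsc', inv_smul_eq_iff, hsc]
    · rw [mem_stabilizer_iff, mul_smul, hsd', inv_smul_eq_iff, hsd]
  obtain ⟨m, hm⟩ := zassOdd_odd_orderOf hZ hab hodd hcd hmem
  refine ⟨(s⁻¹ * s') ^ m, ?_⟩
  have h1 := hinv ((s⁻¹ * s') ^ m) (Subgroup.pow_mem _ hmem m)
  have h2 : s⁻¹ * (s⁻¹ * s') ^ m * s = ((s⁻¹ * s') ^ m)⁻¹ := by
    have h3 : (s⁻¹ * s') ^ m = s⁻¹ * ((s⁻¹ * s') ^ m)⁻¹ * s := by
      rw [← h1]; group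
    calc s⁻¹ * (s⁻¹ * s') ^ m * s = (s⁻¹ * ((s⁻¹ * s') ^ m)⁻¹ * s)⁻¹ := by group
      _ = ((s⁻¹ * s') ^ m)⁻¹ := by rw [← h3]
  have h4 : ((s⁻¹ * s') ^ m)⁻¹ * ((s⁻¹ * s') ^ m)⁻¹ = s⁻¹ * s' := by
    have h5 : (s⁻¹ * s') ^ (2 * m + 1) = 1 := by
      rw [← hm]; exact pow_orderOf_eq_one _
    have h6 : (s⁻¹ * s') ^ m * (s⁻¹ * s') ^ m * (s⁻¹ * s') = 1 := by
      rw [← pow_add, ← pow_succ, ← h5]
      congr 1
      ring
    calc ((s⁻¹ * s') ^ m)⁻¹ * ((s⁻¹ * s') ^ m)⁻¹
        = ((s⁻¹ * s') ^ m)⁻¹ * ((s⁻¹ * s') ^ m)⁻¹ *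
          ((s⁻¹ * s') ^ m * (s⁻¹ * s') ^ m * (s⁻¹ * s')) := by rw [h6, mul_one]
      _ = s⁻¹ * s' := by group
  calc (s⁻¹ * s') ^ m * s * ((s⁻¹ * s') ^ m)⁻¹
      = s * (s⁻¹ * (s⁻¹ * s') ^ m * s) * ((s⁻¹ * s') ^ m)⁻¹ := by group
    _ = s * (((s⁻¹ * s') ^ m)⁻¹ * ((s⁻¹ * s') ^ m)⁻¹) := by rw [h2]; group
    _ = s * (s⁻¹ * s') := by rw [h4]
    _ = s' := by group

/-- All involutions of a simple Zassenhaus group with two-point stabilisers of odd order are
conjugate. -/
theorem zassOdd_isConj {x y : G} (hx : orderOf x = 2) (hy : orderOf y = 2) : IsConj x y := by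
  have hx1 : x ≠ 1 := by
    rintro rfl
    simp at hx
  have hy1 : y ≠ 1 := by
    rintro rfl
    simp at hy
  have hx2 : x * x = 1 := by rw [← pow_two, ← hx, pow_orderOf_eq_one]
  have hy2 : y * y = 1 := by rw [← pow_two, ← hy, pow_orderOf_eq_one]
  obtain ⟨c, hc⟩ := zass_exists_moved hZ hx1
  obtain ⟨c', hc'⟩ := zass_exists_moved hZ hy1
  obtain ⟨g, hg1, hg2⟩ := zass_two_trans hZ (Ne.symm hc) (Ne.symm hc')
  have h1 : (g * x * g⁻¹) • c' = y • c' := by
    rw [← hg1, mul_smul, mul_smul, inv_smul_smul, hg2, hg1]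
  have h2 : (g * x * g⁻¹) • (y • c') = c' := by
    rw [← hg2, mul_smul, mul_smul, inv_smul_smul, ← mul_smul x x c, hx2, one_smul, hg1]
  have h3 : y • (y • c') = c' := by rw [← mul_smul, hy2, one_smul]
  obtain ⟨j, hj⟩ := zassOdd_swap_conj hZ hab hodd (Ne.symm hc') h1 h2 rfl h3
  rw [isConj_iff]
  exact ⟨j * g, by rw [← hj]; group⟩

omit [Finite G] [Finite Ω] [IsSimpleGroup G] hodd in
/-- Exactly `|G_{ab}|` elements swap two given points. -/
theorem zassOdd_card_swap {c d : Ω} (hcd : c ≠ d) :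
    Nat.card {s : G // s • c = d ∧ s • d = c} =
      Nat.card ↥(stabilizer G a ⊓ stabilizer G b) := by
  obtain ⟨s₀, h1, h2⟩ := zass_two_trans hZ hcd (Ne.symm hcd)
  rw [← zass_card_stab_inf hZ hab hcd]
  apply Nat.card_congr
  refine
    { toFun := fun s => ⟨s₀⁻¹ * s.1, Subgroup.mem_inf.mpr ⟨?_, ?_⟩⟩
      invFun := fun k => ⟨s₀ * k.1, ?_, ?_⟩
      left_inv := fun s => Subtype.ext (by simp)
      right_inv := fun k => Subtype.ext (by simp) }
  · rw [mem_stabilizer_iff, mul_smul, s.2.1, inv_smul_eq_iff, h1]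
  · rw [mem_stabilizer_iff, mul_smul, s.2.2, inv_smul_eq_iff, h2]
  · rw [mul_smul, (Subgroup.mem_inf.mp k.2).1, h1]
  · rw [mul_smul, (Subgroup.mem_inf.mp k.2).2, h2]

omit [IsSimpleGroup G] in
/-- An involution moves all points if the degree is even, and all but one if it is odd. -/
theorem zassOdd_card_moved {x : G} (hx : orderOf x = 2) :
    Nat.card {c : Ω // x • c ≠ c} =
      if Odd (Nat.card Ω) then Nat.card Ω - 1 else Nat.card Ω := by
  classical
  have := Fintype.ofFinite Ω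
  have hx1 : x ≠ 1 := by
    rintro rfl
    simp at hx
  have hx2 : x * x = 1 := by rw [← pow_two, ← hx, pow_orderOf_eq_one]
  obtain ⟨c, hc⟩ := zass_exists_moved hZ hx1
  have hS := (Cfsg.Agent.S0740.result hZ (Ne.symm hc)).2.1 x hx rfl
    (by rw [← mul_smul, hx2, one_smul])
  have hcompl : Nat.card {c : Ω // x • c ≠ c} = Nat.card Ω - Nat.card (fixedBy Ω x) := by
    have h1 : Nat.card (fixedBy Ω x) = Fintype.card {c : Ω // x • c = c} :=
      Nat.card_eq_fintype_card
    rw [h1, Nat.card_eq_fintype_card, Nat.card_eq_fintype_card]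
    exact Fintype.card_subtype_compl _
  rw [hcompl]
  rw [← Nat.card_eq_fintype_card] at hS
  split_ifs with hO
  · rw [hS.1 hO]
  · have hE : Even (Nat.card Ω) := Nat.not_odd_iff_even.mp hO
    rcases hS.2 hE with h0 | h2
    · rw [h0, Nat.sub_zero]
    · exfalso
      obtain ⟨p, q, hpq, -⟩ := Nat.card_eq_two_iff.mp h2
      have hp : x • (p : Ω) = p := p.2
      have hq : x • (q : Ω) = q := q.2
      have hpq' : (p : Ω) ≠ q := fun h => hpq (Subtype.ext h)
      have hmem : x ∈ stabilizer G (p : Ω) ⊓ stabilizer G (q : Ω) :=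
        Subgroup.mem_inf.mpr ⟨hp, hq⟩
      have := zassOdd_odd_orderOf hZ hab hodd hpq' hmem
      rw [hx] at this
      exact absurd this (by decide)

/-- The number of involutions of a simple Zassenhaus group with two-point stabilisers of odd
order `e`: it is `e * |Ω|` for odd degree and `e * (|Ω| - 1)` for even degree. -/
theorem zassOdd_card_invol :
    Nat.card {x : G // orderOf x = 2} *
        (if Odd (Nat.card Ω) then Nat.card Ω - 1 else Nat.card Ω) =
      Nat.card Ω * (Nat.card Ω - 1) * Nat.card ↥(stabilizer G a ⊓ stabilizer G b) := by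
  classical
  have := Fintype.ofFinite Ω
  have := Fintype.ofFinite G
  -- count the pairs (involution, moved point) in two ways
  have e1 : {p : G × Ω // orderOf p.1 = 2 ∧ p.1 • p.2 ≠ p.2} ≃
      Σ x : {x : G // orderOf x = 2}, {c : Ω // x.1 • c ≠ c} :=
    { toFun := fun p => ⟨⟨p.1.1, p.2.1⟩, ⟨p.1.2, p.2.2⟩⟩
      invFun := fun q => ⟨(q.1.1, q.2.1), q.1.2, q.2.2⟩
      left_inv := fun p => rfl
      right_inv := fun q => rfl }
  have e2 : {p : G × Ω // orderOf p.1 = 2 ∧ p.1 • p.2 ≠ p.2} ≃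
      Σ c : Ω, Σ d : {d : Ω // d ≠ c}, {s : G // s • c = d.1 ∧ s • d.1 = c} :=
    { toFun := fun p => ⟨p.1.2, ⟨p.1.1 • p.1.2, p.2.2⟩, ⟨p.1.1, rfl, by
        have h2 : p.1.1 * p.1.1 = 1 := by
          have h3 := pow_orderOf_eq_one p.1.1
          rw [p.2.1, pow_two] at h3
          exact h3
        rw [← mul_smul, h2, one_smul]⟩⟩
      invFun := fun q => ⟨(q.2.2.1, q.1),
        zassOdd_swap_orderOf hZ hab hodd (Ne.symm q.2.1.2) q.2.2.2.1 q.2.2.2.2, by
          show q.2.2.1 • q.1 ≠ q.1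
          rw [q.2.2.2.1]
          exact q.2.1.2⟩
      left_inv := fun p => rfl
      right_inv := by
        rintro ⟨c, ⟨d, hd⟩, ⟨s, hs1, hs2⟩⟩
        dsimp only at hs1
        subst hs1
        rfl }
  have h1 : Nat.card {p : G × Ω // orderOf p.1 = 2 ∧ p.1 • p.2 ≠ p.2} =
      Nat.card {x : G // orderOf x = 2} *
        (if Odd (Nat.card Ω) then Nat.card Ω - 1 else Nat.card Ω) := by
    rw [Nat.card_congr e1, Nat.card_sigma]
    rw [Finset.sum_congr rfl (fun x _ => zassOdd_card_moved hZ hab hodd x.2)]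
    rw [Finset.sum_const, Finset.card_univ, smul_eq_mul, ← Nat.card_eq_fintype_card]
  have h2 : Nat.card {p : G × Ω // orderOf p.1 = 2 ∧ p.1 • p.2 ≠ p.2} =
      Nat.card Ω * (Nat.card Ω - 1) * Nat.card ↥(stabilizer G a ⊓ stabilizer G b) := by
    rw [Nat.card_congr e2, Nat.card_sigma]
    have h3 : ∀ c : Ω, Nat.card (Σ d : {d : Ω // d ≠ c}, {s : G // s • c = d.1 ∧ s • d.1 = c}) =
        (Nat.card Ω - 1) * Nat.card ↥(stabilizer G a ⊓ stabilizer G b) := by
      intro c
      rw [Nat.card_sigma]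
      rw [Finset.sum_congr rfl (fun d _ => zassOdd_card_swap hZ hab (Ne.symm d.2))]
      rw [Finset.sum_const, Finset.card_univ, smul_eq_mul]
      congr 1
      rw [Fintype.card_subtype_compl, Fintype.card_subtype_eq, Nat.card_eq_fintype_card]
    rw [Finset.sum_congr rfl (fun c _ => h3 c)]
    rw [Finset.sum_const, Finset.card_univ, smul_eq_mul, Nat.card_eq_fintype_card, mul_assoc]
  rw [← h1, h2]

end

end Cfsg.Agent.Helper59
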