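import Mathlib

set_option autoImplicit false
set_option linter.unusedSectionVars false
set_option linter.style.haveILetI false

namespace Cfsg.Agent.Helper59

open MulAction

/-- Burnside's lemma with `Nat.card`. -/
theorem burnside_nat {G Ω : Type*} [Group G] [MulAction G Ω] [Finite Ω] [Fintype G] :
    ∑ g : G, Nat.card (fixedBy Ω g) = Nat.card (orbitRel.Quotient G Ω) * Nat.card G := by
  classical
  haveI : ∀ g : G, Fintype (fixedBy Ω g) := fun g => Fintype.ofFinite _
  haveI : Fintype (orbitRel.Quotient G Ω) := Fintype.ofFinite _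
  have := MulAction.sum_card_fixedBy_eq_card_orbits_mul_card_group G Ω
  simpa [Nat.card_eq_fintype_card] using this

/-- Burnside's lemma for a subgroup, the sum taken over the ambient group. -/
theorem burnside_subgroup {G Ω : Type*} [Group G] [MulAction G Ω] [Finite Ω] [Fintype G]
    (D : Subgroup G) [DecidablePred (· ∈ D)] :
    ∑ g ∈ Finset.univ.filter (· ∈ D), Nat.card (fixedBy Ω g) =
      Nat.card (orbitRel.Quotient D Ω) * Nat.card D := by
  rw [← burnside_nat (G := D) (Ω := Ω)]
  rw [Finset.sum_subtype (Finset.univ.filter (· ∈ D)) (p := (· ∈ D)) (by simp)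
    (fun g => Nat.card (fixedBy Ω g))]
  rfl

/-- If a subgroup `D` of a transitive group contains all derangements, then `D` is transitive
and every element outside `D` has exactly one fixed point. -/
theorem key_of_derangements_mem {G Ω : Type*} [Group G] [Finite G] [MulAction G Ω] [Finite Ω]
    [Nonempty Ω] (htrans : IsPretransitive G Ω) (D : Subgroup G)
    (hD : ∀ g : G, (∀ ω : Ω, g • ω ≠ ω) → g ∈ D) :
    IsPretransitive D Ω ∧ ∀ g : G, g ∉ D → Nat.card (fixedBy Ω g) = 1 := by
  classical
  haveI := Fintype.ofFinite G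
  -- every element outside D has at least one fixed point
  have hfix : ∀ g : G, g ∉ D → 1 ≤ Nat.card (fixedBy Ω g) := by
    intro g hg
    by_contra hlt
    apply hg
    apply hD
    intro ω hω
    apply hlt
    have : Nonempty (fixedBy Ω g) := ⟨⟨ω, hω⟩⟩
    exact Nat.one_le_iff_ne_zero.mpr (Nat.card_ne_zero.mpr ⟨this, inferInstance⟩)
  have hG : ∑ g : G, Nat.card (fixedBy Ω g) = Nat.card G := by
    rw [burnside_nat]
    haveI : Subsingleton (orbitRel.Quotient G Ω) :=
      (pretransitive_iff_subsingleton_quotient G Ω).mp htrans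
    haveI : Nonempty (orbitRel.Quotient G Ω) := ⟨Quotient.mk'' (Classical.arbitrary Ω)⟩
    rw [Nat.card_unique, one_mul]
  have hDsum := burnside_subgroup (Ω := Ω) D
  have hsplit := Finset.sum_filter_add_sum_filter_not (Finset.univ : Finset G) (· ∈ D)
    (fun g => Nat.card (fixedBy Ω g))
  have hrest : ∑ g ∈ Finset.univ.filter (fun g => ¬ g ∈ D), Nat.card (fixedBy Ω g) =
      ∑ g ∈ Finset.univ.filter (fun g => ¬ g ∈ D), (Nat.card (fixedBy Ω g) - 1) +
        (Finset.univ.filter (fun g : G => ¬ g ∈ D)).card := by
    rw [Finset.card_eq_sum_ones, ← Finset.sum_add_distrib]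
    apply Finset.sum_congr rfl
    intro g hg
    rw [Finset.mem_filter] at hg
    have := hfix g hg.2
    omega
  have hcard : (Finset.univ.filter (fun g : G => ¬ g ∈ D)).card + Nat.card D = Nat.card G := by
    have h1 := Finset.card_filter_add_card_filter_not (s := (Finset.univ : Finset G)) (· ∈ D)
    have h2 : (Finset.univ.filter (fun g : G => g ∈ D)).card = Nat.card D := by
      rw [Nat.card_eq_fintype_card, Fintype.card_subtype]
    rw [Finset.card_univ, h2] at h1
    rw [Nat.card_eq_fintype_card (α := G)]
    omega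
  have hDpos : 0 < Nat.card D := Nat.card_pos
  have hcD : 1 ≤ Nat.card (orbitRel.Quotient D Ω) := by
    haveI : Nonempty (orbitRel.Quotient D Ω) := ⟨Quotient.mk'' (Classical.arbitrary Ω)⟩
    exact Nat.card_pos
  -- c_D * |D| + rest' + (|G| - |D|) = |G|
  set c := Nat.card (orbitRel.Quotient D Ω) with hc
  set R := ∑ g ∈ Finset.univ.filter (fun g => ¬ g ∈ D), (Nat.card (fixedBy Ω g) - 1) with hR
  have hmain : c * Nat.card D + R + (Finset.univ.filter (fun g : G => ¬ g ∈ D)).card =
      Nat.card G := by
    rw [← hG, ← hsplit, hDsum, hrest]; ring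
  have hc1 : c * Nat.card D ≤ Nat.card D := by omega
  have hc1' : c = 1 := by
    have : c ≤ 1 := by
      by_contra h
      have : 2 * Nat.card D ≤ c * Nat.card D := Nat.mul_le_mul_right _ (by omega)
      omega
    omega
  have hR0 : R = 0 := by
    rw [hc1'] at hmain
    omega
  constructor
  · rw [pretransitive_iff_subsingleton_quotient]
    exact (Finite.card_le_one_iff_subsingleton).mp (by omega)
  · intro g hg
    have := (Finset.sum_eq_zero_iff.mp hR0) g (by simp [hg])
    have := hfix g hg
    omega

end Cfsg.Agent.Helper59
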