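import Mathlib
import Cfsg.Agent.Helper59.Derange

set_option autoImplicit false
set_option linter.unusedSectionVars false
set_option linter.style.haveILetI false

namespace Cfsg.Agent.Helper59

open MulAction

/-- Orbit-stabilizer for a subgroup `L` of `G`, the stabilizer written inside `G`. -/
theorem card_orbit_subgroup {G Ω : Type*} [Group G] [MulAction G Ω] (L : Subgroup G) (β : Ω) :
    Nat.card (orbit L β) * Nat.card (L ⊓ stabilizer G β : Subgroup G) = Nat.card L := by
  have h1 : Nat.card (orbit L β) * Nat.card (stabilizer L β) = Nat.card L := by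
    rw [← Nat.card_prod]
    exact Nat.card_congr (orbitProdStabilizerEquivGroup L β)
  have h2 : stabilizer L β = (stabilizer G β).subgroupOf L := by
    ext x
    simp [Subgroup.mem_subgroupOf, mem_stabilizer_iff, Subgroup.smul_def]
  have h3 : Nat.card ((stabilizer G β).subgroupOf L) = Nat.card (L ⊓ stabilizer G β : Subgroup G) := by
    rw [← Subgroup.inf_subgroupOf_left]
    exact Nat.card_congr (Subgroup.subgroupOfEquivOfLe inf_le_left).toEquiv
  rw [← h3, ← h2]
  exact h1

/-- An element fixing two distinct points lies in every subgroup containing all derangements. -/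
theorem mem_of_fix_two {G Ω : Type*} [Group G] [Finite G] [MulAction G Ω] [Finite Ω]
    (htrans : IsPretransitive G Ω) (D : Subgroup G)
    (hD : ∀ g : G, (∀ ω : Ω, g • ω ≠ ω) → g ∈ D) {α β : Ω} (hαβ : α ≠ β) {g : G}
    (hα : g • α = α) (hβ : g • β = β) : g ∈ D := by
  haveI : Nonempty Ω := ⟨α⟩
  by_contra hg
  have h1 := (key_of_derangements_mem htrans D hD).2 g hg
  rw [Nat.card_eq_one_iff_unique] at h1
  obtain ⟨hs, -⟩ := h1
  have := hs.elim (⟨α, hα⟩ : fixedBy Ω g) ⟨β, hβ⟩
  exact hαβ (congrArg Subtype.val this)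

/-- The orbit of `β ≠ α` under the stabilizer of `α` has size `[G : D]` times the size of the orbit
of `β` under `D ∩ G_α`. -/
theorem card_orbit_stabilizer_eq {G Ω : Type*} [Group G] [Finite G] [MulAction G Ω] [Finite Ω]
    (htrans : IsPretransitive G Ω) (D : Subgroup G)
    (hD : ∀ g : G, (∀ ω : Ω, g • ω ≠ ω) → g ∈ D) {α β : Ω} (hαβ : α ≠ β) :
    Nat.card (orbit (stabilizer G α) β) =
      D.index * Nat.card (orbit (D ⊓ stabilizer G α : Subgroup G) β) := by
  haveI : Nonempty Ω := ⟨α⟩
  haveI hDt : IsPretransitive D Ω := (key_of_derangements_mem htrans D hD).1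
  have hn : 0 < Nat.card Ω := Nat.card_pos
  -- n * |H| = |G|
  have e1 : Nat.card Ω * Nat.card (stabilizer G α) = Nat.card G := by
    have := card_orbit_subgroup (⊤ : Subgroup G) α
    rw [top_inf_eq] at this
    have h2 : Nat.card (orbit (⊤ : Subgroup G) α) = Nat.card Ω := by
      have : orbit (⊤ : Subgroup G) α = Set.univ := by
        ext x
        simp only [Set.mem_univ, iff_true]
        obtain ⟨g, hg⟩ := exists_smul_eq G α x
        exact ⟨⟨g, Subgroup.mem_top g⟩, hg⟩
      rw [this]
      exact Nat.card_congr (Equiv.Set.univ Ω)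
    rw [h2] at this
    rw [this]
    exact Nat.card_congr Subgroup.topEquiv.toEquiv
  -- n * |D ⊓ H| = |D|
  have e2 : Nat.card Ω * Nat.card (D ⊓ stabilizer G α : Subgroup G) = Nat.card D := by
    have := card_orbit_subgroup D α
    have h2 : Nat.card (orbit D α) = Nat.card Ω := by
      rw [orbit_eq_univ]
      exact Nat.card_congr (Equiv.Set.univ Ω)
    rw [h2] at this
    exact this
  -- |Hβ| * |H ⊓ G_β| = |H|
  have e3 := card_orbit_subgroup (stabilizer G α) β
  -- |(D ⊓ H)β| * |H ⊓ G_β| = |D ⊓ H|
  have e4 := card_orbit_subgroup (D ⊓ stabilizer G α) β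
  have hK : (D ⊓ stabilizer G α) ⊓ stabilizer G β = stabilizer G α ⊓ stabilizer G β := by
    apply le_antisymm
    · exact inf_le_inf_right _ inf_le_right
    · refine le_inf (le_inf ?_ inf_le_left) inf_le_right
      intro g hg
      rw [Subgroup.mem_inf, mem_stabilizer_iff, mem_stabilizer_iff] at hg
      exact mem_of_fix_two htrans D hD hαβ hg.1 hg.2
  rw [hK] at e4
  have e5 : D.index * Nat.card D = Nat.card G := D.index_mul_card
  have hKpos : 0 < Nat.card (stabilizer G α ⊓ stabilizer G β : Subgroup G) := Nat.card_pos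
  set K := Nat.card (stabilizer G α ⊓ stabilizer G β : Subgroup G)
  set n := Nat.card Ω
  set H := Nat.card (stabilizer G α)
  set DH := Nat.card (D ⊓ stabilizer G α : Subgroup G)
  set t := D.index
  set o := Nat.card (orbit (stabilizer G α) β)
  set o' := Nat.card (orbit (D ⊓ stabilizer G α : Subgroup G) β)
  -- n * H = t * (n * DH)
  have e6 : n * H = n * (t * DH) := by
    rw [e1, ← e5, ← e2]; ring
  have e7 : H = t * DH := Nat.eq_of_mul_eq_mul_left hn e6
  have e8 : o * K = (t * o') * K := by
    rw [e3, e7, ← e4]; ring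
  exact Nat.eq_of_mul_eq_mul_right hKpos e8

/-- A set not containing `α` and invariant under the stabilizer of `α` has size divisible by the
index of any subgroup containing all derangements. -/
theorem index_dvd_card_of_invariant {G Ω : Type*} [Group G] [Finite G] [MulAction G Ω] [Finite Ω]
    [DecidableEq Ω]
    (htrans : IsPretransitive G Ω) (D : Subgroup G)
    (hD : ∀ g : G, (∀ ω : Ω, g • ω ≠ ω) → g ∈ D) (α : Ω) :
    ∀ S : Finset Ω, α ∉ S → (∀ g ∈ stabilizer G α, ∀ x ∈ S, g • x ∈ S) → D.index ∣ S.card := by
  classical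
  haveI := Fintype.ofFinite Ω
  intro S
  induction S using Finset.strongInduction with
  | H S ih =>
    intro hα hinv
    rcases S.eq_empty_or_nonempty with rfl | ⟨β, hβ⟩
    · simp
    · have hαβ : α ≠ β := fun h => hα (h ▸ hβ)
      set O : Finset Ω := (orbit (stabilizer G α) β).toFinset with hO
      have hOS : O ⊆ S := by
        intro x hx
        rw [hO, Set.mem_toFinset] at hx
        obtain ⟨g, rfl⟩ := hx
        exact hinv g.1 g.2 β hβ
      have hβO : β ∈ O := by
        rw [hO, Set.mem_toFinset]; exact mem_orbit_self β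
      have hss : S \ O ⊂ S := Finset.sdiff_ssubset hOS ⟨β, hβO⟩
      have h1 : D.index ∣ (S \ O).card := by
        apply ih (S \ O) hss
        · intro h
          exact hα (Finset.mem_sdiff.mp h).1
        · intro g hg x hx
          rw [Finset.mem_sdiff] at hx ⊢
          refine ⟨hinv g hg x hx.1, ?_⟩
          intro hgx
          apply hx.2
          rw [hO, Set.mem_toFinset] at hgx ⊢
          obtain ⟨h, hh⟩ := hgx
          refine ⟨(⟨g, hg⟩ : stabilizer G α)⁻¹ * h, ?_⟩
          have hh' : h • β = g • x := hh
          show ((⟨g, hg⟩ : stabilizer G α)⁻¹ * h) • β = x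
          rw [mul_smul, hh']
          show g⁻¹ • g • x = x
          rw [inv_smul_smul]
      have h2 : D.index ∣ O.card := by
        rw [hO, Set.toFinset_card, ← Nat.card_eq_fintype_card,
          card_orbit_stabilizer_eq htrans D hD hαβ]
        exact dvd_mul_right _ _
      rw [← Finset.card_sdiff_add_card_eq_card hOS]
      exact dvd_add h1 h2

end Cfsg.Agent.Helper59
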