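import Mathlib
import Cfsg.Agent.Helper59.Derange

set_option autoImplicit false
set_option linter.unusedSectionVars false
set_option linter.style.haveILetI false
set_option linter.unusedVariables false

namespace Cfsg.Agent.Helper59

open MulAction

/-- Jordan: a transitive finite group on at least two points has a derangement. -/
theorem jordan_derangement {T Δ : Type*} [Group T] [Finite T] [MulAction T Δ] [Finite Δ]
    (htrans : IsPretransitive T Δ) (x y : Δ) (hxy : x ≠ y) : ∃ t : T, ∀ δ : Δ, t • δ ≠ δ := by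
  by_contra hno
  push Not at hno
  haveI : Nonempty Δ := ⟨x⟩
  have h := (key_of_derangements_mem htrans (⊥ : Subgroup T) (by
    intro g hg
    obtain ⟨δ, hδ⟩ := hno g
    exact absurd hδ (hg δ))).1
  obtain ⟨g, hg⟩ := h.exists_smul_eq x y
  have h1 : (g : T) = 1 := Subgroup.mem_bot.mp g.2
  apply hxy
  rw [← hg]
  show x = (g : T) • x
  rw [h1, one_smul]

/-- A nontrivial finite group has a minimal normal subgroup. -/
theorem min_normal_exists {G : Type*} [Group G] [Finite G] [Nontrivial G] :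
    ∃ N : Subgroup G, N.Normal ∧ N ≠ ⊥ ∧
      ∀ M : Subgroup G, M.Normal → M ≠ ⊥ → M ≤ N → M = N := by
  classical
  let S : Set ℕ := {k | ∃ N : Subgroup G, N.Normal ∧ N ≠ ⊥ ∧ Nat.card N = k}
  have hS : S.Nonempty := by
    obtain ⟨x, hx⟩ := exists_ne (1 : G)
    refine ⟨Nat.card (⊤ : Subgroup G), ⊤, inferInstance, ?_, rfl⟩
    intro h
    exact hx (Subgroup.mem_bot.mp (h ▸ Subgroup.mem_top x))
  obtain ⟨N, hN1, hN2, hN3⟩ := Nat.sInf_mem hS
  refine ⟨N, hN1, hN2, fun M hM1 hM2 hMN => ?_⟩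
  apply Subgroup.eq_of_le_of_card_ge hMN
  rw [hN3]
  exact Nat.sInf_le ⟨M, hM1, hM2, rfl⟩

/-- Conjugate elements have the same order. -/
theorem isConj_orderOf_eq {G : Type*} [Group G] {a b : G} (h : IsConj a b) :
    orderOf a = orderOf b := by
  obtain ⟨g, hg⟩ := isConj_iff.mp h
  have h1 : orderOf (MulAut.conj g a) = orderOf a := MulEquiv.orderOf_eq _ _
  rw [MulAut.conj_apply, hg] at h1
  exact h1.symm

/-- A nontrivial subgroup with trivial centre has order divisible by two distinct primes. -/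
theorem two_primes_dvd_card {G : Type*} [Group G] [Finite G] (T : Subgroup G) (hT1 : T ≠ ⊥)
    (hZ : ∀ z ∈ T, (∀ t ∈ T, t * z = z * t) → z = 1) :
    ∃ r₁ r₂ : ℕ, r₁.Prime ∧ r₂.Prime ∧ r₁ ≠ r₂ ∧ r₁ ∣ Nat.card T ∧ r₂ ∣ Nat.card T := by
  obtain ⟨p, hp, hpd⟩ := Nat.exists_prime_and_dvd (n := Nat.card T) (by
    intro h1
    exact hT1 (Subgroup.card_eq_one.mp h1))
  by_contra hno
  push Not at hno
  have hcardT : ∃ k, Nat.card T = p ^ k := by
    refine ⟨_, Nat.eq_prime_pow_of_unique_prime_dvd Nat.card_pos.ne' (fun {d} hd hdvd => ?_)⟩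
    by_contra hdp
    exact hno p d hp hd (Ne.symm hdp) hpd hdvd
  obtain ⟨k, hk⟩ := hcardT
  haveI : Fact p.Prime := ⟨hp⟩
  have hTp : IsPGroup p T := IsPGroup.of_card hk
  haveI : Nontrivial T := (Subgroup.nontrivial_iff_ne_bot T).mpr hT1
  haveI hZ' := hTp.center_nontrivial
  obtain ⟨z, hz⟩ := exists_ne (1 : Subgroup.center T)
  apply hz
  apply Subtype.ext
  apply Subtype.ext
  apply hZ _ (z : T).2
  intro t ht
  have := Subgroup.mem_center_iff.mp z.2 ⟨t, ht⟩
  exact congrArg Subtype.val this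

/-- In a faithful primitive action every nontrivial normal subgroup is transitive. -/
theorem normal_isPretransitive {G Ω : Type*} [Group G] [MulAction G Ω] [FaithfulSMul G Ω]
    (hprim : IsPreprimitive G Ω) (M : Subgroup G) (hM : M.Normal) (hM1 : M ≠ ⊥) :
    IsPretransitive M Ω := by
  haveI := hM
  haveI := hprim
  apply IsQuasiPreprimitive.isPretransitive_of_normal
  intro hfix
  apply hM1
  rw [Subgroup.eq_bot_iff_forall]
  intro m hm
  apply FaithfulSMul.eq_of_smul_eq_smul (α := Ω)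
  intro ω
  rw [one_smul]
  have : ω ∈ fixedPoints M Ω := by rw [hfix]; trivial
  exact this ⟨m, hm⟩

/-- An element commuting with a transitive subgroup and fixing a point is trivial
(faithful action). -/
theorem eq_one_of_commute_transitive {G Ω : Type*} [Group G] [MulAction G Ω] [FaithfulSMul G Ω]
    (C : Subgroup G) (hC : IsPretransitive C Ω) (n : G)
    (hcomm : ∀ c ∈ C, c * n = n * c) (a : Ω) (ha : n • a = a) : n = 1 := by
  apply FaithfulSMul.eq_of_smul_eq_smul (α := Ω)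
  intro ω
  rw [one_smul]
  obtain ⟨c, hc⟩ := hC.exists_smul_eq a ω
  have hc' : (c : G) • a = ω := hc
  rw [← hc', ← mul_smul, ← hcomm c c.2, mul_smul, ha]

/-- A normal abelian regular subgroup all of whose nonidentity elements are conjugate in `G`
forces `G` to be 2-transitive. -/
theorem two_transitive_of_regular_normal {G Ω : Type*} [Group G] [MulAction G Ω]
    (N : Subgroup G) (hNn : N.Normal) (hNab : ∀ x ∈ N, ∀ y ∈ N, x * y = y * x)
    (hNt : IsPretransitive N Ω)
    (hconj : ∀ x ∈ N, ∀ y ∈ N, x ≠ 1 → y ≠ 1 → IsConj x y) :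
    IsMultiplyPretransitive G Ω 2 := by
  rw [is_two_pretransitive_iff]
  intro a b c d hab hcd
  obtain ⟨n₁, hn₁⟩ := hNt.exists_smul_eq a b
  obtain ⟨n₂, hn₂⟩ := hNt.exists_smul_eq c d
  have hn₁' : (n₁ : G) • a = b := hn₁
  have hn₂' : (n₂ : G) • c = d := hn₂
  have h1 : (n₁ : G) ≠ 1 := by
    intro h
    rw [h, one_smul] at hn₁'
    exact hab hn₁'
  have h2 : (n₂ : G) ≠ 1 := by
    intro h
    rw [h, one_smul] at hn₂'
    exact hcd hn₂'
  obtain ⟨g, hg⟩ := isConj_iff.mp (hconj _ n₁.2 _ n₂.2 h1 h2)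
  obtain ⟨m, hm⟩ := hNt.exists_smul_eq (g • a) c
  have hm' : (m : G) • g • a = c := hm
  refine ⟨(m : G) * g, by rw [mul_smul]; exact hm', ?_⟩
  have h3 : (m : G) * g * (n₁ : G) = (n₂ : G) * ((m : G) * g) := by
    have h4 : g * (n₁ : G) = (n₂ : G) * g := by
      rw [← hg]; group
    rw [mul_assoc, h4, ← mul_assoc, hNab _ m.2 _ n₂.2, mul_assoc]
  rw [← hn₁', ← mul_smul, h3, mul_smul, mul_smul, hm', hn₂']

/-- Key theorem: in a faithful primitive group which is not almost simple, a nonabelian minimal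
normal subgroup forces three pairwise non-conjugate derangements. -/
theorem three_derangements {G Ω : Type*} [Group G] [Finite G] [MulAction G Ω] [FaithfulSMul G Ω]
    [Finite Ω] (hprim : IsPreprimitive G Ω)
    (hnas : ¬ ∃ T : Subgroup G, T.Normal ∧ IsSimpleGroup T ∧ ¬ IsMulCommutative T ∧
      Subgroup.centralizer (T : Set G) = ⊥)
    (N : Subgroup G) (hNn : N.Normal) (hN1 : N ≠ ⊥)
    (hNmin : ∀ M : Subgroup G, M.Normal → M ≠ ⊥ → M ≤ N → M = N)
    (hNc : ¬ ∀ x ∈ N, ∀ y ∈ N, x * y = y * x) :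
    ∃ d₁ d₂ d₃ : G, (∀ ω : Ω, d₁ • ω ≠ ω) ∧ (∀ ω : Ω, d₂ • ω ≠ ω) ∧ (∀ ω : Ω, d₃ • ω ≠ ω) ∧
      ¬ IsConj d₁ d₂ ∧ ¬ IsConj d₁ d₃ ∧ ¬ IsConj d₂ d₃ := by
  classical
  have hnt : ∀ M : Subgroup G, M.Normal → M ≠ ⊥ → IsPretransitive M Ω :=
    fun M hM hM1 => normal_isPretransitive hprim M hM hM1
  have hsemi : ∀ (C : Subgroup G), IsPretransitive C Ω → ∀ n : G,
      (∀ c ∈ C, c * n = n * c) → ∀ a : Ω, n • a = a → n = 1 :=
    fun C hC n hcomm a ha => eq_one_of_commute_transitive C hC n hcomm a ha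
  have hNt := hnt N hNn hN1
  haveI := hNn
  have hZN : N ⊓ Subgroup.centralizer (N : Set G) = ⊥ := by
    by_contra h
    have hZNn : (N ⊓ Subgroup.centralizer (N : Set G)).Normal := inferInstance
    have hZNN := hNmin _ hZNn h inf_le_left
    apply hNc
    intro x hx y hy
    have : y ∈ N ⊓ Subgroup.centralizer (N : Set G) := by rw [hZNN]; exact hy
    exact Subgroup.mem_centralizer_iff.mp (Subgroup.mem_inf.mp this).2 x hx
  by_cases hsimple : IsSimpleGroup N
  · -- `N` simple: its centralizer is nontrivial, hence transitive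
    have hC : Subgroup.centralizer (N : Set G) ≠ ⊥ := by
      intro hC
      apply hnas
      refine ⟨N, hNn, hsimple, ?_, hC⟩
      intro hcomm
      apply hNc
      intro x hx y hy
      exact congrArg Subtype.val (hcomm.is_comm.comm (⟨x, hx⟩ : N) ⟨y, hy⟩)
    have hCn : (Subgroup.centralizer (N : Set G)).Normal := inferInstance
    have hCt := hnt _ hCn hC
    have hNsemi : ∀ n ∈ N, ∀ a : Ω, n • a = a → n = 1 := by
      intro n hn a ha
      apply hsemi _ hCt n ?_ a ha
      intro c hc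
      exact (Subgroup.mem_centralizer_iff.mp hc n hn).symm
    obtain ⟨r₁, r₂, hr₁, hr₂, hr12, hd₁, hd₂⟩ := two_primes_dvd_card N hN1 (by
      intro z hz hzc
      have : z ∈ N ⊓ Subgroup.centralizer (N : Set G) :=
        Subgroup.mem_inf.mpr ⟨hz, Subgroup.mem_centralizer_iff.mpr hzc⟩
      rw [hZN] at this
      exact Subgroup.mem_bot.mp this)
    haveI : Fact r₁.Prime := ⟨hr₁⟩
    haveI : Fact r₂.Prime := ⟨hr₂⟩
    obtain ⟨n₁, hn₁⟩ := exists_prime_orderOf_dvd_card' (G := N) r₁ hd₁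
    obtain ⟨n₂, hn₂⟩ := exists_prime_orderOf_dvd_card' (G := N) r₂ hd₂
    obtain ⟨c, hcC, hc1⟩ : ∃ c ∈ Subgroup.centralizer (N : Set G), c ≠ 1 := by
      by_contra h
      push Not at h
      exact hC ((Subgroup.eq_bot_iff_forall _).mpr h)
    have ho₁ : orderOf (n₁ : G) = r₁ := by rw [Subgroup.orderOf_coe]; exact hn₁
    have ho₂ : orderOf (n₂ : G) = r₂ := by rw [Subgroup.orderOf_coe]; exact hn₂
    refine ⟨n₁, n₂, c, ?_, ?_, ?_, ?_, ?_, ?_⟩
    · intro ω hω
      have := hNsemi _ n₁.2 ω hω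
      rw [this, orderOf_one] at ho₁
      exact hr₁.one_lt.ne ho₁
    · intro ω hω
      have := hNsemi _ n₂.2 ω hω
      rw [this, orderOf_one] at ho₂
      exact hr₂.one_lt.ne ho₂
    · intro ω hω
      exact hc1 (hsemi N hNt c (fun n hn => Subgroup.mem_centralizer_iff.mp hcC n hn) ω hω)
    · intro h
      apply hr12
      rw [← ho₁, ← ho₂]
      exact isConj_orderOf_eq h
    · intro h
      obtain ⟨g, hg⟩ := isConj_iff.mp h
      have hcN : c ∈ N := by rw [← hg]; exact hNn.conj_mem _ n₁.2 g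
      apply hc1
      have : c ∈ N ⊓ Subgroup.centralizer (N : Set G) := Subgroup.mem_inf.mpr ⟨hcN, hcC⟩
      rw [hZN] at this
      exact Subgroup.mem_bot.mp this
    · intro h
      obtain ⟨g, hg⟩ := isConj_iff.mp h
      have hcN : c ∈ N := by rw [← hg]; exact hNn.conj_mem _ n₂.2 g
      apply hc1
      have : c ∈ N ⊓ Subgroup.centralizer (N : Set G) := Subgroup.mem_inf.mpr ⟨hcN, hcC⟩
      rw [hZN] at this
      exact Subgroup.mem_bot.mp this
  · -- `N` not simple
    have hex : ∃ T : Subgroup G, T ≤ N ∧ T ≠ ⊥ ∧ T ≠ N ∧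
        ∀ n ∈ N, ∀ t ∈ T, n * t * n⁻¹ ∈ T := by
      by_contra hno
      apply hsimple
      haveI : Nontrivial N := (Subgroup.nontrivial_iff_ne_bot N).mpr hN1
      refine { toNontrivial := inferInstance, eq_bot_or_eq_top_of_normal := fun K hK => ?_ }
      by_contra hK2
      push Not at hK2
      apply hno
      refine ⟨K.map N.subtype, ?_, ?_, ?_, ?_⟩
      · rintro x ⟨y, _, rfl⟩
        exact y.2
      · intro h
        apply hK2.1
        exact (Subgroup.map_eq_bot_iff_of_injective K N.subtype_injective).mp h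
      · intro h
        apply hK2.2
        rw [eq_top_iff]
        intro x _
        have hx : (x : G) ∈ K.map N.subtype := by rw [h]; exact x.2
        obtain ⟨y, hy, hyx⟩ := hx
        have : y = x := Subtype.ext hyx
        rwa [this] at hy
      · rintro n hn t ⟨y, hy, rfl⟩
        exact ⟨⟨n, hn⟩ * y * ⟨n, hn⟩⁻¹, hK.conj_mem y hy ⟨n, hn⟩, rfl⟩
    obtain ⟨T, ⟨hTN, hT1, hTN', hTinv⟩, hTmin⟩ : ∃ T : Subgroup G,
        (T ≤ N ∧ T ≠ ⊥ ∧ T ≠ N ∧ ∀ n ∈ N, ∀ t ∈ T, n * t * n⁻¹ ∈ T) ∧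
        ∀ T' : Subgroup G, T' ≤ T → T' ≠ ⊥ → (∀ n ∈ N, ∀ t ∈ T', n * t * n⁻¹ ∈ T') →
          T' = T := by
      let S : Set ℕ := {k | ∃ T : Subgroup G,
        (T ≤ N ∧ T ≠ ⊥ ∧ T ≠ N ∧ ∀ n ∈ N, ∀ t ∈ T, n * t * n⁻¹ ∈ T) ∧ Nat.card T = k}
      have hS : S.Nonempty := by
        obtain ⟨T, hT⟩ := hex
        exact ⟨_, T, hT, rfl⟩
      obtain ⟨T, hT, hTc⟩ := Nat.sInf_mem hS
      refine ⟨T, hT, fun T' hT'T hT'1 hT'inv => ?_⟩
      apply Subgroup.eq_of_le_of_card_ge hT'T
      rw [hTc]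
      apply Nat.sInf_le
      refine ⟨T', ⟨hT'T.trans hT.1, hT'1, ?_, hT'inv⟩, rfl⟩
      intro h
      apply hT.2.2.1
      exact le_antisymm hT.1 (h ▸ hT'T)
    -- conjugates of `T`
    let cj : G → Subgroup G := fun g => T.map (MulAut.conj g).toMonoidHom
    have hcj_mem : ∀ g x, x ∈ cj g ↔ ∃ t ∈ T, g * t * g⁻¹ = x := by
      intro g x
      constructor
      · rintro ⟨t, ht, rfl⟩
        exact ⟨t, ht, rfl⟩
      · rintro ⟨t, ht, rfl⟩
        exact ⟨t, ht, rfl⟩
    have hcjN : ∀ g, cj g ≤ N := by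
      intro g x hx
      obtain ⟨t, ht, rfl⟩ := (hcj_mem g x).mp hx
      exact hNn.conj_mem t (hTN ht) g
    have hcjinv : ∀ g, ∀ n ∈ N, ∀ x ∈ cj g, n * x * n⁻¹ ∈ cj g := by
      intro g n hn x hx
      obtain ⟨t, ht, rfl⟩ := (hcj_mem g x).mp hx
      refine (hcj_mem g _).mpr ⟨(g⁻¹ * n * g) * t * (g⁻¹ * n * g)⁻¹, hTinv _ ?_ t ht, by group⟩
      have := hNn.conj_mem n hn g⁻¹
      simpa using this
    have hcjcard : ∀ g, Nat.card (cj g) = Nat.card T := by
      intro g
      exact Subgroup.card_map_of_injective (MulAut.conj g).injective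
    have hcomm2 : ∀ T' : Subgroup G, T' ≤ N → (∀ n ∈ N, ∀ t ∈ T', n * t * n⁻¹ ∈ T') →
        Nat.card T' = Nat.card T → T' ≠ T → ∀ t ∈ T, ∀ t' ∈ T', t * t' = t' * t := by
      intro T' hT'N hT'inv hcard hne t ht t' ht'
      have hinf : T ⊓ T' = ⊥ := by
        by_contra h
        have h1 := hTmin (T ⊓ T') inf_le_left h
          (fun n hn x hx => ⟨hTinv n hn x hx.1, hT'inv n hn x hx.2⟩)
        have h2 : T ≤ T' := by
          rw [← h1]
          exact inf_le_right
        exact hne (Subgroup.eq_of_le_of_card_ge h2 hcard.le).symm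
      have hmem : t * t' * t⁻¹ * t'⁻¹ ∈ T ⊓ T' := by
        constructor
        · have := hTinv t' (hT'N ht') t⁻¹ (T.inv_mem ht)
          have h3 : t * t' * t⁻¹ * t'⁻¹ = t * (t' * t⁻¹ * t'⁻¹) := by group
          rw [h3]
          exact T.mul_mem ht this
        · have := hT'inv t (hTN ht) t' ht'
          exact T'.mul_mem this (T'.inv_mem ht')
      rw [hinf, Subgroup.mem_bot] at hmem
      calc t * t' = (t * t' * t⁻¹ * t'⁻¹) * (t' * t) := by group
        _ = t' * t := by rw [hmem, one_mul]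
    have hdecomp : ∀ n ∈ N, ∃ c ∈ N, (∀ t ∈ T, c * t = t * c) ∧ ∃ τ ∈ T, n = c * τ := by
      let P : Subgroup G :=
        { carrier := {x | ∃ c ∈ N, (∀ t ∈ T, c * t = t * c) ∧ ∃ τ ∈ T, x = c * τ}
          one_mem' := ⟨1, N.one_mem, fun t _ => by simp, 1, T.one_mem, by simp⟩
          mul_mem' := by
            rintro x y ⟨c, hc, hcc, τ, hτ, rfl⟩ ⟨c', hc', hcc', τ', hτ', rfl⟩
            refine ⟨c * c', N.mul_mem hc hc', ?_, τ * τ', T.mul_mem hτ hτ', ?_⟩
            · intro t ht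
              rw [mul_assoc, hcc' t ht, ← mul_assoc, hcc t ht, mul_assoc]
            · calc c * τ * (c' * τ') = c * (τ * c') * τ' := by group
                _ = c * (c' * τ) * τ' := by rw [hcc' τ hτ]
                _ = c * c' * (τ * τ') := by group
          inv_mem' := by
            rintro x ⟨c, hc, hcc, τ, hτ, rfl⟩
            refine ⟨c⁻¹, N.inv_mem hc, ?_, τ⁻¹, T.inv_mem hτ, ?_⟩
            · intro t ht
              have := hcc t ht
              calc c⁻¹ * t = c⁻¹ * (t * c) * c⁻¹ := by group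
                _ = c⁻¹ * (c * t) * c⁻¹ := by rw [this]
                _ = t * c⁻¹ := by group
            · have h2 := hcc τ hτ
              calc (c * τ)⁻¹ = (τ * c)⁻¹ := by rw [h2]
                _ = c⁻¹ * τ⁻¹ := by group }
      have hNP : N ≤ P := by
        have hclosure : Subgroup.normalClosure (T : Set G) = N := by
          apply hNmin _ Subgroup.normalClosure_normal
          · intro h
            apply hT1
            rw [eq_bot_iff, ← h]
            exact Subgroup.le_normalClosure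
          · exact Subgroup.normalClosure_le_normal hTN
        rw [← hclosure]
        show Subgroup.closure (Group.conjugatesOfSet (T : Set G)) ≤ P
        rw [Subgroup.closure_le]
        intro x hx
        rw [Group.mem_conjugatesOfSet_iff] at hx
        obtain ⟨t, ht, hconj⟩ := hx
        obtain ⟨g, hg⟩ := isConj_iff.mp hconj
        have hxcj : x ∈ cj g := (hcj_mem g x).mpr ⟨t, ht, hg⟩
        by_cases hcase : cj g = T
        · rw [hcase] at hxcj
          exact ⟨1, N.one_mem, fun t _ => by simp, x, hxcj, by simp⟩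
        · refine ⟨x, hcjN g hxcj, fun t' ht' => ?_, 1, T.one_mem, by simp⟩
          exact (hcomm2 (cj g) (hcjN g) (hcjinv g) (hcjcard g) hcase t' ht' x hxcj).symm
      intro n hn
      exact hNP hn
    -- the centre of `T` is trivial
    have hZT : T ⊓ Subgroup.centralizer (T : Set G) = ⊥ := by
      by_contra hZ1
      have hZinv : ∀ n ∈ N, ∀ x ∈ T ⊓ Subgroup.centralizer (T : Set G),
          n * x * n⁻¹ ∈ T ⊓ Subgroup.centralizer (T : Set G) := by
        intro n hn x hx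
        have hx1 := (Subgroup.mem_inf.mp hx).1
        have hx2 := (Subgroup.mem_inf.mp hx).2
        refine Subgroup.mem_inf.mpr ⟨hTinv n hn x hx1, Subgroup.mem_centralizer_iff.mpr ?_⟩
        intro t ht
        have h1 := Subgroup.mem_centralizer_iff.mp hx2 (n⁻¹ * t * n) (by
          have := hTinv n⁻¹ (N.inv_mem hn) t ht
          simpa using this)
        calc t * (n * x * n⁻¹) = n * (n⁻¹ * t * n * x) * n⁻¹ := by group
          _ = n * (x * (n⁻¹ * t * n)) * n⁻¹ := by rw [h1]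
          _ = n * x * n⁻¹ * t := by group
      have hZTT : T ⊓ Subgroup.centralizer (T : Set G) = T := hTmin _ inf_le_left hZ1 hZinv
      have hTab : ∀ t ∈ T, ∀ t' ∈ T, t' * t = t * t' := by
        intro t ht t' ht'
        have : t ∈ T ⊓ Subgroup.centralizer (T : Set G) := by rw [hZTT]; exact ht
        exact Subgroup.mem_centralizer_iff.mp (Subgroup.mem_inf.mp this).2 t' ht'
      have hNT : ∀ n ∈ N, ∀ t ∈ T, n * t = t * n := by
        intro n hn t ht
        obtain ⟨c, hc, hcc, τ, hτ, rfl⟩ := hdecomp n hn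
        rw [mul_assoc, hTab t ht τ hτ, ← mul_assoc, hcc t ht, mul_assoc]
      apply hT1
      rw [eq_bot_iff, ← hZN]
      intro t ht
      refine Subgroup.mem_inf.mpr ⟨hTN ht, Subgroup.mem_centralizer_iff.mpr ?_⟩
      intro n hn
      exact hNT n hn t ht
    obtain ⟨r₁, r₂, hr₁, hr₂, hr12, hd₁, hd₂⟩ := two_primes_dvd_card T hT1 (by
      intro z hz hzc
      have : z ∈ T ⊓ Subgroup.centralizer (T : Set G) :=
        Subgroup.mem_inf.mpr ⟨hz, Subgroup.mem_centralizer_iff.mpr hzc⟩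
      rw [hZT] at this
      exact Subgroup.mem_bot.mp this)
    haveI : Fact r₁.Prime := ⟨hr₁⟩
    haveI : Fact r₂.Prime := ⟨hr₂⟩
    have hexg : ∃ g : G, cj g ≠ T := by
      by_contra hall
      push Not at hall
      have hTn : T.Normal := ⟨fun t ht g => by
        have : g * t * g⁻¹ ∈ cj g := (hcj_mem g _).mpr ⟨t, ht, rfl⟩
        rwa [hall g] at this⟩
      exact hTN' (hNmin T hTn hT1 hTN)
    obtain ⟨g, hg⟩ := hexg
    -- the centralizer of `T` in `N`
    let Cs : Subgroup G := N ⊓ Subgroup.centralizer (T : Set G)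
    have hCs_mem : ∀ c, c ∈ Cs ↔ c ∈ N ∧ ∀ t ∈ T, t * c = c * t := by
      intro c
      show c ∈ N ⊓ Subgroup.centralizer (T : Set G) ↔ _
      rw [Subgroup.mem_inf, Subgroup.mem_centralizer_iff]
      exact Iff.rfl
    have hcjC : ∀ g, cj g ≠ T → cj g ≤ Cs := by
      intro g hg x hx
      exact (hCs_mem x).mpr ⟨hcjN g hx, fun t ht =>
        hcomm2 (cj g) (hcjN g) (hcjinv g) (hcjcard g) hg t ht x hx⟩
    have hTCs : ∀ z ∈ T, z ∈ Cs → z = 1 := by
      intro z hz hzC
      have : z ∈ T ⊓ Subgroup.centralizer (T : Set G) :=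
        Subgroup.mem_inf.mpr ⟨hz, Subgroup.mem_centralizer_iff.mpr ((hCs_mem z).mp hzC).2⟩
      rw [hZT] at this
      exact Subgroup.mem_bot.mp this
    have hL : ∀ z ∈ T, z ≠ 1 → ∀ y ∈ Cs, y ≠ 1 → ∀ h : G, h * (z * y) * h⁻¹ ∉ T := by
      intro z hz hz1 y hy hy1 h hmem
      have hzy : z * y ∈ cj h⁻¹ := (hcj_mem h⁻¹ _).mpr ⟨h * (z * y) * h⁻¹, hmem, by group⟩
      by_cases hcase : cj h⁻¹ = T
      · rw [hcase] at hzy
        apply hy1
        have hyT : y ∈ T := by
          have := T.mul_mem (T.inv_mem hz) hzy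
          rwa [inv_mul_cancel_left] at this
        exact hTCs y hyT hy
      · apply hz1
        have hzyC := hcjC h⁻¹ hcase hzy
        have hzC : z ∈ Cs := by
          have := Cs.mul_mem hzyC (Cs.inv_mem hy)
          rwa [mul_inv_cancel_right] at this
        exact hTCs z hz hzC
    obtain ⟨t₁, ht₁⟩ := exists_prime_orderOf_dvd_card' (G := T) r₁ hd₁
    obtain ⟨t₂, ht₂⟩ := exists_prime_orderOf_dvd_card' (G := T) r₂ hd₂
    have ho₁ : orderOf (t₁ : G) = r₁ := by rw [Subgroup.orderOf_coe]; exact ht₁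
    have ho₂ : orderOf (t₂ : G) = r₂ := by rw [Subgroup.orderOf_coe]; exact ht₂
    have hconj_ord : ∀ t : G, orderOf (g * t * g⁻¹) = orderOf t := by
      intro t
      have h1 : orderOf (MulAut.conj g t) = orderOf t := MulEquiv.orderOf_eq _ _
      rw [MulAut.conj_apply] at h1
      exact h1
    have hy₁mem : g * (t₁ : G) * g⁻¹ ∈ cj g := (hcj_mem g _).mpr ⟨t₁, t₁.2, rfl⟩
    have hy₂mem : g * (t₂ : G) * g⁻¹ ∈ cj g := (hcj_mem g _).mpr ⟨t₂, t₂.2, rfl⟩
    have hy₁ord : orderOf (g * (t₁ : G) * g⁻¹) = r₁ := by rw [hconj_ord, ho₁]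
    have hy₂ord : orderOf (g * (t₂ : G) * g⁻¹) = r₂ := by rw [hconj_ord, ho₂]
    by_cases hCt : IsPretransitive Cs Ω
    · -- `T` is semiregular
      have hTsemi : ∀ t ∈ T, ∀ a : Ω, t • a = a → t = 1 := by
        intro t ht a ha
        apply hsemi Cs hCt t ?_ a ha
        intro c hc
        exact (((hCs_mem c).mp hc).2 t ht).symm
      have hcomm : Commute (t₁ : G) (g * (t₂ : G) * g⁻¹) :=
        hcomm2 (cj g) (hcjN g) (hcjinv g) (hcjcard g) hg (t₁ : G) t₁.2 _ hy₂mem
      have hcop : Nat.Coprime (orderOf (t₁ : G)) (orderOf (g * (t₂ : G) * g⁻¹)) := by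
        rw [ho₁, hy₂ord]
        exact (Nat.coprime_primes hr₁ hr₂).mpr hr12
      have hord : orderOf ((t₁ : G) * (g * (t₂ : G) * g⁻¹)) = r₁ * r₂ := by
        rw [hcomm.orderOf_mul_eq_mul_orderOf_of_coprime hcop, ho₁, hy₂ord]
      have hder₁ : ∀ ω : Ω, (t₁ : G) • ω ≠ ω := by
        intro ω hω
        have := hTsemi _ t₁.2 ω hω
        rw [this, orderOf_one] at ho₁
        exact hr₁.one_lt.ne ho₁
      have hder₂ : ∀ ω : Ω, (t₂ : G) • ω ≠ ω := by
        intro ω hω
        have := hTsemi _ t₂.2 ω hω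
        rw [this, orderOf_one] at ho₂
        exact hr₂.one_lt.ne ho₂
      have hder₃ : ∀ ω : Ω, ((t₁ : G) * (g * (t₂ : G) * g⁻¹)) • ω ≠ ω := by
        intro ω hω
        have h0 : (t₁ : G) * (g * (t₂ : G) * g⁻¹) ∈ stabilizer G ω := hω
        have h1 : ((t₁ : G) * (g * (t₂ : G) * g⁻¹)) ^ orderOf (g * (t₂ : G) * g⁻¹) ∈
            stabilizer G ω := (stabilizer G ω).pow_mem h0 _
        rw [hcomm.mul_pow, pow_orderOf_eq_one, mul_one] at h1
        obtain ⟨m, hm⟩ := exists_pow_eq_self_of_coprime (x := (t₁ : G))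
          (n := orderOf (g * (t₂ : G) * g⁻¹)) hcop.symm
        have h2 : ((t₁ : G) ^ orderOf (g * (t₂ : G) * g⁻¹)) ^ m ∈ stabilizer G ω :=
          (stabilizer G ω).pow_mem h1 m
        rw [hm] at h2
        exact hder₁ ω h2
      refine ⟨t₁, t₂, (t₁ : G) * (g * (t₂ : G) * g⁻¹), hder₁, hder₂, hder₃, ?_, ?_, ?_⟩
      · intro h
        apply hr12
        rw [← ho₁, ← ho₂]
        exact isConj_orderOf_eq h
      · intro h
        have := isConj_orderOf_eq h
        rw [ho₁, hord] at this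
        have h2 := hr₂.two_le
        have h1 := hr₁.pos
        nlinarith
      · intro h
        have := isConj_orderOf_eq h
        rw [ho₂, hord] at this
        have h2 := hr₁.two_le
        have h1 := hr₂.pos
        nlinarith
    · -- `Cs` is not transitive
      obtain ⟨a, b, hab⟩ : ∃ a b : Ω, ∀ c ∈ Cs, c • a ≠ b := by
        by_contra h
        push Not at h
        exact hCt ⟨fun a b => by
          obtain ⟨c, hc, hcab⟩ := h a b
          exact ⟨⟨c, hc⟩, hcab⟩⟩
      let S : Subgroup T :=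
        { carrier := {t | ∃ c ∈ Cs, c • a = (t : G) • a}
          one_mem' := ⟨1, Cs.one_mem, by simp⟩
          mul_mem' := by
            rintro t t' ⟨c, hc, hct⟩ ⟨c', hc', hct'⟩
            refine ⟨c' * c, Cs.mul_mem hc' hc, ?_⟩
            have hcomm' : (t : G) * c' = c' * t := ((hCs_mem c').mp hc').2 t t.2
            calc (c' * c) • a = c' • (t : G) • a := by rw [mul_smul, hct]
              _ = ((t : G) * c') • a := by rw [hcomm', mul_smul]
              _ = (t : G) • (t' : G) • a := by rw [mul_smul, hct']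
              _ = ((t * t' : T) : G) • a := by rw [Subgroup.coe_mul, mul_smul]
          inv_mem' := by
            rintro t ⟨c, hc, hct⟩
            refine ⟨c⁻¹, Cs.inv_mem hc, ?_⟩
            have hcomm' : (t : G) * c⁻¹ = c⁻¹ * t :=
              ((hCs_mem c⁻¹).mp (Cs.inv_mem hc)).2 t t.2
            have h1 : (t : G) • c⁻¹ • a = a := by
              rw [← mul_smul, hcomm', mul_smul, ← hct, inv_smul_smul]
            rw [Subgroup.coe_inv, eq_inv_smul_iff]
            exact h1 }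
      have hS_mem : ∀ t : T, t ∈ S ↔ ∃ c ∈ Cs, c • a = (t : G) • a := fun t => Iff.rfl
      have hdecC : ∀ c ∈ N, (∀ t ∈ T, c * t = t * c) → c ∈ Cs :=
        fun c hc h => (hCs_mem c).mpr ⟨hc, fun t ht => (h t ht).symm⟩
      obtain ⟨n, hn⟩ := hNt.exists_smul_eq a b
      have hn' : (n : G) • a = b := hn
      obtain ⟨c₀, hc₀N, hc₀c, τ₀, hτ₀, hnc⟩ := hdecomp (n : G) n.2
      have hτ₀S : (⟨τ₀, hτ₀⟩ : T) ∉ S := by
        rintro ⟨c, hc, hct⟩
        apply hab (c₀ * c) (Cs.mul_mem (hdecC c₀ hc₀N hc₀c) hc)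
        have hct' : c • a = τ₀ • a := hct
        rw [mul_smul, hct', ← mul_smul, ← hnc]
        exact hn'
      obtain ⟨x, hx⟩ := jordan_derangement (T := T) (Δ := T ⧸ S) inferInstance
        ((1 : T) : T ⧸ S) ((⟨τ₀, hτ₀⟩ : T) : T ⧸ S) (by
          intro h
          apply hτ₀S
          have := QuotientGroup.eq.mp h
          simpa using this)
      have hxder : ∀ ω : Ω, ∀ c ∈ Cs, (x : G) • ω ≠ c • ω := by
        intro ω c' hc' hω
        obtain ⟨m, hm⟩ := hNt.exists_smul_eq a ω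
        have hm' : (m : G) • a = ω := hm
        obtain ⟨c, hcN, hcc, τ, hτ, hmc⟩ := hdecomp (m : G) m.2
        have hcCs := hdecC c hcN hcc
        have hω' : ω = c • τ • a := by rw [← mul_smul, ← hmc]; exact hm'.symm
        -- `x τ a = e τ a` with `e = c⁻¹ c' c`
        have he : c⁻¹ * c' * c ∈ Cs := Cs.mul_mem (Cs.mul_mem (Cs.inv_mem hcCs) hc') hcCs
        have h1 : (x : G) • τ • a = (c⁻¹ * c' * c) • τ • a := by
          have h2 : c • ((x : G) • τ • a) = c' • c • τ • a := by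
            rw [← mul_smul, hcc (x : G) x.2, mul_smul, ← hω']
            exact hω
          calc (x : G) • τ • a = c⁻¹ • (c • ((x : G) • τ • a)) := by rw [inv_smul_smul]
            _ = c⁻¹ • (c' • c • τ • a) := by rw [h2]
            _ = (c⁻¹ * c' * c) • τ • a := by simp only [mul_smul]
        apply hx (((⟨τ, hτ⟩ : T)) : T ⧸ S)
        symm
        show (((⟨τ, hτ⟩ : T)) : T ⧸ S) = ((x * ⟨τ, hτ⟩ : T) : T ⧸ S)
        rw [QuotientGroup.eq, hS_mem]
        refine ⟨c⁻¹ * c' * c, he, ?_⟩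
        have hcomm' : (c⁻¹ * c' * c) * τ⁻¹ = τ⁻¹ * (c⁻¹ * c' * c) :=
          (((hCs_mem _).mp he).2 τ⁻¹ (T.inv_mem hτ)).symm
        calc (c⁻¹ * c' * c) • a = ((c⁻¹ * c' * c) * τ⁻¹) • τ • a := by
              rw [mul_smul (c⁻¹ * c' * c) τ⁻¹ (τ • a), inv_smul_smul]
          _ = τ⁻¹ • ((c⁻¹ * c' * c) • τ • a) := by rw [hcomm', mul_smul]
          _ = τ⁻¹ • ((x : G) • τ • a) := by rw [h1]
          _ = (((⟨τ, hτ⟩ : T)⁻¹ * (x * ⟨τ, hτ⟩) : T) : G) • a := by
              simp only [Subgroup.coe_mul, Subgroup.coe_inv, mul_smul]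
      have hxy_der : ∀ y ∈ Cs, ∀ ω : Ω, ((x : G) * y) • ω ≠ ω := by
        intro y hy ω hω
        apply hxder (y • ω) y⁻¹ (Cs.inv_mem hy)
        rw [inv_smul_smul, ← mul_smul]
        exact hω
      have hx1 : (x : G) ≠ 1 := by
        intro h
        apply hxder a 1 Cs.one_mem
        rw [h]
      have hy₁Cs := hcjC g hg hy₁mem
      have hy₂Cs := hcjC g hg hy₂mem
      have hy₁1 : g * (t₁ : G) * g⁻¹ ≠ 1 := by
        intro h
        rw [h, orderOf_one] at hy₁ord
        exact hr₁.one_lt.ne hy₁ord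
      have hy₂1 : g * (t₂ : G) * g⁻¹ ≠ 1 := by
        intro h
        rw [h, orderOf_one] at hy₂ord
        exact hr₂.one_lt.ne hy₂ord
      have hcomm₁ : Commute (x : G) (g * (t₁ : G) * g⁻¹) :=
        hcomm2 (cj g) (hcjN g) (hcjinv g) (hcjcard g) hg (x : G) x.2 _ hy₁mem
      have hcomm₂ : Commute (x : G) (g * (t₂ : G) * g⁻¹) :=
        hcomm2 (cj g) (hcjN g) (hcjinv g) (hcjcard g) hg (x : G) x.2 _ hy₂mem
      refine ⟨x, (x : G) * (g * (t₁ : G) * g⁻¹), (x : G) * (g * (t₂ : G) * g⁻¹), ?_,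
        hxy_der _ hy₁Cs, hxy_der _ hy₂Cs, ?_, ?_, ?_⟩
      · intro ω
        have := hxy_der 1 Cs.one_mem ω
        simpa using this
      · intro h
        obtain ⟨h', hh'⟩ := isConj_iff.mp h
        apply hL x x.2 hx1 _ hy₁Cs hy₁1 h'⁻¹
        rw [← hh']
        have : h'⁻¹ * (h' * (x : G) * h'⁻¹) * h'⁻¹⁻¹ = x := by group
        rw [this]
        exact x.2
      · intro h
        obtain ⟨h', hh'⟩ := isConj_iff.mp h
        apply hL x x.2 hx1 _ hy₂Cs hy₂1 h'⁻¹
        rw [← hh']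
        have : h'⁻¹ * (h' * (x : G) * h'⁻¹) * h'⁻¹⁻¹ = x := by group
        rw [this]
        exact x.2
      · intro h
        obtain ⟨h', hh'⟩ := isConj_iff.mp h
        have hpow : h' * ((x : G) * (g * (t₁ : G) * g⁻¹)) ^ r₁ * h'⁻¹ =
            ((x : G) * (g * (t₂ : G) * g⁻¹)) ^ r₁ := by
          rw [← hh', conj_pow]
        have hy₁pow : (g * (t₁ : G) * g⁻¹) ^ r₁ = 1 := by
          rw [← hy₁ord]
          exact pow_orderOf_eq_one _
        rw [hcomm₁.mul_pow, hcomm₂.mul_pow, hy₁pow, mul_one] at hpow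
        have hy₂pow : (g * (t₂ : G) * g⁻¹) ^ r₁ ≠ 1 := by
          intro h0
          have := orderOf_dvd_of_pow_eq_one h0
          rw [hy₂ord] at this
          exact hr12 ((Nat.prime_dvd_prime_iff_eq hr₂ hr₁).mp this).symm
        by_cases hx0 : (x : G) ^ r₁ = 1
        · rw [hx0] at hpow
          simp only [mul_one, mul_inv_cancel, one_mul] at hpow
          exact hy₂pow hpow.symm
        · apply hL ((x : G) ^ r₁) (T.pow_mem x.2 _) hx0 _ (Cs.pow_mem hy₂Cs r₁) hy₂pow h'⁻¹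
          rw [← hpow]
          have : h'⁻¹ * (h' * (x : G) ^ r₁ * h'⁻¹) * h'⁻¹⁻¹ = (x : G) ^ r₁ := by group
          rw [this]
          exact T.pow_mem x.2 _

/-- With at most two classes of derangements, a faithful primitive group which is not almost
simple has an abelian regular normal subgroup. -/
theorem abelian_regular_normal {G Ω : Type*} [Group G] [Finite G] [MulAction G Ω]
    [FaithfulSMul G Ω] [Finite Ω] (hprim : IsPreprimitive G Ω) (hΩ : 2 ≤ Nat.card Ω)
    (hnas : ¬ ∃ T : Subgroup G, T.Normal ∧ IsSimpleGroup T ∧ ¬ IsMulCommutative T ∧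
      Subgroup.centralizer (T : Set G) = ⊥)
    (hκ : Nat.card {c : ConjClasses G // ∃ g : G, ConjClasses.mk g = c ∧ ∀ ω : Ω, g • ω ≠ ω}
      ≤ 2) :
    ∃ N : Subgroup G, N.Normal ∧ N ≠ ⊥ ∧ (∀ x ∈ N, ∀ y ∈ N, x * y = y * x) ∧
      IsPretransitive N Ω ∧ (∀ n ∈ N, ∀ ω : Ω, n • ω = ω → n = 1) := by
  classical
  haveI : Nonempty Ω := (Nat.card_pos_iff.mp (by omega)).1
  haveI htransG : IsPretransitive G Ω := hprim.toIsPretransitive
  obtain ⟨x₀, y₀, hxy⟩ : ∃ x y : Ω, x ≠ y := by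
    have h1 : 1 < Nat.card Ω := by omega
    haveI := Finite.one_lt_card_iff_nontrivial.mp h1
    exact exists_pair_ne Ω
  haveI : Nontrivial G := by
    obtain ⟨g, hg⟩ := exists_smul_eq G x₀ y₀
    refine ⟨⟨g, 1, ?_⟩⟩
    rintro rfl
    exact hxy (by simpa using hg)
  obtain ⟨N, hNn, hN1, hNmin⟩ := min_normal_exists (G := G)
  have hNt := normal_isPretransitive hprim N hNn hN1
  have hNc : ∀ x ∈ N, ∀ y ∈ N, x * y = y * x := by
    by_contra hNc
    obtain ⟨d₁, d₂, d₃, h₁, h₂, h₃, h12, h13, h23⟩ :=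
      three_derangements hprim hnas N hNn hN1 hNmin hNc
    haveI : Fintype {c : ConjClasses G // ∃ g : G, ConjClasses.mk g = c ∧
        ∀ ω : Ω, g • ω ≠ ω} := Fintype.ofFinite _
    rw [Nat.card_eq_fintype_card] at hκ
    have : 2 < Fintype.card {c : ConjClasses G // ∃ g : G, ConjClasses.mk g = c ∧
        ∀ ω : Ω, g • ω ≠ ω} := by
      rw [Fintype.two_lt_card_iff]
      refine ⟨⟨_, d₁, rfl, h₁⟩, ⟨_, d₂, rfl, h₂⟩, ⟨_, d₃, rfl, h₃⟩, ?_, ?_, ?_⟩
      · intro h
        exact h12 (ConjClasses.mk_eq_mk_iff_isConj.mp (congrArg Subtype.val h))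
      · intro h
        exact h13 (ConjClasses.mk_eq_mk_iff_isConj.mp (congrArg Subtype.val h))
      · intro h
        exact h23 (ConjClasses.mk_eq_mk_iff_isConj.mp (congrArg Subtype.val h))
    omega
  exact ⟨N, hNn, hN1, hNc, hNt, fun n hn ω hω =>
    eq_one_of_commute_transitive N hNt n (fun c hc => hNc c hc n hn) ω hω⟩

end Cfsg.Agent.Helper59
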