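import Mathlib
import Cfsg.Agent.S3559

set_option autoImplicit false
set_option linter.style.haveILetI false
set_option linter.unusedSectionVars false
set_option linter.unusedVariables false

namespace Cfsg.Agent.Helper59

open Equiv
open scoped Pointwise

section abstract

variable {H : Type*} [CommGroup H] [Finite H] {A : Type*} [Group A] (ρ : A →* Equiv.Perm H)

/-- Schur's theorem (Wielandt 25.4 form) in abstract Schur-ring language: if the commutative
group `H` has exactly `p` solutions of `x ^ p = 1`, is not of order `p`, and the "point stabilizer"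
`A` leaves no proper nontrivial subgroup invariant, then `A` is transitive on `H \ {1}`. -/
theorem schur_abstract_composite (h1 : ∀ a, ρ a 1 = 1)
    (h2 : ∀ a x, ∃ a', ∀ h, ρ a (x * h) = ρ a x * ρ a' h)
    (hprim : ∀ K : Subgroup H, (∀ a, ∀ k ∈ K, ρ a k ∈ K) → K = ⊥ ∨ K = ⊤)
    (p : ℕ) (hp : p.Prime)
    (hHp : Nat.card {x : H // x ^ p = 1} = p) (hcomp : Nat.card H ≠ p) :
    ∀ x y : H, x ≠ 1 → y ≠ 1 → ∃ a, ρ a x = y := by
  classical
  haveI := Fintype.ofFinite H
  let orb : H → Finset H := fun x => Finset.univ.filter (fun y => ∃ a, ρ a x = y)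
  have horb_mem : ∀ x y, y ∈ orb x ↔ ∃ a, ρ a x = y := by
    intro x y
    simp only [orb, Finset.mem_filter, Finset.mem_univ, true_and]
  have hself : ∀ x, x ∈ orb x := fun x => (horb_mem x x).mpr ⟨1, by simp⟩
  have hTinv : ∀ x, ∀ a, ∀ t ∈ orb x, ρ a t ∈ orb x := by
    intro x a t ht
    obtain ⟨b, hb⟩ := (horb_mem x t).mp ht
    exact (horb_mem x _).mpr ⟨a * b, by rw [map_mul, Perm.mul_apply, hb]⟩
  have hone : ∀ x, x ≠ 1 → (1 : H) ∉ orb x := by
    intro x hx h
    obtain ⟨a, ha⟩ := (horb_mem x 1).mp h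
    apply hx
    apply (ρ a).injective
    rw [ha, h1]
  -- closure of an invariant set is invariant
  have hcl : ∀ S : Set H, (∀ a, ∀ s ∈ S, ρ a s ∈ S) →
      ∀ a, ∀ k ∈ Subgroup.closure S, ρ a k ∈ Subgroup.closure S := by
    intro S hS a k hk
    induction hk using Subgroup.closure_induction generalizing a with
    | mem x hx => exact Subgroup.subset_closure (hS a x hx)
    | one => rw [h1]; exact Subgroup.one_mem _
    | mul x y _ _ ihx ihy =>
      obtain ⟨a', ha'⟩ := h2 a x
      rw [ha']
      exact Subgroup.mul_mem _ (ihx a) (ihy a')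
    | inv x _ ihx =>
      obtain ⟨a', ha'⟩ := h2 a x⁻¹
      have h3 := ha' x
      rw [inv_mul_cancel, h1] at h3
      have h4 : ρ a x⁻¹ = (ρ a' x)⁻¹ := eq_inv_of_mul_eq_one_left h3.symm
      rw [h4]
      exact Subgroup.inv_mem _ (ihx a')
  let P0 : Finset H := Finset.univ.filter (fun x : H => x ^ p = 1)
  have hP0 : P0.card = p := by
    rw [← hHp, Nat.card_eq_fintype_card, Fintype.card_subtype]
  have hP0mem : ∀ x, x ∈ P0 ↔ x ^ p = 1 := by
    intro x
    simp only [P0, Finset.mem_filter, Finset.mem_univ, true_and]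
  -- a nontrivial element of P0
  obtain ⟨z0, hz0, hz01⟩ : ∃ z0 : H, z0 ^ p = 1 ∧ z0 ≠ 1 := by
    have h1lt : 1 < P0.card := by rw [hP0]; exact hp.one_lt
    obtain ⟨u, hu, v, hv, huv⟩ := Finset.one_lt_card.mp h1lt
    by_cases hu1 : u = 1
    · refine ⟨v, (hP0mem v).mp hv, ?_⟩
      intro hv1
      exact huv (hu1.trans hv1.symm)
    · exact ⟨u, (hP0mem u).mp hu, hu1⟩
  -- every nontrivial orbit meets P0
  have hmeet : ∀ h : H, h ≠ 1 → ∃ a, (ρ a h) ^ p = 1 := by
    intro h hh
    by_contra hno
    push Not at hno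
    have hnoP : ∀ t ∈ orb h, t ^ p ≠ 1 := by
      intro t ht
      obtain ⟨a, rfl⟩ := (horb_mem h t).mp ht
      exact hno a
    let R : Subgroup H := MulAction.stabilizer H (orb h)
    have hRinv : ∀ a, ∀ k ∈ R, ρ a k ∈ R := by
      intro a k hk
      rw [MulAction.mem_stabilizer_finset'] at hk ⊢
      intro t ht
      obtain ⟨a', ha'⟩ := h2 a k
      have h3 := ha' ((ρ a')⁻¹ t)
      rw [Perm.inv_def, Equiv.apply_symm_apply] at h3
      rw [smul_eq_mul, ← h3]
      apply hTinv h a
      have h4 : (ρ a')⁻¹ t ∈ orb h := by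
        have := hTinv h a'⁻¹ t ht
        rwa [map_inv] at this
      exact hk h4
    have hz0R : z0 ∈ R := by
      rw [MulAction.mem_stabilizer_finset']
      intro t ht
      rw [smul_eq_mul, mul_comm]
      exact Cfsg.Agent.S3559.star ρ h1 h2 hprim p hp hHp (orb h) (hTinv h) t ht (hnoP t ht) z0 hz0
    have hRtop : R = ⊤ := by
      rcases hprim R hRinv with hR | hR
      · exfalso
        rw [hR, Subgroup.mem_bot] at hz0R
        exact hz01 hz0R
      · exact hR
    have hinv : h⁻¹ ∈ R := by rw [hRtop]; trivial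
    rw [MulAction.mem_stabilizer_finset'] at hinv
    have := hinv (hself h)
    rw [smul_eq_mul, inv_mul_cancel] at this
    exact hone h hh this
  intro x y hx hy
  by_contra hno
  -- WLOG the orbit of x is no larger than the orbit of y
  wlog hle : (orb x).card ≤ (orb y).card generalizing x y
  · apply this y x hy hx
    · rintro ⟨a, ha⟩
      apply hno
      refine ⟨a⁻¹, ?_⟩
      rw [← ha, map_inv, Perm.inv_def, Equiv.symm_apply_apply]
    · omega
  set T := orb x with hT
  have hdisj : Disjoint T (orb y) := by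
    rw [Finset.disjoint_left]
    intro w hw1 hw2
    obtain ⟨a, ha⟩ := (horb_mem x w).mp hw1
    obtain ⟨b, hb⟩ := (horb_mem y w).mp hw2
    apply hno
    refine ⟨b⁻¹ * a, ?_⟩
    rw [map_mul, Perm.mul_apply, ha, ← hb, map_inv, Perm.inv_def, Equiv.symm_apply_apply]
  have hcard_n : 2 * T.card + 1 ≤ Fintype.card H := by
    have hsub : insert (1 : H) (T ∪ orb y) ⊆ Finset.univ := Finset.subset_univ _
    have h1not : (1 : H) ∉ T ∪ orb y := by
      rw [Finset.mem_union]
      rintro (h | h)
      · exact hone x hx h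
      · exact hone y hy h
    have := Finset.card_le_card hsub
    rw [Finset.card_insert_of_notMem h1not, Finset.card_union_of_disjoint hdisj,
      Finset.card_univ] at this
    omega
  have hTpos : 0 < T.card := Finset.card_pos.mpr ⟨x, hself x⟩
  -- T is not contained in P0
  obtain ⟨t0, ht0, ht0p⟩ : ∃ t0 ∈ T, t0 ^ p ≠ 1 := by
    by_contra hall
    push Not at hall
    have hTinv' : ∀ a, ∀ s ∈ (T : Set H), ρ a s ∈ (T : Set H) := by
      intro a s hs
      exact Finset.mem_coe.mpr (hTinv x a s (Finset.mem_coe.mp hs))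
    rcases hprim _ (hcl (T : Set H) hTinv') with hb | ht
    · have : x ∈ Subgroup.closure (T : Set H) :=
        Subgroup.subset_closure (Finset.mem_coe.mpr (hself x))
      rw [hb, Subgroup.mem_bot] at this
      exact hx this
    · have hle : Subgroup.closure (T : Set H) ≤ (powMonoidHom p : H →* H).ker := by
        rw [Subgroup.closure_le]
        intro s hs
        exact hall s (Finset.mem_coe.mp hs)
      rw [ht, top_le_iff] at hle
      have hallp : ∀ h : H, h ^ p = 1 := by
        intro h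
        have : h ∈ (powMonoidHom p : H →* H).ker := by rw [hle]; trivial
        exact this
      apply hcomp
      rw [← hHp]
      exact (Nat.card_congr (Equiv.subtypeUnivEquiv hallp)).symm
  set f := (T.filter (fun t => t ^ p = 1)).card with hf
  have hfle : f ≤ p := by
    rw [← hP0]
    apply Finset.card_le_card
    intro t ht
    rw [Finset.mem_filter] at ht
    exact (hP0mem t).mpr ht.2
  have hsplit : (T.filter (fun t => t ^ p = 1)).card + (T.filter (fun t => ¬ t ^ p = 1)).card
      = T.card := Finset.card_filter_add_card_filter_not _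
  set d := (T.filter (fun t => ¬ t ^ p = 1)).card with hd
  -- d ≥ p
  have hdp : p ≤ d := by
    have hsub : P0.image (fun z => t0 * z) ⊆ T.filter (fun t => ¬ t ^ p = 1) := by
      intro w hw
      obtain ⟨z, hz, rfl⟩ := Finset.mem_image.mp hw
      rw [Finset.mem_filter]
      refine ⟨Cfsg.Agent.S3559.star ρ h1 h2 hprim p hp hHp T (hTinv x) t0 ht0 ht0p z
        ((hP0mem z).mp hz), ?_⟩
      rw [mul_pow, (hP0mem z).mp hz, mul_one]
      exact ht0p
    have := Finset.card_le_card hsub
    rw [Finset.card_image_of_injective _ (mul_right_injective t0), hP0] at this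
    exact this
  -- the counting function
  let c : H → ℕ := fun h => (T.filter (fun t => h⁻¹ * t ∈ T)).card
  have hc1 : c 1 = T.card := by
    show (T.filter (fun t => (1 : H)⁻¹ * t ∈ T)).card = T.card
    congr 1
    apply Finset.filter_true_of_mem
    intro t ht
    rw [inv_one, one_mul]
    exact ht
  have hcP : ∀ z : H, z ^ p = 1 → d ≤ c z := by
    intro z hz
    apply Finset.card_le_card
    intro t ht
    rw [Finset.mem_filter] at ht ⊢
    refine ⟨ht.1, ?_⟩
    rw [mul_comm]
    exact Cfsg.Agent.S3559.star ρ h1 h2 hprim p hp hHp T (hTinv x) t ht.1 ht.2 z⁻¹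
      (by rw [inv_pow, hz, inv_one])
  -- invariance of c
  let Tinv : Finset H := T.image (fun t => t⁻¹)
  have hTinvmem : ∀ w, w ∈ Tinv ↔ w⁻¹ ∈ T := by
    intro w
    constructor
    · intro hw
      obtain ⟨t, ht, rfl⟩ := Finset.mem_image.mp hw
      rwa [inv_inv]
    · intro hw
      exact Finset.mem_image.mpr ⟨w⁻¹, hw, inv_inv w⟩
  have hTinv_inv : ∀ a, ∀ w ∈ Tinv, ρ a w ∈ Tinv := by
    intro a w hw
    rw [hTinvmem] at hw ⊢
    obtain ⟨a', ha'⟩ := h2 a w
    have h3 := ha' w⁻¹
    rw [mul_inv_cancel, h1] at h3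
    have h4 : (ρ a w)⁻¹ = ρ a' w⁻¹ := inv_eq_of_mul_eq_one_right h3.symm
    rw [h4]
    exact hTinv x a' _ hw
  let fi : H → ℕ := fun w => if w ∈ Tinv then 1 else 0
  have hfi : ∀ a h, fi (ρ a h) = fi h := by
    intro a h
    have hiff : ρ a h ∈ Tinv ↔ h ∈ Tinv := by
      constructor
      · intro hh
        have := hTinv_inv a⁻¹ _ hh
        rwa [map_inv, Perm.inv_def, Equiv.symm_apply_apply] at this
      · exact hTinv_inv a h
    simp only [fi, hiff]
  have hcsum : ∀ h, c h = ∑ t ∈ T, fi (t⁻¹ * h) := by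
    intro h
    show (T.filter (fun t => h⁻¹ * t ∈ T)).card = ∑ t ∈ T, fi (t⁻¹ * h)
    rw [Finset.card_filter]
    apply Finset.sum_congr rfl
    intro t _
    have hiff : t⁻¹ * h ∈ Tinv ↔ h⁻¹ * t ∈ T := by
      rw [hTinvmem, mul_inv_rev, inv_inv]
    simp only [fi, hiff]
  have hcinv : ∀ a h, c (ρ a h) = c h := by
    intro a h
    rw [hcsum, hcsum]
    exact Cfsg.Agent.S3559.conv_inv ρ h2 T (hTinv x) fi hfi a h
  have hcge : ∀ h : H, h ≠ 1 → d ≤ c h := by
    intro h hh
    obtain ⟨a, ha⟩ := hmeet h hh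
    rw [← hcinv a h]
    exact hcP _ ha
  -- total count
  have htotal : ∑ h : H, c h = T.card * T.card := by
    have h5 : ∀ h, c h = ∑ t ∈ T, (if h⁻¹ * t ∈ T then 1 else 0) := by
      intro h
      show (T.filter (fun t => h⁻¹ * t ∈ T)).card = _
      rw [Finset.card_filter]
    simp only [h5]
    rw [Finset.sum_comm]
    have h6 : ∀ t ∈ T, ∑ h : H, (if h⁻¹ * t ∈ T then 1 else 0) = T.card := by
      intro t _
      rw [← Finset.card_filter]
      apply Finset.card_bij (fun h _ => h⁻¹ * t)
      · intro h hh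
        rw [Finset.mem_filter] at hh
        exact hh.2
      · intro h₁ _ h₂ _ h12
        have := mul_right_cancel h12
        exact inv_injective this
      · intro s hs
        refine ⟨t * s⁻¹, ?_, ?_⟩
        · rw [Finset.mem_filter]
          refine ⟨Finset.mem_univ _, ?_⟩
          rw [mul_inv_rev, inv_inv, inv_mul_cancel_right]
          exact hs
        · rw [mul_inv_rev, inv_inv, inv_mul_cancel_right]
    rw [Finset.sum_congr rfl h6, Finset.sum_const, smul_eq_mul]
  have hbound : (Fintype.card H - 1) * d + T.card ≤ T.card * T.card := by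
    rw [← htotal, ← Finset.sum_erase_add _ _ (Finset.mem_univ (1 : H)), hc1]
    apply Nat.add_le_add_right
    calc (Fintype.card H - 1) * d = ∑ h ∈ Finset.univ.erase (1 : H), d := by
          rw [Finset.sum_const, smul_eq_mul, Finset.card_erase_of_mem (Finset.mem_univ _),
            Finset.card_univ]
      _ ≤ ∑ h ∈ Finset.univ.erase (1 : H), c h := by
          apply Finset.sum_le_sum
          intro h hh
          exact hcge h (Finset.ne_of_mem_erase hh)
  -- arithmetic contradiction
  have hTd : T.card = f + d := hsplit.symm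
  have h7 : 2 * T.card ≤ Fintype.card H - 1 := by omega
  have h8 : 2 * T.card * d + T.card ≤ T.card * T.card :=
    le_trans (Nat.add_le_add_right (Nat.mul_le_mul_right d h7) _) hbound
  nlinarith

end abstract

/-- Schur / Wielandt: a primitive group containing a regular abelian subgroup `C` that has exactly
`p` solutions of `x ^ p = 1` (cyclic Sylow `p`-subgroup) and degree different from `p` is doubly
transitive. -/
theorem two_transitive_of_regular_abelian {G Ω : Type*} [Group G] [MulAction G Ω] [Finite Ω]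
    (hprim : MulAction.IsPreprimitive G Ω)
    (C : Subgroup G) (hcomm : ∀ x ∈ C, ∀ y ∈ C, x * y = y * x)
    (hCt : MulAction.IsPretransitive ↥C Ω) (hCreg : ∀ a : Ω, MulAction.stabilizer ↥C a = ⊥)
    (p : ℕ) (hp : p.Prime) (hCp : Nat.card {x : C // x ^ p = 1} = p) (hcomp : Nat.card Ω ≠ p) :
    MulAction.IsMultiplyPretransitive G Ω 2 := by
  classical
  rcases isEmpty_or_nonempty Ω with hemp | hne
  · rw [MulAction.is_two_pretransitive_iff]
    intro a
    exact isEmptyElim a
  let ω₀ : Ω := Classical.arbitrary Ω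
  have hbij : Function.Bijective (fun c : C => (c : G) • ω₀) := by
    constructor
    · intro c d hcd
      have hcd' : (c : G) • ω₀ = (d : G) • ω₀ := hcd
      have hmem : d⁻¹ * c ∈ MulAction.stabilizer C ω₀ := by
        rw [MulAction.mem_stabilizer_iff]
        show ((d⁻¹ * c : C) : G) • ω₀ = ω₀
        rw [Subgroup.coe_mul, Subgroup.coe_inv, mul_smul, hcd', inv_smul_smul]
      rw [hCreg ω₀, Subgroup.mem_bot] at hmem
      exact (inv_mul_eq_one.mp hmem).symm
    · intro ω
      obtain ⟨c, hc⟩ := hCt.exists_smul_eq ω₀ ω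
      exact ⟨c, hc⟩
  let e : C ≃ Ω := Equiv.ofBijective _ hbij
  have he : ∀ c : C, e c = (c : G) • ω₀ := fun c => rfl
  haveI : Finite C := Finite.of_equiv Ω e.symm
  let Φ : G →* Equiv.Perm C :=
    (e.symm.permCongrHom.toMonoidHom).comp (MulAction.toPermHom G Ω)
  have hΦ : ∀ (g : G) (c : C), e (Φ g c) = g • e c := by
    intro g c
    simp [Φ, Equiv.permCongrHom]
  let ρ : MulAction.stabilizer G ω₀ →* Equiv.Perm C :=
    Φ.comp (MulAction.stabilizer G ω₀).subtype
  have hρ : ∀ (a : MulAction.stabilizer G ω₀) (c : C), e (ρ a c) = (a : G) • e c :=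
    fun a c => hΦ a c
  have h1 : ∀ a, ρ a 1 = 1 := by
    intro a
    apply e.injective
    rw [hρ, he, OneMemClass.coe_one, one_smul]
    exact a.2
  have h2 : ∀ a x, ∃ a', ∀ h, ρ a (x * h) = ρ a x * ρ a' h := by
    intro a x
    have hmem : ((ρ a x : C) : G)⁻¹ * (a : G) * (x : G) ∈ MulAction.stabilizer G ω₀ := by
      rw [MulAction.mem_stabilizer_iff, mul_smul, mul_smul, ← he x, ← hρ a x, he, inv_smul_smul]
    refine ⟨⟨_, hmem⟩, fun h => ?_⟩
    apply e.injective
    rw [hρ, he (x * h), he (ρ a x * _), Subgroup.coe_mul, Subgroup.coe_mul, mul_smul, mul_smul,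
      ← he (ρ _ h), hρ, he h]
    simp only [mul_smul, smul_inv_smul]
  have hprim' : ∀ K : Subgroup C, (∀ a, ∀ k ∈ K, ρ a k ∈ K) → K = ⊥ ∨ K = ⊤ := by
    intro K hK
    let B : Set Ω := e '' (K : Set C)
    have hsub : ∀ g : G, ∀ k ∈ K, ∀ k' ∈ K, g • e k = e k' → ∀ k'' ∈ K, g • e k'' ∈ B := by
      intro g k hk k' hk' hg k'' hk''
      have hmem : (k' : G)⁻¹ * g * (k : G) ∈ MulAction.stabilizer G ω₀ := by
        rw [MulAction.mem_stabilizer_iff, mul_smul, mul_smul, ← he k, hg, he, inv_smul_smul]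
      refine ⟨k' * ρ ⟨_, hmem⟩ (k⁻¹ * k''),
        K.mul_mem hk' (hK _ _ (K.mul_mem (K.inv_mem hk) hk'')), ?_⟩
      rw [he, Subgroup.coe_mul, mul_smul, ← he (ρ _ _), hρ, he]
      simp only [Subgroup.coe_mul, Subgroup.coe_inv, mul_smul, smul_inv_smul]
      rw [← he]
    have hblock : MulAction.IsBlock G B := by
      rw [MulAction.isBlock_iff_smul_eq_or_disjoint]
      intro g
      by_cases hdisj : Disjoint (g • B) B
      · exact Or.inr hdisj
      · left
        rw [Set.not_disjoint_iff] at hdisj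
        obtain ⟨β, hβ1, hβ2⟩ := hdisj
        obtain ⟨γ, ⟨k, hk, rfl⟩, rfl⟩ := hβ1
        obtain ⟨k', hk', hk'e⟩ := hβ2
        apply Set.Subset.antisymm
        · rintro _ ⟨_, ⟨k'', hk'', rfl⟩, rfl⟩
          exact hsub g k hk k' hk' hk'e.symm k'' hk''
        · intro β hβ
          obtain ⟨k'', hk'', rfl⟩ := hβ
          have := hsub g⁻¹ k' hk' k hk (by rw [hk'e, inv_smul_smul]) k'' hk''
          exact ⟨g⁻¹ • e k'', this, smul_inv_smul g _⟩
    rcases hprim.isTrivialBlock_of_isBlock hblock with hB | hB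
    · left
      rw [Subgroup.eq_bot_iff_forall]
      intro k hk
      apply e.injective
      exact hB ⟨k, hk, rfl⟩ ⟨1, K.one_mem, rfl⟩
    · right
      rw [eq_top_iff]
      intro c _
      have hc : e c ∈ B := by rw [hB]; trivial
      obtain ⟨k, hk, hkc⟩ := hc
      rwa [← e.injective hkc]
  have hcardC : Nat.card C = Nat.card Ω := Nat.card_congr e
  letI : CommGroup C :=
    { (inferInstance : Group C) with mul_comm := fun a b => Subtype.ext (hcomm a a.2 b b.2) }
  have key := schur_abstract_composite ρ h1 h2 hprim' p hp hCp (by rw [hcardC]; exact hcomp)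
  rw [MulAction.is_two_pretransitive_iff]
  intro a b c d hab hcd
  haveI := hprim.toIsPretransitive
  obtain ⟨g₁, hg₁⟩ := MulAction.exists_smul_eq G a ω₀
  obtain ⟨g₂, hg₂⟩ := MulAction.exists_smul_eq G c ω₀
  have hb : e.symm (g₁ • b) ≠ 1 := by
    intro h
    have h3 : g₁ • b = e 1 := by rw [← h, Equiv.apply_symm_apply]
    rw [he, OneMemClass.coe_one, one_smul, ← hg₁] at h3
    exact hab (smul_left_cancel g₁ h3).symm
  have hd : e.symm (g₂ • d) ≠ 1 := by
    intro h
    have h3 : g₂ • d = e 1 := by rw [← h, Equiv.apply_symm_apply]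
    rw [he, OneMemClass.coe_one, one_smul, ← hg₂] at h3
    exact hcd (smul_left_cancel g₂ h3).symm
  obtain ⟨a₀, ha₀⟩ := key _ _ hb hd
  have ha₀' : (a₀ : G) • ω₀ = ω₀ := a₀.2
  refine ⟨g₂⁻¹ * (a₀ : G) * g₁, ?_, ?_⟩
  · rw [mul_smul, mul_smul, hg₁, ha₀', ← hg₂, inv_smul_smul]
  · rw [mul_smul, mul_smul]
    have h4 : (a₀ : G) • g₁ • b = g₂ • d := by
      have h3 := hρ a₀ (e.symm (g₁ • b))
      rw [ha₀, Equiv.apply_symm_apply, Equiv.apply_symm_apply] at h3
      exact h3.symm
    rw [h4, inv_smul_smul]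

end Cfsg.Agent.Helper59
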