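import Mathlib
import Cfsg.Agent.Helper59.MinNormal
import Cfsg.Agent.Helper59.Derange2
import Cfsg.Agent.S3972

set_option autoImplicit false
set_option linter.style.haveILetI false
set_option linter.unusedSectionVars false
set_option linter.unusedVariables false

namespace Cfsg.Agent.Helper59

open MulAction

/-- A normal subgroup `N` containing an abelian Sylow `p`-subgroup `P` with `|N_G(P) : P|` a prime
`q` is everything, provided `N` has no proper normal `p`-complement that is normal in `G`, and `P`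
is not normal in `G`.  (Frattini argument + Burnside's transfer theorem.) -/
theorem normal_eq_top_of_sylow {G : Type*} [Group G] [Finite G] (p : ℕ) [Fact p.Prime]
    (P : Sylow p G) (hPcomm : ∀ x ∈ (P : Subgroup G), ∀ y ∈ (P : Subgroup G), x * y = y * x)
    (q : ℕ) (hq : q.Prime)
    (hNP : Nat.card (Subgroup.normalizer ((P : Subgroup G) : Set G)) = Nat.card (P : Subgroup G) * q)
    (N : Subgroup G) [hNn : N.Normal] (hPN : (P : Subgroup G) ≤ N)
    (hK : ∀ K : Subgroup G, K.Normal → K ≤ N →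
      Nat.card K * Nat.card (P : Subgroup G) = Nat.card N → K = ⊥)
    (hlt : Subgroup.normalizer ((P : Subgroup G) : Set G) ≠ ⊤) : N = ⊤ := by
  classical
  set M : Subgroup G := Subgroup.normalizer ((P : Subgroup G) : Set G) ⊓ N with hM
  have hPM : (P : Subgroup G) ≤ M := le_inf Subgroup.le_normalizer hPN
  have hMle : M ≤ Subgroup.normalizer ((P : Subgroup G) : Set G) := inf_le_left
  have hd1 : Nat.card (P : Subgroup G) ∣ Nat.card M := Subgroup.card_dvd_of_le hPM
  have hd2 : Nat.card M ∣ Nat.card (P : Subgroup G) * q := hNP ▸ Subgroup.card_dvd_of_le hMle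
  obtain ⟨d, hd⟩ := hd1
  have hPpos : 0 < Nat.card (P : Subgroup G) := Nat.card_pos
  have hdq : d ∣ q := by
    rw [hd] at hd2
    exact (Nat.mul_dvd_mul_iff_left hPpos).mp hd2
  rcases (Nat.dvd_prime hq).mp hdq with h1 | h1
  · -- `N_N(P) = P`: Burnside's transfer theorem
    exfalso
    have hMP : (P : Subgroup G) = M :=
      Subgroup.eq_of_le_of_card_ge hPM (by rw [hd, h1, mul_one])
    let P' : Sylow p N := P.subtype hPN
    have hP'mem : ∀ y : N, y ∈ (P' : Subgroup N) ↔ (y : G) ∈ (P : Subgroup G) := by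
      intro y
      show y ∈ ((P.subtype hPN : Sylow p N) : Subgroup N) ↔ _
      rw [Sylow.coe_subtype, Subgroup.mem_subgroupOf]
    have hP' : Subgroup.normalizer ((P' : Subgroup N) : Set N) ≤
        Subgroup.centralizer ((P' : Subgroup N) : Set N) := by
      intro x hx
      have hxP : (x : G) ∈ (P : Subgroup G) := by
        rw [hMP, hM, Subgroup.mem_inf]
        refine ⟨?_, x.2⟩
        rw [Subgroup.mem_normalizer_iff] at hx
        rw [Subgroup.mem_normalizer_iff]
        intro h
        constructor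
        · intro hh
          have h3 := (hx ⟨h, hPN hh⟩).mp ((hP'mem _).mpr hh)
          rw [hP'mem] at h3
          exact h3
        · intro hh
          have hhN : h ∈ N := by
            have h4 : (x : G)⁻¹ * ((x : G) * h * (x : G)⁻¹) * (x : G) ∈ N :=
              N.mul_mem (N.mul_mem (N.inv_mem x.2) (hPN hh)) x.2
            have h5 : (x : G)⁻¹ * ((x : G) * h * (x : G)⁻¹) * (x : G) = h := by group
            rwa [h5] at h4
          have h3 := (hx ⟨h, hhN⟩).mpr ((hP'mem _).mpr hh)
          rw [hP'mem] at h3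
          exact h3
      rw [Subgroup.mem_centralizer_iff]
      intro y hy
      have hyP : (y : G) ∈ (P : Subgroup G) := (hP'mem y).mp hy
      exact Subtype.ext (hPcomm _ hyP _ hxP)
    let φ : N →* (P' : Subgroup N) := MonoidHom.transferSylow P' hP'
    have hcompl : Subgroup.IsComplement' φ.ker (P' : Subgroup N) :=
      MonoidHom.ker_transferSylow_isComplement' P' hP'
    have hcop : ¬ p ∣ Nat.card φ.ker := MonoidHom.not_dvd_card_ker_transferSylow P' hP'
    have hcardmul : Nat.card φ.ker * Nat.card (P' : Subgroup N) = Nat.card N :=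
      hcompl.card_mul_card
    have hP'card : Nat.card (P' : Subgroup N) = Nat.card (P : Subgroup G) := by
      show Nat.card ((P.subtype hPN : Sylow p N) : Subgroup N) = _
      rw [Sylow.coe_subtype]
      exact Nat.card_congr (Subgroup.subgroupOfEquivOfLe hPN).toEquiv
    -- characterisation of the kernel
    have hchar : ∀ x : N, x ^ Nat.card φ.ker = 1 → x ∈ φ.ker := by
      intro x hx
      rw [MonoidHom.mem_ker]
      have h1' : (φ x) ^ Nat.card φ.ker = 1 := by rw [← map_pow, hx, map_one]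
      obtain ⟨k, hk⟩ := P'.isPGroup' (φ x)
      have hcop' : Nat.Coprime (Nat.card φ.ker) (p ^ k) :=
        Nat.Coprime.pow_right k
          ((Nat.Prime.coprime_iff_not_dvd (Fact.out : p.Prime)).mpr hcop).symm
      have h6 : orderOf (φ x) ∣ 1 := by
        rw [← Nat.Coprime.gcd_eq_one hcop']
        exact Nat.dvd_gcd (orderOf_dvd_of_pow_eq_one h1') (orderOf_dvd_of_pow_eq_one hk)
      exact orderOf_eq_one_iff.mp (Nat.dvd_one.mp h6)
    let K : Subgroup G := φ.ker.map N.subtype
    have hKn : K.Normal := by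
      constructor
      intro k hk g
      obtain ⟨k', hk', rfl⟩ := hk
      have hmem : g * (k' : G) * g⁻¹ ∈ N := hNn.conj_mem _ k'.2 g
      refine ⟨⟨_, hmem⟩, ?_, rfl⟩
      apply hchar
      apply Subtype.ext
      have h7 : (k' : N) ^ Nat.card φ.ker = 1 := by
        have h8 := pow_card_eq_one' (G := φ.ker) (x := ⟨k', hk'⟩)
        have h9 := congrArg (fun z : φ.ker => (z : N)) h8
        simpa using h9
      have h10 : ((k' : N) : G) ^ Nat.card φ.ker = 1 := by
        have := congrArg (fun z : N => (z : G)) h7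
        simpa using this
      show ((⟨g * (k' : G) * g⁻¹, hmem⟩ : N) ^ Nat.card φ.ker : N).1 = 1
      rw [Subgroup.coe_pow]
      show (g * (k' : G) * g⁻¹) ^ Nat.card φ.ker = 1
      rw [conj_pow, h10, mul_one, mul_inv_cancel]
    have hKle : K ≤ N := Subgroup.map_subtype_le _
    have hKcard : Nat.card K = Nat.card φ.ker :=
      Subgroup.card_map_of_injective N.subtype_injective
    have hKbot : K = ⊥ := hK K hKn hKle (by rw [hKcard, ← hP'card, hcardmul])
    have hK1 : Nat.card K = 1 := by rw [hKbot]; exact Subgroup.card_bot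
    have hNcard : Nat.card N = Nat.card (P : Subgroup G) := by
      rw [← hcardmul, ← hKcard, hK1, one_mul, hP'card]
    have hPeqN : (P : Subgroup G) = N := Subgroup.eq_of_le_of_card_ge hPN (by rw [hNcard])
    apply hlt
    haveI : (P : Subgroup G).Normal := by rw [hPeqN]; exact hNn
    exact Subgroup.normalizer_eq_top _
  · -- `N_G(P) ≤ N`: Frattini argument
    have hMeq : M = Subgroup.normalizer ((P : Subgroup G) : Set G) :=
      Subgroup.eq_of_le_of_card_ge hMle (by rw [hNP, hd, h1])
    have hle : Subgroup.normalizer ((P : Subgroup G) : Set G) ≤ N := by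
      rw [← hMeq]
      exact inf_le_right
    have h2 := Sylow.normalizer_sup_eq_top' P hPN
    rw [← P.coe_coe, sup_eq_right.mpr hle] at h2
    exact h2

/-- A transitive action with trivial point stabilizers: the group is equinumerous with the set. -/
theorem card_eq_of_regular {G X : Type*} [Group G] [MulAction G X] (htr : IsPretransitive G X)
    (hst : ∀ x : X, stabilizer G x = ⊥) (x₀ : X) : Nat.card G = Nat.card X := by
  apply Nat.card_congr
  refine Equiv.ofBijective (fun g : G => g • x₀) ⟨?_, ?_⟩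
  · intro g h hgh
    have hgh' : g • x₀ = h • x₀ := hgh
    have hmem : h⁻¹ * g ∈ stabilizer G x₀ := by
      rw [mem_stabilizer_iff, mul_smul, hgh', inv_smul_smul]
    rw [hst x₀, Subgroup.mem_bot] at hmem
    exact (inv_mul_eq_one.mp hmem).symm
  · intro x
    exact htr.exists_smul_eq x₀ x

/-- A transitive subgroup has order divisible by the degree. -/
theorem card_dvd_of_transitive {G Ω : Type*} [Group G] [MulAction G Ω] (K : Subgroup G)
    (hK : IsPretransitive K Ω) (β : Ω) : Nat.card Ω ∣ Nat.card K := by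
  have h := card_orbit_subgroup K β
  have h2 : orbit K β = Set.univ := orbit_eq_univ K β
  rw [h2, Nat.card_univ] at h
  exact Dvd.intro _ h

/-- If `σ` has a point of period `r ≥ 2` and there are at most `r + 1` points, then the
centralizer of `σ` consists of powers of `σ`. -/
theorem mem_zpowers_of_commute {G Ω : Type*} [Group G] [MulAction G Ω] [FaithfulSMul G Ω]
    [Finite Ω] (σ : G) (ω₀ : Ω) (r : ℕ) (hr : 2 ≤ r) (hper : period σ ω₀ = r)
    (hcard : Nat.card Ω ≤ r + 1) (τ : G) (hτ : τ * σ = σ * τ) : τ ∈ Subgroup.zpowers σ := by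
  classical
  have hcomm : ∀ k : ℤ, τ * σ ^ k = σ ^ k * τ := fun k =>
    (Commute.zpow_right (show Commute τ σ from hτ) k)
  have hcomm' : ∀ (k : ℤ) (ω : Ω), τ • σ ^ k • ω = σ ^ k • τ • ω := by
    intro k ω
    rw [← mul_smul, hcomm k, mul_smul]
  have hpow : ∀ i : ℕ, σ ^ i = σ ^ (i : ℤ) := fun i => (zpow_natCast σ i).symm
  have hinj : ∀ i j : Fin r, σ ^ ((i : ℕ) : ℤ) • ω₀ = σ ^ ((j : ℕ) : ℤ) • ω₀ → i = j := by
    intro i j h
    have h1 : σ ^ (-((j : ℕ) : ℤ) + ((i : ℕ) : ℤ)) • ω₀ = ω₀ := by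
      rw [zpow_add, mul_smul, h, ← mul_smul, ← zpow_add, neg_add_cancel, zpow_zero, one_smul]
    rw [zpow_smul_eq_iff_period_dvd, hper] at h1
    have h2 : -((j : ℕ) : ℤ) + ((i : ℕ) : ℤ) = 0 := by
      apply Int.eq_zero_of_abs_lt_dvd h1
      have hi := i.2
      have hj := j.2
      rw [abs_lt]
      constructor <;> omega
    apply Fin.ext
    omega
  -- Step 1: τ ω₀ lies in the σ-orbit of ω₀
  have hstep1 : ∃ k : ℤ, τ • ω₀ = σ ^ k • ω₀ := by
    by_contra hno
    push Not at hno
    let f : Fin r ⊕ Fin r → Ω :=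
      Sum.elim (fun i => σ ^ ((i : ℕ) : ℤ) • ω₀) (fun j => σ ^ ((j : ℕ) : ℤ) • τ • ω₀)
    have hf : Function.Injective f := by
      rintro (i | i) (j | j) h
      · exact congrArg Sum.inl (hinj i j h)
      · exfalso
        have h' : σ ^ ((i : ℕ) : ℤ) • ω₀ = σ ^ ((j : ℕ) : ℤ) • τ • ω₀ := h
        apply hno (-((j : ℕ) : ℤ) + ((i : ℕ) : ℤ))
        rw [zpow_add, mul_smul, h', ← mul_smul, ← zpow_add, neg_add_cancel, zpow_zero, one_smul]
      · exfalso
        have h' : σ ^ ((i : ℕ) : ℤ) • τ • ω₀ = σ ^ ((j : ℕ) : ℤ) • ω₀ := h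
        apply hno (-((i : ℕ) : ℤ) + ((j : ℕ) : ℤ))
        rw [zpow_add, mul_smul, ← h', ← mul_smul, ← zpow_add, neg_add_cancel, zpow_zero, one_smul]
      · have h' : σ ^ ((i : ℕ) : ℤ) • τ • ω₀ = σ ^ ((j : ℕ) : ℤ) • τ • ω₀ := h
        rw [← hcomm', ← hcomm'] at h'
        exact congrArg Sum.inr (hinj i j (smul_left_cancel τ h'))
    have hle := Nat.card_le_card_of_injective f hf
    rw [Nat.card_sum, Nat.card_fin] at hle
    omega
  obtain ⟨k, hk⟩ := hstep1
  -- points outside the orbit are unique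
  have huniq : ∀ x y : Ω, (∀ i : ℤ, x ≠ σ ^ i • ω₀) → (∀ i : ℤ, y ≠ σ ^ i • ω₀) → x = y := by
    intro x y hx hy
    by_contra hxy
    let f : Fin r ⊕ Bool → Ω :=
      Sum.elim (fun i => σ ^ ((i : ℕ) : ℤ) • ω₀) (fun b => if b then x else y)
    have hf : Function.Injective f := by
      rintro (i | b) (j | c) h
      · exact congrArg Sum.inl (hinj i j h)
      · exfalso
        have h' : σ ^ ((i : ℕ) : ℤ) • ω₀ = if c then x else y := h
        cases c
        · exact hy ((i : ℕ) : ℤ) (by simpa using h'.symm)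
        · exact hx ((i : ℕ) : ℤ) (by simpa using h'.symm)
      · exfalso
        have h' : (if b then x else y) = σ ^ ((j : ℕ) : ℤ) • ω₀ := h
        cases b
        · exact hy ((j : ℕ) : ℤ) (by simpa using h')
        · exact hx ((j : ℕ) : ℤ) (by simpa using h')
      · have h' : (if b then x else y) = if c then x else y := h
        cases b <;> cases c
        · rfl
        · exfalso; exact hxy (by simpa using h'.symm)
        · exfalso; exact hxy (by simpa using h')
        · rfl
    have hle := Nat.card_le_card_of_injective f hf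
    rw [Nat.card_sum, Nat.card_fin, Nat.card_eq_fintype_card, Fintype.card_bool] at hle
    omega
  have hτeq : τ = σ ^ k := by
    apply FaithfulSMul.eq_of_smul_eq_smul (α := Ω)
    intro ω
    by_cases hω : ∃ i : ℤ, ω = σ ^ i • ω₀
    · obtain ⟨i, rfl⟩ := hω
      rw [hcomm', hk, ← mul_smul, ← mul_smul, ← zpow_add, ← zpow_add, add_comm]
    · push Not at hω
      apply huniq
      · intro i hi
        apply hω (i - k)
        apply smul_left_cancel τ
        rw [hi, hcomm', hk, ← mul_smul, ← zpow_add, sub_add_cancel]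
      · intro i hi
        apply hω (-k + i)
        rw [zpow_add, mul_smul, ← hi, ← mul_smul, ← zpow_add, neg_add_cancel, zpow_zero, one_smul]
  rw [hτeq]
  exact Subgroup.zpow_mem_zpowers σ k

/-- If the centralizer of `σ` (of order `r ≥ 2`) is `⟨σ⟩`, the normalizer of `⟨σ⟩` has order at
most `r (r - 1)`. -/
theorem card_normalizer_zpowers_le {G : Type*} [Group G] [Finite G] (σ : G) (r : ℕ)
    (hr : orderOf σ = r) (hr2 : 2 ≤ r)
    (hcent : ∀ τ : G, τ * σ = σ * τ → τ ∈ Subgroup.zpowers σ) :
    Nat.card (Subgroup.normalizer ((Subgroup.zpowers σ : Subgroup G) : Set G)) ≤ r * (r - 1) := by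
  classical
  haveI := Fintype.ofFinite G
  have hσ1 : σ ≠ 1 := by
    intro h
    rw [h, orderOf_one] at hr
    omega
  let Z : Finset G := Finset.univ.filter (fun x => x ∈ Subgroup.zpowers σ)
  have hZ : Z.card = r := by
    rw [← hr, ← Nat.card_zpowers, Nat.card_eq_fintype_card, Fintype.card_subtype]
  let s : Finset G := Finset.univ.filter
    (fun x => x ∈ Subgroup.normalizer ((Subgroup.zpowers σ : Subgroup G) : Set G))
  have hs : Nat.card (Subgroup.normalizer ((Subgroup.zpowers σ : Subgroup G) : Set G)) = s.card := by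
    rw [Nat.card_eq_fintype_card, Fintype.card_subtype]
  let t : Finset G := Z.erase 1
  have ht : t.card = r - 1 := by
    rw [Finset.card_erase_of_mem, hZ]
    simp only [Z, Finset.mem_filter, Finset.mem_univ, true_and]
    exact Subgroup.one_mem _
  rw [hs, ← ht]
  apply Finset.card_le_mul_card_image_of_maps_to (f := fun g => g * σ * g⁻¹)
  · intro g hg
    simp only [s, Finset.mem_filter, Finset.mem_univ, true_and] at hg
    rw [Subgroup.mem_normalizer_iff] at hg
    simp only [t, Z, Finset.mem_erase, Finset.mem_filter, Finset.mem_univ, true_and]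
    refine ⟨?_, (hg σ).mp (Subgroup.mem_zpowers σ)⟩
    intro h
    apply hσ1
    have h2 : g⁻¹ * (g * σ * g⁻¹) * g = σ := by group
    rw [← h2, h]
    group
  · intro b hb
    by_cases hne : (s.filter (fun a => a * σ * a⁻¹ = b)).Nonempty
    · obtain ⟨a₀, ha₀⟩ := hne
      rw [Finset.mem_filter] at ha₀
      have hsub : s.filter (fun a => a * σ * a⁻¹ = b) ⊆ Z.image (fun c => a₀ * c) := by
        intro a ha
        rw [Finset.mem_filter] at ha
        rw [Finset.mem_image]
        refine ⟨a₀⁻¹ * a, ?_, by group⟩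
        simp only [Z, Finset.mem_filter, Finset.mem_univ, true_and]
        apply hcent
        have h3 : a * σ * a⁻¹ = a₀ * σ * a₀⁻¹ := ha.2.trans ha₀.2.symm
        have h4 : a₀⁻¹ * a * σ = a₀⁻¹ * (a * σ * a⁻¹) * a := by group
        rw [h4, h3]
        group
      calc (s.filter (fun a => a * σ * a⁻¹ = b)).card ≤ (Z.image (fun c => a₀ * c)).card :=
            Finset.card_le_card hsub
        _ ≤ Z.card := Finset.card_image_le
        _ = r := hZ
    · rw [Finset.not_nonempty_iff_eq_empty] at hne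
      rw [hne, Finset.card_empty]
      omega

/-- In a faithful 3-transitive group whose degree is divisible by two distinct primes, every
nontrivial normal subgroup has order divisible by the degree minus one. -/
theorem dvd_card_normal_of_three_transitive {G Ω : Type*} [Group G] [Finite G] [MulAction G Ω]
    [FaithfulSMul G Ω] [Finite Ω] (h3 : IsMultiplyPretransitive G Ω 3)
    (p₁ p₂ : ℕ) (hp₁ : p₁.Prime) (hp₂ : p₂.Prime) (hne : p₁ ≠ p₂)
    (hd₁ : p₁ ∣ Nat.card Ω) (hd₂ : p₂ ∣ Nat.card Ω)
    (K : Subgroup G) (hKn : K.Normal) (hK1 : K ≠ ⊥) : Nat.card Ω - 1 ∣ Nat.card K := by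
  classical
  obtain ⟨k₀, hk₀K, hk₀1⟩ : ∃ k ∈ K, k ≠ 1 := by
    by_contra hno
    push Not at hno
    exact hK1 ((Subgroup.eq_bot_iff_forall K).mpr hno)
  have hmove : ∀ k : G, k ≠ 1 → ∃ β : Ω, k • β ≠ β := by
    intro k hk
    by_contra hno
    push Not at hno
    apply hk
    apply FaithfulSMul.eq_of_smul_eq_smul (α := Ω)
    intro ω
    rw [hno, one_smul]
  obtain ⟨β₀, hβ₀⟩ := hmove k₀ hk₀1
  have hΩpos : 0 < Nat.card Ω := Nat.card_pos_iff.mpr ⟨⟨β₀⟩, inferInstance⟩
  have h3card : 3 ≤ Nat.card Ω := by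
    have h1 := Nat.le_of_dvd hΩpos hd₁
    have h2 := Nat.le_of_dvd hΩpos hd₂
    have := hp₁.two_le
    have := hp₂.two_le
    omega
  have h3' : ∀ a b c a' b' c' : Ω, a ≠ b → a ≠ c → b ≠ c → a' ≠ b' → a' ≠ c' → b' ≠ c' →
      ∃ g : G, g • a = a' ∧ g • b = b' ∧ g • c = c' := by
    intro a b c a' b' c' hab hac hbc hab' hac' hbc'
    let x : Fin 3 ↪ Ω := ⟨![a, b, c], by
      intro i j h
      fin_cases i <;> fin_cases j <;> simp_all⟩
    let y : Fin 3 ↪ Ω := ⟨![a', b', c'], by
      intro i j h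
      fin_cases i <;> fin_cases j <;> simp_all⟩
    obtain ⟨g, hg⟩ := h3.exists_smul_eq x y
    refine ⟨g, ?_, ?_, ?_⟩
    · have := congrArg (fun e : Fin 3 ↪ Ω => e 0) hg
      exact this
    · have := congrArg (fun e : Fin 3 ↪ Ω => e 1) hg
      exact this
    · have := congrArg (fun e : Fin 3 ↪ Ω => e 2) hg
      exact this
  have h2 : IsMultiplyPretransitive G Ω 2 :=
    isMultiplyPretransitive_of_le (m := 2) (n := 3) (by norm_num) h3card
  have h2' : ∀ a b c d : Ω, a ≠ b → c ≠ d → ∃ g : G, g • a = c ∧ g • b = d :=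
    fun a b c d hab hcd => (is_two_pretransitive_iff.mp h2) hab hcd
  have hprim : IsPreprimitive G Ω := isPreprimitive_of_is_two_pretransitive h2
  have hKt : IsPretransitive K Ω := normal_isPretransitive hprim K hKn hK1
  by_cases hA : ∃ k ∈ K, k ≠ 1 ∧ ∃ α : Ω, k • α = α
  · obtain ⟨k, hkK, hk1, α, hkα⟩ := hA
    obtain ⟨β, hβ⟩ := hmove k hk1
    have hβα : β ≠ α := by
      rintro rfl
      exact hβ hkα
    have hγα : k • β ≠ α := by
      intro h
      apply hβα
      apply smul_left_cancel k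
      rw [hkα]
      exact h
    let L : Subgroup G := K ⊓ stabilizer G α
    have horb : orbit L β = Set.univ \ {α} := by
      ext ω
      constructor
      · rintro ⟨l, rfl⟩
        refine ⟨trivial, ?_⟩
        intro h
        have hlα : (l : G) • α = α := l.2.2
        apply hβα
        apply smul_left_cancel (l : G)
        rw [hlα]
        exact h
      · rintro ⟨-, hω⟩
        have hωα : ω ≠ α := hω
        by_cases hωβ : ω = β
        · exact ⟨1, by show (1 : L) • β = ω; rw [hωβ, one_smul]⟩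
        · obtain ⟨g, hgα, hgβ, hgγ⟩ := h3' α β (k • β) α β ω (Ne.symm hβα) (Ne.symm hγα)
            (Ne.symm hβ) (Ne.symm hβα) (Ne.symm hωα) (Ne.symm hωβ)
          have hgα' : g⁻¹ • α = α := by rw [inv_smul_eq_iff, hgα]
          have hgβ' : g⁻¹ • β = β := by rw [inv_smul_eq_iff, hgβ]
          refine ⟨⟨g * k * g⁻¹, ⟨hKn.conj_mem k hkK g, ?_⟩⟩, ?_⟩
          · show g * k * g⁻¹ ∈ stabilizer G α
            rw [mem_stabilizer_iff, mul_smul, mul_smul, hgα', hkα, hgα]
          · show (g * k * g⁻¹) • β = ω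
            rw [mul_smul, mul_smul, hgβ', hgγ]
    have hcard := card_orbit_subgroup L β
    rw [horb] at hcard
    have h5 : Nat.card ↥(Set.univ \ {α} : Set Ω) = Nat.card Ω - 1 := by
      rw [Nat.card_coe_set_eq, Set.ncard_sdiff_singleton_of_mem (Set.mem_univ α), Set.ncard_univ]
    rw [h5] at hcard
    have h6 : Nat.card Ω - 1 ∣ Nat.card L := Dvd.intro _ hcard
    exact h6.trans (Subgroup.card_dvd_of_le inf_le_left)
  · exfalso
    push Not at hA
    have hreg : ∀ x : Ω, stabilizer K x = ⊥ := by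
      intro x
      rw [Subgroup.eq_bot_iff_forall]
      intro k hk
      by_contra hk1
      exact hA (k : G) k.2 (fun h => hk1 (Subtype.ext h)) x hk
    have hcardK : Nat.card K = Nat.card Ω := card_eq_of_regular hKt hreg β₀
    haveI : Fact p₁.Prime := ⟨hp₁⟩
    haveI : Fact p₂.Prime := ⟨hp₂⟩
    obtain ⟨x, hx⟩ := exists_prime_orderOf_dvd_card' (G := K) p₁ (hcardK ▸ hd₁)
    obtain ⟨y, hy⟩ := exists_prime_orderOf_dvd_card' (G := K) p₂ (hcardK ▸ hd₂)
    have hx1 : (x : G) ≠ 1 := by
      intro h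
      have h' : x = 1 := Subtype.ext h
      rw [h', orderOf_one] at hx
      exact hp₁.one_lt.ne hx
    have hy1 : (y : G) ≠ 1 := by
      intro h
      have h' : y = 1 := Subtype.ext h
      rw [h', orderOf_one] at hy
      exact hp₂.one_lt.ne hy
    have hxα : (x : G) • β₀ ≠ β₀ := hA _ x.2 hx1 β₀
    have hyα : (y : G) • β₀ ≠ β₀ := hA _ y.2 hy1 β₀
    obtain ⟨g, hg1, hg2⟩ := h2' β₀ ((x : G) • β₀) β₀ ((y : G) • β₀) (Ne.symm hxα) (Ne.symm hyα)
    have hg1' : g⁻¹ • β₀ = β₀ := by rw [inv_smul_eq_iff, hg1]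
    have hfix : ((y : G)⁻¹ * (g * (x : G) * g⁻¹)) • β₀ = β₀ := by
      rw [mul_smul, mul_smul, mul_smul, hg1', hg2, inv_smul_smul]
    have hmem : (y : G)⁻¹ * (g * (x : G) * g⁻¹) ∈ K :=
      K.mul_mem (K.inv_mem y.2) (hKn.conj_mem _ x.2 g)
    have h1 : (y : G)⁻¹ * (g * (x : G) * g⁻¹) = 1 := by
      by_contra hne'
      exact hA _ hmem hne' β₀ hfix
    have hconj : g * (x : G) * g⁻¹ = (y : G) := (inv_mul_eq_one.mp h1).symm
    have hord : orderOf (x : G) = orderOf (y : G) := isConj_orderOf_eq (isConj_iff.mpr ⟨g, hconj⟩)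
    rw [Subgroup.orderOf_coe, Subgroup.orderOf_coe, hx, hy] at hord
    exact hne hord

/-- Simplicity criterion via the prime `11`: a faithful permutation group on at most 12 points
with `11 ∥ |G|`, in which every nontrivial normal subgroup has order divisible by `11`, and for
which Sylow counting forces `|N_G(P)| = 55`, is simple (has no proper nontrivial normal subgroup). -/
theorem simple_of_sylow11 {G Ω : Type*} [Group G] [Finite G] [MulAction G Ω] [FaithfulSMul G Ω]
    [Finite Ω] (c : ℕ) (hcard : Nat.card G = 11 * c) (hc : ¬ 11 ∣ c) (hc5 : c ≠ 5)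
    (hΩ : Nat.card Ω ≤ 12)
    (hsyl : ∀ idx m : ℕ, idx * (11 * m) = 11 * c → idx % 11 = 1 → 1 ≤ m → m ≤ 10 → m = 5)
    (hdvd : ∀ K : Subgroup G, K.Normal → K ≠ ⊥ → 11 ∣ Nat.card K) :
    ∀ N : Subgroup G, N.Normal → N = ⊥ ∨ N = ⊤ := by
  classical
  intro N hN
  by_cases hN1 : N = ⊥
  · exact Or.inl hN1
  right
  have hp11 : Nat.Prime 11 := by norm_num
  haveI : Fact (Nat.Prime 11) := ⟨hp11⟩
  obtain ⟨s, hs⟩ := exists_prime_orderOf_dvd_card' (G := N) 11 (hdvd N hN hN1)
  set σ : G := (s : G) with hσdef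
  have hσ : orderOf σ = 11 := by rw [hσdef, Subgroup.orderOf_coe, hs]
  have hZcard : Nat.card (Subgroup.zpowers σ) = 11 := by rw [Nat.card_zpowers, hσ]
  obtain ⟨Q, hQ⟩ := (IsPGroup.of_card (p := 11) (n := 1) (by rw [hZcard, pow_one])).exists_le_sylow
  have hQcard : Nat.card (Q : Subgroup G) = 11 := by
    obtain ⟨n, hn⟩ := IsPGroup.iff_card.mp Q.isPGroup'
    have h1 : Nat.card (Q : Subgroup G) ∣ 11 * c := by
      rw [← hcard]
      exact Subgroup.card_subgroup_dvd_card _
    have h2 : 11 ∣ Nat.card (Q : Subgroup G) := by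
      have h2' := Subgroup.card_dvd_of_le hQ
      rw [hZcard] at h2'
      exact h2'
    rw [hn] at h1 h2 ⊢
    have hn0 : n ≠ 0 := by
      intro h0
      rw [h0, pow_zero] at h2
      omega
    have hn2 : n < 2 := by
      by_contra h
      push Not at h
      have h3 : 11 ^ 2 ∣ 11 * c := (pow_dvd_pow 11 h).trans h1
      apply hc
      have h4 : 11 * 11 ∣ 11 * c := by simpa using h3
      exact (Nat.mul_dvd_mul_iff_left (by norm_num)).mp h4
    have : n = 1 := by omega
    rw [this, pow_one]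
  have hQeq : Subgroup.zpowers σ = (Q : Subgroup G) :=
    Subgroup.eq_of_le_of_card_ge hQ (by rw [hQcard, hZcard])
  obtain ⟨ω₀, hω₀⟩ := Cfsg.Agent.S3972.exists_period (Ω := Ω) 11 1 hp11 (le_refl 1) σ
    (by rw [hσ, pow_one])
  have hcent : ∀ τ : G, τ * σ = σ * τ → τ ∈ Subgroup.zpowers σ := fun τ hτ =>
    mem_zpowers_of_commute σ ω₀ 11 (by norm_num) (by rw [hω₀, pow_one]) (by omega) τ hτ
  have hnorm_le := card_normalizer_zpowers_le σ 11 hσ (by norm_num) hcent
  rw [hQeq] at hnorm_le
  have h1 : Nat.card (Sylow 11 G) ≡ 1 [MOD 11] := card_sylow_modEq_one 11 G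
  have h2 : Nat.card (Sylow 11 G) = (Subgroup.normalizer ((Q : Subgroup G) : Set G)).index := by
    rw [Q.coe_coe]
    exact Sylow.card_eq_index_normalizer Q
  have h3 := Subgroup.index_mul_card (Subgroup.normalizer ((Q : Subgroup G) : Set G))
  obtain ⟨m, hm⟩ : Nat.card (Q : Subgroup G) ∣
      Nat.card (Subgroup.normalizer ((Q : Subgroup G) : Set G)) :=
    Subgroup.card_dvd_of_le Subgroup.le_normalizer
  rw [hQcard] at hm
  have hmpos : 1 ≤ m := by
    have : 0 < Nat.card (Subgroup.normalizer ((Q : Subgroup G) : Set G)) := Nat.card_pos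
    rw [hm] at this
    omega
  have hm10 : m ≤ 10 := by
    rw [hm] at hnorm_le
    omega
  have hm5 : m = 5 := by
    apply hsyl (Subgroup.normalizer ((Q : Subgroup G) : Set G)).index m _ _ hmpos hm10
    · rw [← hm, h3, hcard]
    · rw [← h2]
      exact h1
  haveI := hN
  apply normal_eq_top_of_sylow 11 Q _ 5 (by norm_num) _ N _ _ _
  · intro x hx y hy
    rw [← hQeq] at hx hy
    obtain ⟨i, rfl⟩ := Subgroup.mem_zpowers_iff.mp hx
    obtain ⟨j, rfl⟩ := Subgroup.mem_zpowers_iff.mp hy
    rw [← zpow_add, ← zpow_add, add_comm]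
  · rw [hm, hQcard, hm5]
  · rw [← hQeq, Subgroup.zpowers_le]
    exact s.2
  · intro K hKn hKle hKcard
    by_contra hK1
    have h4 := hdvd K hKn hK1
    rw [hQcard] at hKcard
    have h5 : 11 * 11 ∣ Nat.card N := by
      rw [← hKcard]
      exact Nat.mul_dvd_mul_right h4 11
    have h6 : 11 * 11 ∣ 11 * c := by
      rw [← hcard]
      exact h5.trans (Subgroup.card_subgroup_dvd_card N)
    exact hc ((Nat.mul_dvd_mul_iff_left (by norm_num)).mp h6)
  · intro htop
    rw [htop, Subgroup.card_top, hcard] at hm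
    omega

end Cfsg.Agent.Helper59
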