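import Mathlib
import Cfsg.Agent.S1414
import Cfsg.Agent.Helper23.FittingHall
import Cfsg.Agent.Helper35.Coprime
import Cfsg.Agent.Helper54.BG14T2

/-!
# CALL S1357 piece BETA (helper59): every prime dividing `|[M_F, D]|` lies in `β(M)`
-/

set_option autoImplicit false

namespace Cfsg.Agent.Helper59

open Cfsg Subgroup
open scoped commutatorElement

universe u

variable {G : Type u} [Group G] [Finite G]

/-- BETA. Every prime `q` dividing `|[M_F, D]|` lies in `β(M)`. -/
theorem bg152_beta (hG : IsMinSimpleOddOrder G) {M D : Subgroup G} (hM : IsCoatom M)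
    (hD : D ≤ sigmaCore M) (hcop : (Nat.card (fittingHallOf M)).Coprime (Nat.card D)) {q : ℕ}
    (hq : q.Prime) (hqT : q ∣ Nat.card ↥⁅fittingHallOf M, D⁆) : q ∈ beta M := by
  classical
  by_contra hqβ
  have hfact : Fact q.Prime := ⟨hq⟩
  have hFS : fittingHallOf M ≤ sigmaCore M := Cfsg.Agent.Helper54.bg14t_fittingHall_le hG hM
  have hSM : sigmaCore M ≤ M := Subgroup.map_subtype_le _
  have hFn : M ≤ normalizer (fittingHallOf M : Set G) := by
    rw [Subgroup.le_normalizer_iff]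
    rintro x hx _ ⟨y, hy, rfl⟩
    exact ⟨⟨x, hx⟩ * y * ⟨x, hx⟩⁻¹, (fittingHall_normal ↥M).conj_mem y hy ⟨x, hx⟩, rfl⟩
  have hTF : ⁅fittingHallOf M, D⁆ ≤ fittingHallOf M :=
    Cfsg.Agent.Helper35.commutator_le_of_le_normalizer ((hD.trans hSM).trans hFn)
  have hqF : q ∣ Nat.card (fittingHallOf M) := hqT.trans (Subgroup.card_dvd_of_le hTF)
  have hqM : q ∣ Nat.card M := hqF.trans (Subgroup.card_dvd_of_le (hFS.trans hSM))
  have hDq : (Nat.card D).Coprime q := (Nat.Coprime.coprime_dvd_left hqF hcop).symm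
  obtain ⟨P, N, hNn, hNP⟩ := ((Cfsg.Agent.S1414.result hG M hM).2.2.2.2 q hq hqM hqβ).2.1
  -- orders
  have h1 : Nat.card N * Nat.card (P : Subgroup ↥(sigmaCore M)) = Nat.card ↥(sigmaCore M) :=
    hNP.card_mul_card
  have h2 := (P : Subgroup ↥(sigmaCore M)).card_mul_index
  have hPpos : 0 < Nat.card (P : Subgroup ↥(sigmaCore M)) := Nat.card_pos
  have hNpos : 0 < Nat.card N := Nat.card_pos
  have hNidxP : Nat.card N = (P : Subgroup ↥(sigmaCore M)).index := by
    apply Nat.eq_of_mul_eq_mul_left hPpos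
    rw [h2, mul_comm, h1]
  have hqN : ¬ q ∣ Nat.card N := by
    rw [hNidxP]
    exact P.not_dvd_index
  have hNidx : N.index = Nat.card (P : Subgroup ↥(sigmaCore M)) := by
    apply Nat.eq_of_mul_eq_mul_left hNpos
    rw [N.card_mul_index, h1]
  obtain ⟨n, hn⟩ := IsPGroup.iff_card.mp P.isPGroup'
  -- `D ≤ N`
  have hDN : ∀ d (hd : d ∈ D), (⟨d, hD hd⟩ : ↥(sigmaCore M)) ∈ N := by
    intro d hd
    apply Cfsg.Agent.Helper23.mem_of_coprime_orderOf_index N
    rw [hNidx, hn, Subgroup.orderOf_mk]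
    exact Nat.Coprime.pow_right n
      (Nat.Coprime.coprime_dvd_left (Subgroup.orderOf_dvd_natCard D hd) hDq)
  have hTN : ⁅fittingHallOf M, D⁆ ≤ N.map (sigmaCore M).subtype := by
    rw [Subgroup.commutator_le]
    intro f hf d hd
    have hd' := hDN d hd
    refine ⟨⁅(⟨f, hFS hf⟩ : ↥(sigmaCore M)), ⟨d, hD hd⟩⁆, ?_, rfl⟩
    rw [commutatorElement_def]
    exact N.mul_mem (hNn.conj_mem _ hd' _) (N.inv_mem hd')
  have hcardN : Nat.card ↥(N.map (sigmaCore M).subtype) = Nat.card N :=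
    Subgroup.card_map_of_injective (sigmaCore M).subtype_injective
  exact hqN (hcardN ▸ hqT.trans (Subgroup.card_dvd_of_le hTN))

end Cfsg.Agent.Helper59
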