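import Mathlib
import Cfsg.Agent.Helper1.BGUniqA
import Cfsg.Agent.Helper25.CN
import Cfsg.Agent.Helper62.BG72A

/-!
# CALL S1357 piece TIR (helper59): the uniqueness argument for elements of prime order `r ≠ q`
of `F(M)`
-/

set_option autoImplicit false

namespace Cfsg.Agent.Helper59

open Cfsg Subgroup

universe u

variable {G : Type u} [Group G] [Finite G]

/-- TIR. No `y ∈ F(M)` of prime order `r ≠ q` has `g y g⁻¹ ∈ F(M)` for `g ∉ M`. -/
theorem bg152_TI_r (hG : IsMinSimpleOddOrder G) {M Q : Subgroup G} (hM : IsCoatom M) {q : ℕ}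
    (hq : q.Prime) (hQF : Q ≤ fittingOf M) (hQq : IsPGroup q Q) (hQU : InUniqueMaximal Q)
    {g y : G} (hg : g ∉ M) (hy : y ∈ fittingOf M) (hyo : (orderOf y).Prime)
    (hyq : orderOf y ≠ q) (hgy : g * y * g⁻¹ ∈ fittingOf M) : False := by
  classical
  have : IsSimpleGroup G := hG.2.1
  have hFnil := Cfsg.Agent.Helper1.bgu_fittingOf_isNilpotent M
  have hFM := Cfsg.Agent.Helper1.bgu_fittingOf_le M
  have hQM : Q ≤ M := hQF.trans hFM
  have hcenter : ∀ z : G, centralizer ({z} : Set G) = ⊤ → z = 1 := by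
    intro z hz
    have hzc : z ∈ center G := by
      rw [Subgroup.mem_center_iff]
      intro a
      have ha : a ∈ centralizer ({z} : Set G) := by rw [hz]; trivial
      exact (Subgroup.mem_centralizer_iff.mp ha z (Set.mem_singleton z)).symm
    rcases IsSimpleGroup.eq_bot_or_eq_top_of_normal (center G) inferInstance with h | h
    · rw [h] at hzc
      exact Subgroup.mem_bot.mp hzc
    · exfalso
      apply hG.2.2.1
      refine ⟨⟨fun a b => ?_⟩⟩
      have ha : a ∈ center G := by rw [h]; trivial
      exact (Subgroup.mem_center_iff.mp ha b).symm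
  have key : ∀ z ∈ fittingOf M, (orderOf z).Prime → orderOf z ≠ q →
      (centralizer ({z} : Set G) ≤ M ∧
        ∀ L : Subgroup G, IsCoatom L → centralizer ({z} : Set G) ≤ L → L = M) := by
    intro z hz hzo hzq
    have hQC : Q ≤ centralizer ({z} : Set G) := by
      intro x hx
      rw [Subgroup.mem_centralizer_iff]
      intro w hw
      rw [Set.mem_singleton_iff] at hw
      subst hw
      obtain ⟨k, hk⟩ := hQq ⟨x, hx⟩
      have hxk : x ^ q ^ k = 1 := by simpa using congrArg Subtype.val hk
      have hcop : (orderOf x).Coprime (orderOf w) :=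
        Nat.Coprime.coprime_dvd_left (orderOf_dvd_of_pow_eq_one hxk)
          (Nat.Coprime.pow_left k ((Nat.coprime_primes hq hzo).mpr (Ne.symm hzq)))
      exact (Cfsg.Agent.Helper25.commute_of_coprime_of_mem_nilpotent _ hFnil (hQF hx) hz
        hcop).eq.symm
    have huniq : ∀ L : Subgroup G, IsCoatom L → centralizer ({z} : Set G) ≤ L → L = M :=
      fun L hL hle => hQU.unique ⟨hL, hQC.trans hle⟩ ⟨hM, hQM⟩
    refine ⟨?_, huniq⟩
    have hne : centralizer ({z} : Set G) ≠ ⊤ := by
      intro h
      have h1 := hcenter z h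
      rw [h1, orderOf_one] at hzo
      exact Nat.not_prime_one hzo
    obtain ⟨L, hL, hle⟩ := (eq_top_or_exists_le_coatom _).resolve_left hne
    rw [← huniq L hL hle]
    exact hle
  have hgyo : orderOf (g * y * g⁻¹) = orderOf y := by
    have := MulEquiv.orderOf_eq (MulAut.conj g) y
    simpa [MulAut.conj_apply] using this
  have k1 := key y hy hyo hyq
  have k2 := key (g * y * g⁻¹) hgy (hgyo ▸ hyo) (hgyo ▸ hyq)
  exact hg (Cfsg.Agent.Helper62.bg72_conj_uniq hM k1.1 k2.2)

end Cfsg.Agent.Helper59
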