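import Mathlib
import Cfsg.Agent.Helper1.Hall

/-!
# CALL S1438 piece FU4 (helper59 double): reduction of fusion by `m` to fusion by `F`
-/

set_option autoImplicit false

namespace Cfsg.Agent.Helper59

open Cfsg Subgroup
open scoped Pointwise

universe u

variable {G : Type u} [Group G] [Finite G]

/-- FU4 (pure). Reduction of fusion by `m` to fusion by `F`. -/
theorem bg157_fusion_red {Γ : Type u} [Group Γ] [Finite Γ] [Group.IsSolvable Γ]
    {F S H : Subgroup Γ} [F.Normal] (hFS : F ≤ S) (hHS : H ≤ S)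
    (hHall : (Nat.card H).Coprime (H.relIndex S))
    (hL : ∀ (m : Γ), ∀ h ∈ H, m * h * m⁻¹ ∈ H ⊔ F)
    (hsp : ∀ z ∈ H, ∀ f ∈ F, f * z * f⁻¹ ∈ H → ∃ h ∈ H, h * z * h⁻¹ = f * z * f⁻¹)
    {x m : Γ} (hx : x ∈ H) (hm : m * x * m⁻¹ ∈ H) :
    ∃ n ∈ normalizer (H : Set Γ), n * x * n⁻¹ = m * x * m⁻¹ := by
  classical
  set L : Subgroup Γ := H ⊔ F with hLdef
  have hHL : H ≤ L := le_sup_left
  have hFL : F ≤ L := le_sup_right
  have hLS : L ≤ S := sup_le hHS hFS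
  set Hm : Subgroup Γ := H.map (MulAut.conj m).toMonoidHom with hHm
  have hHmL : Hm ≤ L := by
    rintro y ⟨h, hh, rfl⟩
    have := hL m h hh
    simpa using this
  have hHmcard : Nat.card Hm = Nat.card H :=
    Subgroup.card_map_of_injective (MulAut.conj m).injective
  set H' : Subgroup ↥L := H.subgroupOf L with hH'
  set K' : Subgroup ↥L := Hm.subgroupOf L with hK'
  have hH'card : Nat.card H' = Nat.card H :=
    Nat.card_congr (Subgroup.subgroupOfEquivOfLe hHL).toEquiv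
  have hK'card : Nat.card K' = Nat.card H := by
    rw [← hHmcard]
    exact Nat.card_congr (Subgroup.subgroupOfEquivOfLe hHmL).toEquiv
  have hcardL : Nat.card ↥L = Nat.card H * H.relIndex L := by
    rw [← hH'card]
    exact (H'.card_mul_index).symm
  have hcop : (Nat.card H).Coprime (H.relIndex L) := by
    have h1 : H.relIndex L ∣ H.relIndex S :=
      Dvd.intro _ (Subgroup.relIndex_mul_relIndex H L S hHL hLS)
    exact Nat.Coprime.coprime_dvd_right h1 hHall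
  obtain ⟨g, hg⟩ := Cfsg.Agent.Helper1.hall_conj_aux (Nat.card ↥L) ↥L (Nat.card H)
    (H.relIndex L) rfl hcardL hcop K' H' hK'card hH'card
  -- key: for `y ∈ L`, `y ∈ H ↔ m⁻¹ * l⁻¹ * y * l * m ∈ H`
  have key : ∀ y : Γ, y ∈ L → (y ∈ H ↔ m⁻¹ * (g : Γ)⁻¹ * y * (g : Γ) * m ∈ H) := by
    intro y hy
    have h1 : (⟨y, hy⟩ : ↥L) ∈ H' ↔ (⟨y, hy⟩ : ↥L) ∈ MulAut.conj g • K' := by rw [hg]
    rw [Subgroup.mem_pointwise_smul_iff_inv_smul_mem] at h1
    have h2 : (⟨y, hy⟩ : ↥L) ∈ H' ↔ y ∈ H := by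
      rw [hH', Subgroup.mem_subgroupOf]
    have h3 : (MulAut.conj g)⁻¹ • (⟨y, hy⟩ : ↥L) ∈ K' ↔ (g : Γ)⁻¹ * y * (g : Γ) ∈ Hm := by
      rw [hK', Subgroup.mem_subgroupOf]
      simp [MulAut.smul_def]
    have h4 : (g : Γ)⁻¹ * y * (g : Γ) ∈ Hm ↔ m⁻¹ * (g : Γ)⁻¹ * y * (g : Γ) * m ∈ H := by
      rw [hHm]
      constructor
      · rintro ⟨h, hh, he⟩
        have he' : m * h * m⁻¹ = (g : Γ)⁻¹ * y * (g : Γ) := by simpa using he
        have : m⁻¹ * (g : Γ)⁻¹ * y * (g : Γ) * m = h := by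
          calc m⁻¹ * (g : Γ)⁻¹ * y * (g : Γ) * m
              = m⁻¹ * ((g : Γ)⁻¹ * y * (g : Γ)) * m := by group
            _ = m⁻¹ * (m * h * m⁻¹) * m := by rw [he']
            _ = h := by group
        rw [this]; exact hh
      · intro hh
        refine ⟨_, hh, ?_⟩
        simp only [MulEquiv.coe_toMonoidHom, MulAut.conj_apply]
        group
    rw [← h2, h1, h3, h4]
  -- decompose `l⁻¹ = f * h₁`
  have hginv : (g : Γ)⁻¹ ∈ F ⊔ H := by
    rw [sup_comm]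
    exact L.inv_mem g.2
  have hdec : ∃ f ∈ F, ∃ h₁ ∈ H, f * h₁ = (g : Γ)⁻¹ := by
    have : (g : Γ)⁻¹ ∈ ((F ⊔ H : Subgroup Γ) : Set Γ) := hginv
    rw [Subgroup.normal_mul] at this
    obtain ⟨f, hf, h₁, hh₁, he⟩ := Set.mem_mul.mp this
    exact ⟨f, hf, h₁, hh₁, he⟩
  obtain ⟨f, hf, h₁, hh₁, hfh⟩ := hdec
  set n₀ : Γ := h₁ * (g : Γ) * m with hn₀
  have hmf : m = f * n₀ := by
    rw [hn₀]
    calc m = (g : Γ)⁻¹ * (g : Γ) * m := by group
      _ = f * h₁ * (g : Γ) * m := by rw [hfh]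
      _ = f * (h₁ * (g : Γ) * m) := by group
  have hn₀N : n₀ ∈ normalizer (H : Set Γ) := by
    rw [Subgroup.mem_normalizer_iff]
    intro h
    have hyL : ∀ h : Γ, h ∈ H → (g : Γ) * m * h * m⁻¹ * (g : Γ)⁻¹ ∈ L := by
      intro h hh
      have h1 : m * h * m⁻¹ ∈ L := hL m h hh
      have h2 := L.mul_mem (L.mul_mem g.2 h1) (L.inv_mem g.2)
      have : (g : Γ) * m * h * m⁻¹ * (g : Γ)⁻¹ = (g : Γ) * (m * h * m⁻¹) * (g : Γ)⁻¹ := by group
      rw [this]; exact h2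
    have hback : ∀ h : Γ, m⁻¹ * (g : Γ)⁻¹ * ((g : Γ) * m * h * m⁻¹ * (g : Γ)⁻¹) * (g : Γ) * m = h := by
      intro h; group
    constructor
    · intro hh
      have hy : (g : Γ) * m * h * m⁻¹ * (g : Γ)⁻¹ ∈ H := by
        rw [key _ (hyL h hh), hback]; exact hh
      have : n₀ * h * n₀⁻¹ = h₁ * ((g : Γ) * m * h * m⁻¹ * (g : Γ)⁻¹) * h₁⁻¹ := by
        rw [hn₀]; group
      rw [this]
      exact H.mul_mem (H.mul_mem hh₁ hy) (H.inv_mem hh₁)
    · intro hh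
      have hy : (g : Γ) * m * h * m⁻¹ * (g : Γ)⁻¹ ∈ H := by
        have : (g : Γ) * m * h * m⁻¹ * (g : Γ)⁻¹ = h₁⁻¹ * (n₀ * h * n₀⁻¹) * h₁ := by
          rw [hn₀]; group
        rw [this]
        exact H.mul_mem (H.mul_mem (H.inv_mem hh₁) hh) hh₁
      have hyL' : (g : Γ) * m * h * m⁻¹ * (g : Γ)⁻¹ ∈ L := hHL hy
      have := (key _ hyL').mp hy
      rwa [hback] at this
  set z : Γ := n₀ * x * n₀⁻¹ with hz
  have hzH : z ∈ H := (Subgroup.mem_normalizer_iff.mp hn₀N x).mp hx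
  have hmz : m * x * m⁻¹ = f * z * f⁻¹ := by
    rw [hz]
    conv_lhs => rw [hmf]
    group
  obtain ⟨h, hh, hhz⟩ := hsp z hzH f hf (by rw [← hmz]; exact hm)
  refine ⟨h * n₀, ?_, ?_⟩
  · exact (normalizer (H : Set Γ)).mul_mem (Subgroup.le_normalizer hh) hn₀N
  · rw [hmz, ← hhz, hz]; group

end Cfsg.Agent.Helper59
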