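import Cfsg.Agent.S1372
import Cfsg.Agent.Helper1.BGUniqA

/-!
# CALL BG36 (helper2), piece KB (double by helper59)
-/

set_option autoImplicit false

namespace Cfsg.Agent.Helper59

open Cfsg Subgroup

universe u

variable {G : Type u} [Group G] [Finite G]

/-- PIECE KB: `K ≠ 1`, `U ≠ 1` would make `F(M) ⊇ M_σ` a TI-subset (S1372), but `C_G(x) ⊄ M`
and `N_G(F(M)) = M`. -/
theorem bg36_U_bot (hG : IsMinSimpleOddOrder G) {M K U : Subgroup G} (hM : IsCoatom M)
    (hKU : IsSigmaDecomposition M K U) (hK1 : K ≠ ⊥) {x : G} (hx : x ∈ sigmaCore M)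
    (hx1 : x ≠ 1) (hxM : ¬ centralizer ({x} : Set G) ≤ M) : U = ⊥ := by
  by_contra hU1
  obtain ⟨-, hTI, hσF⟩ := Cfsg.Agent.S1372.result hG M hM K U hKU hK1 hU1
  have hxF : x ∈ fittingOf M := hσF hx
  obtain ⟨g, hgC, hgM⟩ := SetLike.not_le_iff_exists.mp hxM
  have hMn := Cfsg.Agent.Helper1.bgu_le_normalizer_fittingOf M
  have hFM : fittingOf M ≤ M := Cfsg.Agent.Helper1.bgu_fittingOf_le M
  have hnorm : normalizer (fittingOf M : Set G) = M := by
    by_contra hne
    have hlt : M < normalizer (fittingOf M : Set G) := lt_of_le_of_ne hMn (Ne.symm hne)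
    have htop : normalizer (fittingOf M : Set G) = ⊤ := hM.2 _ hlt
    have hnormal : (fittingOf M).Normal := normalizer_eq_top_iff.mp htop
    have : IsSimpleGroup G := hG.2.1
    rcases hnormal.eq_bot_or_eq_top with hb | ht
    · rw [hb, Subgroup.mem_bot] at hxF
      exact hx1 hxF
    · exact hM.1 (top_le_iff.mp (ht ▸ hFM))
  have hgn : g ∉ normalizer (fittingOf M : Set G) := by
    rw [hnorm]
    exact hgM
  have hgx : g * x * g⁻¹ = x := by
    have := Subgroup.mem_centralizer_iff.mp hgC x (Set.mem_singleton x)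
    rw [← this, mul_inv_cancel_right]
  exact hx1 (hTI g hgn x hxF (by rw [hgx]; exact hxF))

end Cfsg.Agent.Helper59
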