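import Cfsg.Agent.S1432

/-!
# CALL BG36 (helper2), piece P3 (double by helper59)
-/

set_option autoImplicit false

namespace Cfsg.Agent.Helper59

open Cfsg Subgroup

universe u

variable {G : Type u} [Group G] [Finite G]

/-- PIECE P3: S1432 in `N` for `(g z g⁻¹, g a₁ g⁻¹)`: the alternative `C_G(g a₁ g⁻¹) ≤ N` would
give `g A g⁻¹ ≤ N`; so `p ∈ κ(N)`.  Also `z` does not centralize `A`. -/
theorem bg36_p_kappa (hG : IsMinSimpleOddOrder G) {N : Subgroup G} (hN : IsCoatom N) {p : ℕ}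
    (hp : p.Prime) (hpσN : p ∉ sigma N) {A : Subgroup G} (hAel : IsElementaryAbelian p A)
    {z g a₁ : G} (hz1 : z ≠ 1) (hgσ : g * z * g⁻¹ ∈ sigmaCore N)
    (hgC : centralizer ({g * z * g⁻¹} : Set G) ≤ N)
    (hnle : ¬ A.map (MulAut.conj g).toMonoidHom ≤ N)
    (ha₁ : a₁ ∈ A) (ha₁1 : a₁ ≠ 1) (hza₁ : z * a₁ = a₁ * z) :
    p ∈ kappa N ∧ ¬ ∀ a ∈ A, z * a = a * z := by
  have hFp : Fact p.Prime := ⟨hp⟩
  have hy1 : g * z * g⁻¹ ≠ 1 := by
    intro e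
    apply hz1
    have e2 : z = g⁻¹ * (g * z * g⁻¹) * g := by group
    rw [e2, e]
    group
  have hb1 : g * a₁ * g⁻¹ ≠ 1 := by
    intro e
    apply ha₁1
    have e2 : a₁ = g⁻¹ * (g * a₁ * g⁻¹) * g := by group
    rw [e2, e]
    group
  have hcomm : ∀ a : G, z * a = a * z →
      g * a * g⁻¹ ∈ centralizer ({g * z * g⁻¹} : Set G) := by
    intro a hza
    rw [mem_centralizer_iff]
    intro h hh
    rw [Set.mem_singleton_iff] at hh
    rw [hh]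
    calc g * z * g⁻¹ * (g * a * g⁻¹) = g * (z * a) * g⁻¹ := by group
      _ = g * (a * z) * g⁻¹ := by rw [hza]
      _ = g * a * g⁻¹ * (g * z * g⁻¹) := by group
  have hbC : g * a₁ * g⁻¹ ∈ centralizer ({g * z * g⁻¹} : Set G) := hcomm a₁ hza₁
  have hbN : g * a₁ * g⁻¹ ∈ N := hgC hbC
  have hbp : (g * a₁ * g⁻¹) ^ p = 1 := by
    rw [conj_pow, hAel.2 a₁ ha₁]
    group
  have hbo : orderOf (g * a₁ * g⁻¹) = p := orderOf_eq_prime hbp hb1
  have hσ : ∀ p' : ℕ, p'.Prime → p' ∣ orderOf (g * a₁ * g⁻¹) → p' ∉ sigma N := by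
    intro p' hp' hd
    rw [hbo] at hd
    rw [(Nat.prime_dvd_prime_iff_eq hp' hp).mp hd]
    exact hpσN
  refine ⟨?_, ?_⟩
  · rcases Cfsg.Agent.S1432.result hG N hN (g * z * g⁻¹) hgσ hy1 (g * a₁ * g⁻¹) ⟨hbN, hbC⟩ hb1 hσ
      with ⟨hκ, -⟩ | ⟨-, -, hCb, -⟩
    · exact hκ p hp (by rw [hbo])
    · exfalso
      apply hnle
      rintro _ ⟨a, ha, rfl⟩
      apply hCb
      rw [mem_centralizer_iff]
      intro h hh
      rw [Set.mem_singleton_iff] at hh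
      rw [hh]
      have hc : a₁ * a = a * a₁ :=
        congrArg Subtype.val (hAel.1.is_comm.comm ⟨a₁, ha₁⟩ ⟨a, ha⟩)
      show g * a₁ * g⁻¹ * (g * a * g⁻¹) = g * a * g⁻¹ * (g * a₁ * g⁻¹)
      calc g * a₁ * g⁻¹ * (g * a * g⁻¹) = g * (a₁ * a) * g⁻¹ := by group
        _ = g * (a * a₁) * g⁻¹ := by rw [hc]
        _ = g * a * g⁻¹ * (g * a₁ * g⁻¹) := by group
  · intro hall
    apply hnle
    rintro _ ⟨a, ha, rfl⟩
    exact hgC (hcomm a (hall a ha))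

end Cfsg.Agent.Helper59
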