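/-
helper59: CALL S1390 (helper24) piece PNS (double).
-/
import Mathlib
import Cfsg.Agent.S1403
import Cfsg.Agent.Helper22.BG10b
import Cfsg.Agent.Helper64.PiTwo

set_option autoImplicit false

namespace Cfsg.Agent.Helper59

open Cfsg Subgroup

universe u

variable {G : Type u} [Group G] [Finite G]

/-- PNS. An element of `M` outside `M_σ` has a prime divisor of its order outside `σ(M)`. -/
theorem bg90_exists_prime_not_sigma (hG : IsMinSimpleOddOrder G) {M : Subgroup G}
    (hM : IsCoatom M) {a : G} (haM : a ∈ M) (ha : a ∉ sigmaCore M) :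
    ∃ t : ℕ, t.Prime ∧ t ∣ orderOf a ∧ t ∉ sigma M := by
  by_contra hcon
  push Not at hcon
  apply ha
  have hU : Cfsg.Agent.Helper22.BGUniq G :=
    fun K hK h1 h2 => Cfsg.Agent.S1403.result hG K hK h1 h2
  obtain ⟨⟨hle, -, hidx⟩, -, -⟩ := Cfsg.Agent.Helper22.bg10_sigma_hall hG hU hM
  have hK : ((piCore (sigma M) ↥M).map M.subtype).subgroupOf M = piCore (sigma M) ↥M :=
    Subgroup.comap_map_eq_self_of_injective M.subtype_injective _
  have hindex : (piCore (sigma M) ↥M).index = (sigmaCore M).relIndex M := by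
    unfold sigmaCore Subgroup.relIndex
    rw [hK]
  have hcop : (orderOf (⟨a, haM⟩ : ↥M)).Coprime (piCore (sigma M) ↥M).index := by
    refine Nat.coprime_of_dvd ?_
    intro q hq h1 h2
    rw [Subgroup.orderOf_mk] at h1
    rw [hindex] at h2
    exact hidx q hq (hcon q hq h1) h2
  have hmem := Cfsg.Agent.Helper64.mem_of_coprime_index (piCore (sigma M) ↥M) (⟨a, haM⟩ : ↥M) hcop
  exact ⟨⟨a, haM⟩, hmem, rfl⟩

end Cfsg.Agent.Helper59
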