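/-
helper59: CALL S1390 (helper24) piece UNIQ (double).
-/
import Mathlib
import Cfsg.Agent.S1417
import Cfsg.Agent.Helper72.BG12Cor

set_option autoImplicit false

namespace Cfsg.Agent.Helper59

open Cfsg Subgroup

universe u

variable {G : Type u} [Group G] [Finite G]

/-- UNIQ. S1417 clause 5. -/
theorem bg90_uniq (hG : IsMinSimpleOddOrder G) {M A C : Subgroup G} (hM : IsCoatom M) {t : ℕ}
    (ht : t ∈ tau2 M) (hAM : A ≤ M) (hAc : ∀ a ∈ A, ∀ b ∈ A, a * b = b * a)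
    (hAe : ∀ a ∈ A, a ^ t = 1) (hAcard : Nat.card A = t ^ 2) (hAC : A ≤ C)
    (hfix : sigmaCore M ⊓ C ≠ ⊥) :
    ∀ L : Subgroup G, IsCoatom L → C ≤ L → L = M := by
  intro L hL hCL
  by_contra hne
  haveI : Fact t.Prime := ⟨ht.1⟩
  obtain ⟨-, -, -, -, h5, -⟩ := Cfsg.Agent.S1417.result hG M hM t ht A
    ⟨hAM, Cfsg.Agent.Helper72.b12c_elemAb_of hAc hAe, hAcard⟩
  have h6 := h5 L hL hne (hAC.trans hCL)
  exact hfix (le_bot_iff.mp (h6 ▸ inf_le_inf_left _ hCL))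

end Cfsg.Agent.Helper59
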