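import Mathlib

/-!
# CALL BGP (helper23), piece AR2 (helper59, double): the conjugates of `Zhat` cover more than half
of `G` (pure arithmetic)
-/

set_option autoImplicit false

namespace Cfsg.Agent.Helper59

/-- AR2 (pure arithmetic). The conjugates of `Zhat` cover more than half of `G`. -/
theorem bgp_half_arith {g k ks nT : ℕ} (hk : 3 ≤ k) (hks : 3 ≤ ks) (hok : Odd k) (hoks : Odd ks)
    (hne : k ≠ ks) (hg : 0 < g) (hT : k * ks * nT = (k * ks - k - ks + 1) * g) : g < 2 * nT := by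
  obtain ⟨a, rfl⟩ : ∃ a, k = a + 3 := ⟨k - 3, by omega⟩
  obtain ⟨b, rfl⟩ : ∃ b, ks = b + 3 := ⟨ks - 3, by omega⟩
  obtain ⟨c, hc⟩ := hok
  obtain ⟨e, he⟩ := hoks
  have hab : 2 ≤ a + b := by omega
  have e1 : (a + 3) * (b + 3) = a * b + 3 * a + 3 * b + 9 := by ring
  have e2 : (a + 3) * (b + 3) - (a + 3) - (b + 3) + 1 = a * b + 2 * a + 2 * b + 4 := by
    rw [e1]
    omega
  rw [e2, e1] at hT
  by_contra hcon
  have hcon' : 2 * nT ≤ g := by omega
  have h2 : 2 * ((a * b + 2 * a + 2 * b + 4) * g) ≤ (a * b + 3 * a + 3 * b + 9) * g := by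
    rw [← hT]
    calc 2 * ((a * b + 3 * a + 3 * b + 9) * nT) = (a * b + 3 * a + 3 * b + 9) * (2 * nT) := by ring
      _ ≤ (a * b + 3 * a + 3 * b + 9) * g := Nat.mul_le_mul_left _ hcon'
  have h3 : 2 * (a * b + 2 * a + 2 * b + 4) ≤ a * b + 3 * a + 3 * b + 9 := by
    have h4 : (2 * (a * b + 2 * a + 2 * b + 4)) * g ≤ (a * b + 3 * a + 3 * b + 9) * g := by
      rw [mul_assoc]
      exact h2
    exact Nat.le_of_mul_le_mul_right h4 hg
  have h5 : 0 ≤ a * b := Nat.zero_le _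
  omega

end Cfsg.Agent.Helper59
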