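import Mathlib

/-!
# CALL BGP (helper23), piece ZC (helper59, double): cyclic Sylow subgroups and central commutator
subgroup give a cyclic group
-/

set_option autoImplicit false

namespace Cfsg.Agent.Helper59

open Subgroup

universe u

variable {G : Type u} [Group G] [Finite G]

/-- ZC (pure). Cyclic Sylow subgroups and central commutator subgroup: cyclic. -/
theorem bgp_cyclic_of_central (Ks : Subgroup G)
    (hS : ∀ (p : ℕ) [Fact p.Prime] (P : Sylow p Ks), IsCyclic P)
    (hc : ∀ y ∈ Ks, ∀ a ∈ ⁅Ks, Ks⁆, y * a = a * y) : IsCyclic Ks := by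
  have hZ : IsZGroup ↥Ks := ⟨fun p hp P => @hS p ⟨hp⟩ P⟩
  have h2 : Ks.lowerCentralSeries 2 = ⊥ := by
    show ⁅⁅Ks, Ks⁆, Ks⁆ = ⊥
    rw [Subgroup.commutator_eq_bot_iff_le_centralizer]
    intro a ha
    rw [mem_centralizer_iff]
    intro y hy
    exact hc y hy a ha
  have hN : Group.IsNilpotent ↥Ks := isNilpotent_of_lowerCentralSeries_eq_bot h2
  infer_instance

end Cfsg.Agent.Helper59
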