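import Mathlib

/-!
# CALL BGP (helper23), piece ZH (helper59, double): the size of `Zhat` and of `K ⊔ Ks`
-/

set_option autoImplicit false

namespace Cfsg.Agent.Helper59

open Subgroup

universe u

variable {G : Type u} [Group G] [Finite G]

/-- ZH (pure). The size of `Zhat` and of `K ⊔ Ks`. -/
theorem bgp_zhat_card (K Ks : Subgroup G) (hc : Ks ≤ centralizer (K : Set G))
    (hcop : (Nat.card K).Coprime (Nat.card Ks)) :
    Set.ncard ((↑(K ⊔ Ks) : Set G) \ ((K : Set G) ∪ ↑Ks)) + Nat.card K + Nat.card Ks =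
        Nat.card K * Nat.card Ks + 1 ∧
      Nat.card ↥(K ⊔ Ks) = Nat.card K * Nat.card Ks := by
  classical
  have hbot : K ⊓ Ks = ⊥ := Subgroup.inf_eq_bot_of_coprime hcop
  have hcomm : ∀ (m : ↥K) (n : ↥Ks), Commute (K.subtype m) (Ks.subtype n) := by
    intro m n
    have h1 := (mem_centralizer_iff.mp (hc n.2)) m.1 m.2
    exact h1
  have hinj : Function.Injective (MonoidHom.noncommCoprod K.subtype Ks.subtype hcomm) := by
    rw [MonoidHom.noncommCoprod_injective]
    refine ⟨K.subtype_injective, Ks.subtype_injective, ?_⟩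
    rw [Subgroup.range_subtype, Subgroup.range_subtype, disjoint_iff]
    exact hbot
  have hrange : (MonoidHom.noncommCoprod K.subtype Ks.subtype hcomm).range = K ⊔ Ks := by
    rw [MonoidHom.noncommCoprod_range, Subgroup.range_subtype, Subgroup.range_subtype]
  have hcard : Nat.card ↥(K ⊔ Ks) = Nat.card K * Nat.card Ks := by
    rw [← hrange, ← Nat.card_prod]
    exact (Nat.card_congr (MonoidHom.ofInjective hinj).toEquiv).symm
  refine ⟨?_, hcard⟩
  have hsub : ((K : Set G) ∪ ↑Ks) ⊆ (↑(K ⊔ Ks) : Set G) := by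
    intro x hx
    rcases hx with hx | hx
    · exact (le_sup_left : K ≤ K ⊔ Ks) hx
    · exact (le_sup_right : Ks ≤ K ⊔ Ks) hx
  have hinter : ((K : Set G) ∩ ↑Ks) = {1} := by
    ext x
    constructor
    · intro hx
      have h1 : x ∈ K ⊓ Ks := hx
      rw [hbot, mem_bot] at h1
      exact h1
    · intro hx
      rw [Set.mem_singleton_iff] at hx
      subst hx
      exact ⟨K.one_mem, Ks.one_mem⟩
  have h1 : ((↑(K ⊔ Ks) : Set G) \ ((K : Set G) ∪ ↑Ks)).ncard
      = (↑(K ⊔ Ks) : Set G).ncard - ((K : Set G) ∪ ↑Ks).ncard :=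
    Set.ncard_diff hsub (Set.toFinite _)
  have h2 : ((K : Set G) ∪ ↑Ks).ncard + ((K : Set G) ∩ ↑Ks).ncard
      = (K : Set G).ncard + (Ks : Set G).ncard :=
    Set.ncard_union_add_ncard_inter _ _ (Set.toFinite _) (Set.toFinite _)
  rw [hinter, Set.ncard_singleton] at h2
  have h3 : (K : Set G).ncard = Nat.card K := (Nat.card_coe_set_eq (K : Set G)).symm
  have h4 : (Ks : Set G).ncard = Nat.card Ks := (Nat.card_coe_set_eq (Ks : Set G)).symm
  have h5 : (↑(K ⊔ Ks) : Set G).ncard = Nat.card ↥(K ⊔ Ks) :=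
    (Nat.card_coe_set_eq (↑(K ⊔ Ks) : Set G)).symm
  have h6 : ((K : Set G) ∪ ↑Ks).ncard ≤ (↑(K ⊔ Ks) : Set G).ncard :=
    Set.ncard_le_ncard hsub (Set.toFinite _)
  rw [h1, h5, hcard] at *
  rw [h3, h4] at h2
  omega

end Cfsg.Agent.Helper59
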