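import Cfsg.Agent.Helper1.C9Defs
import Cfsg.Agent.Helper72.BG12Cor
import Cfsg.Agent.Helper78.BG157HC
import Cfsg.Agent.Helper22.BG10b
import Cfsg.Agent.Helper23.FittingHall
import Cfsg.Agent.Helper35.HallCoprime
import Cfsg.Agent.S1403

/-!
# CALL C9 (helper1), piece TA (double by helper59)
-/

set_option autoImplicit false

namespace Cfsg.Agent.Helper59

open Subgroup Cfsg

universe u

variable {G : Type u} [Group G] [Finite G]

/-- `M ⊓ L` is a Hall `σ(M)'`-subgroup of `M` in the setting `C9`. -/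
theorem c9_E_hall (hG : IsMinSimpleOddOrder G) {M N K U L : Subgroup G} {x : G}
    (h : Cfsg.Agent.Helper1.C9 M N K U L x) : IsPiHallOf (sigma M)ᶜ (M ⊓ L) M := by
  have hU : Cfsg.Agent.Helper22.BGUniq G :=
    fun K hK h1 h2 => Cfsg.Agent.S1403.result hG K hK h1 h2
  obtain ⟨⟨hle, hpi, hidx⟩, -, -⟩ := Cfsg.Agent.Helper22.bg10_sigma_hall hG hU h.hM
  have hcard := Cfsg.Agent.Helper23.card_of_isComplIn (M ⊓ L) (sigmaCore M) M h.hE
  have hrel := Cfsg.Agent.Helper35.card_mul_relIndex_of_le hle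
  have hpos : 0 < Nat.card ↥(sigmaCore M) := Nat.card_pos
  have hrelE : (sigmaCore M).relIndex M = Nat.card ↥(M ⊓ L) := by
    have h1 : Nat.card ↥(sigmaCore M) * (sigmaCore M).relIndex M =
        Nat.card ↥(sigmaCore M) * Nat.card ↥(M ⊓ L) := by
      rw [hrel, hcard, mul_comm]
    exact Nat.eq_of_mul_eq_mul_left hpos h1
  refine (Cfsg.Agent.Helper35.isPiHallOf_iff_card hcard ?_ ?_ (M ⊓ L)).mpr ⟨inf_le_left, rfl⟩
  · intro p hp hpd hpσ
    exact hidx p hp hpσ (hrelE ▸ hpd)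
  · intro p hp hpσ hpd
    exact hpσ (hpi p hp hpd)

/-- TA. For `r ∈ τ₂(M)` there is an elementary abelian subgroup of order `r ^ 2` in `M ⊓ L`. -/
theorem c9_exA (hG : IsMinSimpleOddOrder G) {M N K U L : Subgroup G} {x : G}
    (h : Cfsg.Agent.Helper1.C9 M N K U L x) {r : ℕ} (hr : r ∈ tau2 M) :
    ∃ A : Subgroup G, A ≤ M ⊓ L ∧ IsElementaryAbelian r A ∧ Nat.card A = r ^ 2 := by
  obtain ⟨B, hBM, hBe, hBc⟩ := Cfsg.Agent.Helper72.b12c_exists_elemAb hr
  have hHall := c9_E_hall hG h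
  have hBπ : ∀ p : ℕ, p.Prime → p ∣ Nat.card B → p ∈ (sigma M)ᶜ := by
    intro p hp hpd
    rw [hBc] at hpd
    have hpr : p = r := (Nat.prime_dvd_prime_iff_eq hp hr.1).mp (hp.dvd_of_dvd_pow hpd)
    rw [hpr]
    exact hr.2.1
  obtain ⟨m, -, hm⟩ := Cfsg.Agent.Helper78.bg157_hall_conj hG h.hM hHall hBM hBπ
  refine ⟨B.map (MulAut.conj m).toMonoidHom, hm, ?_, ?_⟩
  · apply Cfsg.Agent.Helper72.b12c_elemAb_of
    · rintro _ ⟨a, ha, rfl⟩ _ ⟨b, hb, rfl⟩
      have hab : a * b = b * a := by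
        have := hBe.1.is_comm.comm ⟨a, ha⟩ ⟨b, hb⟩
        exact congrArg Subtype.val this
      rw [← map_mul, ← map_mul, hab]
    · rintro _ ⟨a, ha, rfl⟩
      rw [← map_pow, hBe.2 a ha, map_one]
  · rw [Subgroup.card_map_of_injective (MulAut.conj m).injective, hBc]

end Cfsg.Agent.Helper59
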