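import Cfsg.Agent.Helper1.C9Defs
import Cfsg.Agent.Helper35.Coprime
import Cfsg.Agent.S1419
import Cfsg.Agent.S1363
import Cfsg.Agent.S1353

/-!
# CALL C9 (helper1), piece TD (double by helper59)
-/

set_option autoImplicit false

namespace Cfsg.Agent.Helper59

open Subgroup Cfsg
open scoped Pointwise

universe u

variable {G : Type u} [Group G] [Finite G]

/-- TD. In the setting `C9`, for `r ∈ τ₂(M)` all `r`-subgroups of `G` are abelian. -/
theorem c9_sylab (hG : IsMinSimpleOddOrder G) {M N K U L : Subgroup G} {x : G}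
    (h : Cfsg.Agent.Helper1.C9 M N K U L x) {r : ℕ} (hr : r ∈ tau2 M) {A : Subgroup G}
    (hA : A ≤ M ⊓ L ∧ IsElementaryAbelian r A ∧ Nat.card A = r ^ 2) :
    ∀ P : Subgroup G, IsPGroup r P → ∀ a ∈ P, ∀ b ∈ P, a * b = b * a := by
  have : Fact r.Prime := ⟨hr.1⟩
  by_contra hcon
  push Not at hcon
  obtain ⟨P, hP, a, ha, b, hb, hab⟩ := hcon
  have hS : ∀ S : Sylow r G, ¬ IsMulCommutative (S : Subgroup G) := by
    intro S hSc
    obtain ⟨Q, hPQ⟩ := hP.exists_le_sylow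
    obtain ⟨g, hg⟩ := MulAction.exists_smul_eq G Q S
    have hQS : ∀ y ∈ (Q : Subgroup G), g * y * g⁻¹ ∈ (S : Subgroup G) := by
      intro y hy
      rw [← hg, Sylow.coe_subgroup_smul]
      exact Subgroup.smul_mem_pointwise_smul y (MulAut.conj g) _ hy
    have h1 := hSc.is_comm.comm ⟨g * a * g⁻¹, hQS a (hPQ ha)⟩ ⟨g * b * g⁻¹, hQS b (hPQ hb)⟩
    have h2 : g * a * g⁻¹ * (g * b * g⁻¹) = g * b * g⁻¹ * (g * a * g⁻¹) :=
      congrArg Subtype.val h1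
    apply hab
    have h3 : g * (a * b) * g⁻¹ = g * (b * a) * g⁻¹ := by
      calc g * (a * b) * g⁻¹ = g * a * g⁻¹ * (g * b * g⁻¹) := by group
        _ = g * b * g⁻¹ * (g * a * g⁻¹) := h2
        _ = g * (b * a) * g⁻¹ := by group
    exact mul_left_cancel (mul_right_cancel h3)
  obtain ⟨-, ⟨hcard, -⟩, -⟩ := Cfsg.Agent.S1419.result hG M h.hM (M ⊓ L) h.hE r hr hS A hA
  have hnt : Nontrivial ↥(A ⊓ centralizer (sigmaCore M : Set G)) := by
    rw [← Finite.one_lt_card_iff_nontrivial, hcard]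
    exact hr.1.one_lt
  obtain ⟨⟨a₀, ha₀⟩, hne⟩ := exists_ne (1 : ↥(A ⊓ centralizer (sigmaCore M : Set G)))
  have ha₀1 : a₀ ≠ 1 := fun e => hne (Subtype.ext e)
  have ha₀A : a₀ ∈ A := ha₀.1
  have ha₀C : a₀ ∈ centralizer (sigmaCore M : Set G) := ha₀.2
  have ha₀E : a₀ ∈ M ⊓ L := hA.1 ha₀A
  have ha₀x : a₀ ∈ centralizer ({x} : Set G) := by
    rw [Subgroup.mem_centralizer_iff]
    intro y hy
    rw [Set.mem_singleton_iff] at hy
    subst hy
    exact Subgroup.mem_centralizer_iff.mp ha₀C y h.hx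
  have ha₀NM : a₀ ∈ N ⊓ M := ⟨h.hxN ha₀x, ha₀E.1⟩
  rw [h.hMN] at ha₀NM
  obtain ⟨u, hu, k, hk, hEq⟩ :=
    Cfsg.Agent.Helper35.exists_mul_of_mem_sup_of_le_normalizer h.hKU.normal ha₀NM
  have hEσ : (M ⊓ L) ⊓ sigmaCore M = ⊥ := h.hE.2.2.1
  have hk1 : k ≠ 1 := by
    intro e
    rw [e, mul_one] at hEq
    have hmem : a₀ ∈ (M ⊓ L) ⊓ sigmaCore M := ⟨ha₀E, h.hUσ (hEq ▸ hu)⟩
    rw [hEσ, Subgroup.mem_bot] at hmem
    exact ha₀1 hmem
  obtain ⟨hUab, -⟩ := Cfsg.Agent.S1363.result hG N h.hN K U h.hKU h.hK1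
  have hkU : ∀ v ∈ U, k * v = v * k := by
    intro v hv
    have h1 : v * a₀ = a₀ * v := Subgroup.mem_centralizer_iff.mp ha₀C v (h.hUσ hv)
    have h2 : v * u = u * v := congrArg Subtype.val (hUab.is_comm.comm ⟨v, hv⟩ ⟨u, hu⟩)
    have hk' : k = u⁻¹ * a₀ := by rw [hEq]; group
    have h3 : v * u⁻¹ = u⁻¹ * v := (Commute.inv_right (show Commute v u from h2)).eq
    rw [hk']
    calc u⁻¹ * a₀ * v = u⁻¹ * (a₀ * v) := by group
      _ = u⁻¹ * (v * a₀) := by rw [h1]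
      _ = (u⁻¹ * v) * a₀ := by group
      _ = (v * u⁻¹) * a₀ := by rw [h3]
      _ = v * (u⁻¹ * a₀) := by group
  have h53 := Cfsg.Agent.S1353.result hG N h.hN K U h.hKU k hk hk1
  obtain ⟨⟨v, hv⟩, hv1⟩ := Subgroup.ne_bot_iff_exists_ne_one.mp h.hU1
  have hvmem : v ∈ U ⊓ centralizer ({k} : Set G) := by
    refine ⟨hv, ?_⟩
    show v ∈ centralizer ({k} : Set G)
    rw [Subgroup.mem_centralizer_iff]
    intro y hy
    rw [Set.mem_singleton_iff] at hy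
    subst hy
    exact hkU v hv
  rw [h53, Subgroup.mem_bot] at hvmem
  exact hv1 (Subtype.ext hvmem)

end Cfsg.Agent.Helper59
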