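import Mathlib
import Cfsg.Agent.Helper59.Deg11Def
import Cfsg.Agent.Helper59.Derange2

/-!
# Transitive groups of degree 11: general counting tools
-/

set_option autoImplicit false
set_option linter.unusedSectionVars false
set_option linter.style.haveILetI false

namespace Cfsg.Agent.Helper59

open MulAction

/-- A `p`-group `Q` acting on a type and preserving a finite set `S`: the size of `S` is congruent
mod `p` to the number `F` of points of `S` fixed by `Q`. -/
theorem card_modEq_fixed_subgroup {Γ X : Type*} [Group Γ] [MulAction Γ X] {p : ℕ}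
    [Fact p.Prime] (Q : Subgroup Γ) (hQ : IsPGroup p Q) (S F : Finset X)
    (hS : ∀ q ∈ Q, ∀ s ∈ S, q • s ∈ S) (hF : ∀ s, s ∈ F ↔ s ∈ S ∧ ∀ q ∈ Q, q • s = s) :
    S.card ≡ F.card [MOD p] := by
  classical
  let T : SubMulAction Q X :=
    { carrier := (S : Set X)
      smul_mem' := fun c x hx => hS c.1 c.2 x hx }
  haveI : Finite T := Finite.of_injective (fun t : T => (⟨t.1, t.2⟩ : S)) (fun a b h => by
    apply Subtype.ext
    exact congrArg (fun z : S => (z : X)) h)
  have h := hQ.card_modEq_card_fixedPoints T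
  have h1 : Nat.card T = S.card := by
    rw [← Fintype.card_coe, ← Nat.card_eq_fintype_card]
    exact Nat.card_congr (Equiv.subtypeEquivRight (fun x => Iff.rfl))
  have h2 : Nat.card (fixedPoints Q T) = F.card := by
    rw [← Fintype.card_coe, ← Nat.card_eq_fintype_card]
    refine Nat.card_congr
      { toFun := fun t => ⟨t.1.1, (hF _).2 ⟨t.1.2, fun q hq => ?_⟩⟩
        invFun := fun x => ⟨⟨x.1, ((hF _).1 x.2).1⟩, fun q => Subtype.ext (((hF _).1 x.2).2 q.1 q.2)⟩
        left_inv := fun t => rfl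
        right_inv := fun x => rfl }
    have := t.2 ⟨q, hq⟩
    exact congrArg Subtype.val this
  rw [h1, h2] at h
  exact h

/-- Single-element version: `g` of `p`-power order preserving a finite set `S`. -/
theorem card_modEq_fixed {Γ X : Type*} [Group Γ] [MulAction Γ X] [DecidableEq X] {p n : ℕ}
    [Fact p.Prime] (g : Γ) (hg : g ^ p ^ n = 1) (S : Finset X) (hS : ∀ s ∈ S, g • s ∈ S) :
    S.card ≡ (S.filter (fun s => g • s = s)).card [MOD p] := by
  have hiff : ∀ s, g • s ∈ S ↔ s ∈ S := by
    intro s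
    refine ⟨fun h => ?_, hS s⟩
    have himg : S.image (fun s => g • s) = S := by
      apply Finset.eq_of_subset_of_card_le
      · intro x hx
        obtain ⟨y, hy, rfl⟩ := Finset.mem_image.mp hx
        exact hS y hy
      · rw [Finset.card_image_of_injective _ (MulAction.injective g)]
    rw [← himg] at h
    obtain ⟨y, hy, hys⟩ := Finset.mem_image.mp h
    have : y = s := MulAction.injective g hys
    rw [← this]; exact hy
  let St : Subgroup Γ :=
    { carrier := {q | ∀ s, q • s ∈ S ↔ s ∈ S}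
      mul_mem' := fun {a b} ha hb s => by
        rw [mul_smul, ha (b • s), hb s]
      one_mem' := fun s => by rw [one_smul]
      inv_mem' := fun {a} ha s => by
        rw [← ha (a⁻¹ • s), smul_inv_smul] }
  have hle : Subgroup.zpowers g ≤ St := by
    rw [Subgroup.zpowers_le]
    exact hiff
  have hQ : IsPGroup p (Subgroup.zpowers g) := by
    rintro ⟨x, hx⟩
    obtain ⟨k, rfl⟩ := Subgroup.mem_zpowers_iff.mp hx
    refine ⟨n, Subtype.ext ?_⟩
    simp only [Subgroup.coe_pow, Subgroup.coe_one]
    rw [← zpow_natCast, ← zpow_mul, mul_comm, zpow_mul, zpow_natCast, hg, one_zpow]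
  apply card_modEq_fixed_subgroup (Subgroup.zpowers g) hQ S
  · intro q hq s hs
    exact (hle hq s).mpr hs
  · intro s
    rw [Finset.mem_filter]
    refine and_congr_right (fun _ => ⟨fun h q hq => ?_, fun h => h g (Subgroup.mem_zpowers g)⟩)
    have : Subgroup.zpowers g ≤ stabilizer Γ s := by
      rw [Subgroup.zpowers_le, mem_stabilizer_iff]; exact h
    exact mem_stabilizer_iff.mp (this hq)

/-- Conjugation version: a `p`-subgroup `Q` normalizing a finite set `S` of group elements. -/
theorem card_modEq_conj_fixed {G : Type*} [Group G] {p : ℕ} [Fact p.Prime]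
    (Q : Subgroup G) (hQ : IsPGroup p Q) (S F : Finset G)
    (hS : ∀ q ∈ Q, ∀ s ∈ S, q * s * q⁻¹ ∈ S)
    (hF : ∀ s, s ∈ F ↔ s ∈ S ∧ ∀ q ∈ Q, q * s = s * q) : S.card ≡ F.card [MOD p] := by
  apply card_modEq_fixed_subgroup (Γ := ConjAct G) (X := G)
    (Q.map (ConjAct.toConjAct : G ≃* ConjAct G).toMonoidHom) (hQ.map _) S F
  · rintro q' ⟨q, hq, rfl⟩ s hs
    change ConjAct.toConjAct q • s ∈ S
    rw [ConjAct.toConjAct_smul]
    exact hS q hq s hs
  · intro s
    rw [hF s]
    refine and_congr_right (fun _ => ⟨fun h q' hq' => ?_, fun h q hq => ?_⟩)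
    · obtain ⟨q, hq, rfl⟩ := hq'
      change ConjAct.toConjAct q • s = s
      rw [ConjAct.toConjAct_smul, mul_inv_eq_iff_eq_mul]
      exact h q hq
    · have := h (ConjAct.toConjAct q) ⟨q, hq, rfl⟩
      rw [ConjAct.toConjAct_smul, mul_inv_eq_iff_eq_mul] at this
      exact this

/-- Double counting fixed points: `Y` a finite set of group elements each fixing exactly `f`
points of `S`, and every point of `S` is the image of `c` under an element normalizing `Y`. -/
theorem count_fix {G α : Type*} [Group G] [MulAction G α] [DecidableEq α] [DecidableEq G]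
    (Y : Finset G) (S : Finset α) (f : ℕ) (c : α)
    (hf : ∀ y ∈ Y, (S.filter (fun s => y • s = s)).card = f)
    (htr : ∀ s ∈ S, ∃ g : G, g • c = s ∧ ∀ y, g * y * g⁻¹ ∈ Y ↔ y ∈ Y) :
    Y.card * f = S.card * (Y.filter (fun y => y • c = c)).card := by
  have h := Finset.sum_card_bipartiteAbove_eq_sum_card_bipartiteBelow (s := Y) (t := S)
    (fun y s => y • s = s)
  have hl : ∑ y ∈ Y, (S.bipartiteAbove (fun y s => y • s = s) y).card = Y.card * f := by
    have h1 : ∀ y ∈ Y, (S.bipartiteAbove (fun y s => y • s = s) y).card = f :=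
      fun y hy => hf y hy
    rw [Finset.sum_congr rfl h1, Finset.sum_const, smul_eq_mul]
  have hr : ∑ s ∈ S, (Y.bipartiteBelow (fun y s => y • s = s) s).card =
      S.card * (Y.filter (fun y => y • c = c)).card := by
    have h1 : ∀ s ∈ S, (Y.bipartiteBelow (fun y s => y • s = s) s).card =
        (Y.filter (fun y => y • c = c)).card := ?_
    · rw [Finset.sum_congr rfl h1, Finset.sum_const, smul_eq_mul]
    intro s hs
    obtain ⟨g, hg, hconj⟩ := htr s hs
    symm
    apply Finset.card_bij' (fun y _ => g * y * g⁻¹) (fun y _ => g⁻¹ * y * g)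
    · intro y hy
      rw [Finset.mem_filter] at hy
      change g * y * g⁻¹ ∈ Y.filter (fun y => y • s = s)
      rw [Finset.mem_filter]
      refine ⟨(hconj y).mpr hy.1, ?_⟩
      rw [← hg, mul_smul, mul_smul, inv_smul_smul, hy.2]
    · intro y hy
      change y ∈ Y.filter (fun y => y • s = s) at hy
      rw [Finset.mem_filter] at hy
      rw [Finset.mem_filter]
      refine ⟨(hconj _).mp ?_, ?_⟩
      · have : g * (g⁻¹ * y * g) * g⁻¹ = y := by group
        rw [this]; exact hy.1
      · rw [mul_smul, mul_smul, hg, hy.2, ← hg, inv_smul_smul]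
    · intro y _; group
    · intro y _; group
  rw [← hl, ← hr]
  exact h

/-- Sylow conjugacy inside a subgroup `K`: a `p`-subgroup `B` of `K` is conjugate in `K` into
any `p`-subgroup `A` of `K` of maximal order. -/
theorem conj_in_subgroup {G : Type*} [Group G] [Finite G] {p : ℕ} [Fact p.Prime]
    (K A B : Subgroup G) (hA : A ≤ K) (hB : B ≤ K) (hAp : IsPGroup p A) (hBp : IsPGroup p B)
    (hmax : ∀ Q : Subgroup G, Q ≤ K → IsPGroup p Q → Nat.card Q ≤ Nat.card A) :
    ∃ k ∈ K, ∀ x ∈ B, k * x * k⁻¹ ∈ A := by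
  have hA' : IsPGroup p (A.subgroupOf K) := hAp.comap_subtype
  have hB' : IsPGroup p (B.subgroupOf K) := hBp.comap_subtype
  obtain ⟨PA, hPA⟩ := hA'.exists_le_sylow
  obtain ⟨PB, hPB⟩ := hB'.exists_le_sylow
  have hPAeq : (PA : Subgroup K) = A.subgroupOf K := by
    have h1 : Nat.card ((PA : Subgroup K).map K.subtype) ≤ Nat.card A :=
      hmax _ (Subgroup.map_subtype_le _) (PA.isPGroup'.map _)
    have h2 : Nat.card ((PA : Subgroup K).map K.subtype) = Nat.card (PA : Subgroup K) :=
      Subgroup.card_map_of_injective K.subtype_injective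
    have h3 : Nat.card (A.subgroupOf K) = Nat.card A :=
      Nat.card_congr (Subgroup.subgroupOfEquivOfLe hA).toEquiv
    exact (Subgroup.eq_of_le_of_card_ge hPA (by omega)).symm
  obtain ⟨k, hk⟩ := MulAction.exists_smul_eq K PB PA
  refine ⟨k.1, k.2, fun x hx => ?_⟩
  have hxB : (⟨x, hB hx⟩ : K) ∈ (PB : Subgroup K) := hPB (Subgroup.mem_subgroupOf.mpr hx)
  have hmem : k * ⟨x, hB hx⟩ * k⁻¹ ∈ (PA : Subgroup K) := by
    rw [← hk, Sylow.coe_subgroup_smul]
    exact Subgroup.smul_mem_pointwise_smul _ (MulAut.conj k) _ hxB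
  rw [hPAeq, Subgroup.mem_subgroupOf] at hmem
  exact hmem

/-! ### Fixed points -/

section fx

variable {G α : Type*} [Group G] [MulAction G α] [Fintype α] [DecidableEq α]

theorem mem_fxs {g : G} {a : α} : a ∈ fxs α g ↔ g • a = a := by
  unfold fxs
  rw [Finset.mem_filter]
  exact ⟨fun h => h.2, fun h => ⟨Finset.mem_univ a, h⟩⟩

theorem fx_one : fx α (1 : G) = Fintype.card α := by
  unfold fx fxs
  rw [Finset.filter_true_of_mem (fun a _ => one_smul G a), Finset.card_univ]

theorem fxs_subset_pow (g : G) (n : ℕ) : fxs α g ⊆ fxs α (g ^ n) := by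
  intro a ha
  rw [mem_fxs] at ha ⊢
  induction n with
  | zero => rw [pow_zero, one_smul]
  | succ n ih => rw [pow_succ, mul_smul, ha, ih]

theorem fx_le_pow (g : G) (n : ℕ) : fx α g ≤ fx α (g ^ n) :=
  Finset.card_le_card (fxs_subset_pow g n)

theorem fx_le_card (g : G) : fx α g ≤ Fintype.card α := Finset.card_le_univ _

theorem fx_conj (h g : G) : fx α (h * g * h⁻¹) = fx α g := by
  unfold fx
  symm
  refine Finset.card_bij' (fun a _ => h • a) (fun a _ => h⁻¹ • a) ?_ ?_ ?_ ?_
  · intro a ha
    rw [mem_fxs] at ha ⊢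
    rw [mul_smul, mul_smul, inv_smul_smul, ha]
  · intro a ha
    rw [mem_fxs] at ha ⊢
    rw [mul_smul, mul_smul] at ha
    calc g • h⁻¹ • a = h⁻¹ • (h • g • h⁻¹ • a) := (inv_smul_smul h _).symm
      _ = h⁻¹ • a := by rw [ha]
  · intro a _; exact inv_smul_smul h a
  · intro a _; exact smul_inv_smul h a

theorem card_fixedBy_eq_fx (g : G) : Nat.card (fixedBy α g) = fx α g := by
  unfold fx fxs
  rw [Nat.card_eq_fintype_card]
  exact Fintype.card_subtype _

/-- An element of `p`-power order commuting with `u`: fixed points of `u` mod `p`. -/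
theorem fx_modEq_of_commute {p n : ℕ} [Fact p.Prime] {g u : G} (hg : g ^ p ^ n = 1)
    (hc : Commute g u) :
    fx α u ≡ ((fxs α u).filter (fun a => g • a = a)).card [MOD p] := by
  apply card_modEq_fixed g hg (fxs α u)
  intro a ha
  rw [mem_fxs] at ha ⊢
  rw [smul_smul, ← hc.eq, mul_smul, ha]

/-- An element of `2`-power order has an odd number of fixed points on a set of odd size. -/
theorem fx_modEq_card {p n : ℕ} [Fact p.Prime] {g : G} (hg : g ^ p ^ n = 1) :
    Fintype.card α ≡ fx α g [MOD p] := by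
  have h := card_modEq_fixed (X := α) g hg Finset.univ (fun s _ => Finset.mem_univ _)
  rw [Finset.card_univ] at h
  exact h

/-- A nontrivial element of `p`-power order has a power of order `p`. -/
theorem exists_pow_orderOf_eq_prime {p k : ℕ} (hp : p.Prime) {g : G} (hg : g ^ p ^ k = 1)
    (hg1 : g ≠ 1) : ∃ n : ℕ, orderOf (g ^ n) = p := by
  have hdvd : orderOf g ∣ p ^ k := orderOf_dvd_of_pow_eq_one hg
  obtain ⟨j, -, hj⟩ := (Nat.dvd_prime_pow hp).mp hdvd
  have hj1 : j ≠ 0 := by
    rintro rfl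
    rw [pow_zero, orderOf_eq_one_iff] at hj
    exact hg1 hj
  refine ⟨orderOf g / p, orderOf_pow_orderOf_div ?_ ?_⟩
  · rw [hj]; exact pow_ne_zero _ hp.pos.ne'
  · rw [hj]; exact dvd_pow_self p hj1

/-- If all nonidentity elements of a subgroup `Q` have exactly `f` fixed points, then `|Q|`
divides `|α| - f` (Burnside's lemma). -/
theorem card_dvd_of_fx_const [Finite G] (Q : Subgroup G) (f : ℕ)
    (hf : ∀ q ∈ Q, q ≠ 1 → fx α q = f) (hle : f ≤ Fintype.card α) :
    Nat.card Q ∣ Fintype.card α - f := by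
  classical
  haveI := Fintype.ofFinite G
  have hB := burnside_subgroup (Ω := α) Q
  have hcard : (Finset.univ.filter (· ∈ Q)).card = Nat.card Q := by
    rw [Nat.card_eq_fintype_card, Fintype.card_subtype]
  have h1 : (1 : G) ∈ Finset.univ.filter (· ∈ Q) := by
    rw [Finset.mem_filter]; exact ⟨Finset.mem_univ _, Q.one_mem⟩
  rw [← Finset.add_sum_erase _ _ h1, card_fixedBy_eq_fx, fx_one] at hB
  have h2 : ∀ q ∈ (Finset.univ.filter (· ∈ Q)).erase 1, Nat.card (fixedBy α q) = f := by
    intro q hq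
    rw [Finset.mem_erase, Finset.mem_filter] at hq
    rw [card_fixedBy_eq_fx]
    exact hf q hq.2.2 hq.1
  rw [Finset.sum_congr rfl h2, Finset.sum_const, smul_eq_mul, Finset.card_erase_of_mem h1,
    hcard] at hB
  have hpos : 0 < Nat.card Q := Nat.card_pos
  set m := Nat.card Q
  set N := Fintype.card α
  -- N + (m - 1) * f = orb * m
  have h3 : N - f + m * f = Nat.card (orbitRel.Quotient Q α) * m := by
    rw [← hB]
    have : (m - 1) * f + f = m * f := by
      rw [← Nat.succ_mul, Nat.succ_eq_add_one, Nat.sub_add_cancel hpos]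
    omega
  have h4 : m ∣ N - f + m * f := Dvd.intro_left _ h3.symm
  exact (Nat.dvd_add_left (Dvd.intro _ rfl)).mp h4

/-- Orbit-stabilizer with the orbit given as a finset. -/
theorem card_eq_card_orbit_mul (L : Subgroup G) (a : α) (S : Finset α)
    (hS : ∀ x, x ∈ S ↔ ∃ g ∈ L, g • a = x) :
    Nat.card L = S.card * Nat.card (L ⊓ stabilizer G a : Subgroup G) := by
  rw [← card_orbit_subgroup L a]
  congr 1
  have : orbit L a = (S : Set α) := by
    ext x
    rw [Finset.mem_coe, hS, mem_orbit_iff]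
    constructor
    · rintro ⟨g, hg⟩; exact ⟨g.1, g.2, hg⟩
    · rintro ⟨g, hg, h⟩; exact ⟨⟨g, hg⟩, h⟩
  rw [this, Nat.card_coe_set_eq, Set.ncard_coe_finset]

theorem conj_smul_smul_eq_iff (g y : G) (a : α) :
    (g * y * g⁻¹) • g • a = g • a ↔ y • a = a := by
  rw [mul_smul, mul_smul, inv_smul_smul]
  exact (MulAction.injective g).eq_iff

theorem conj_smul_eq_iff {g : G} (y : G) {a : α} (hg : g • a = a) :
    (g * y * g⁻¹) • a = a ↔ y • a = a := by
  have := conj_smul_smul_eq_iff g y a
  rw [hg] at this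
  exact this

theorem two_le_fx {g : G} {a b : α} (hab : a ≠ b) (ha : g • a = a) (hb : g • b = b) :
    2 ≤ fx α g := by
  have h : ({a, b} : Finset α) ⊆ fxs α g := by
    intro x hx
    simp only [Finset.mem_insert, Finset.mem_singleton] at hx
    rcases hx with rfl | rfl <;> rw [mem_fxs] <;> assumption
  have hc : ({a, b} : Finset α).card = 2 := Finset.card_pair hab
  exact hc ▸ Finset.card_le_card h

theorem three_le_fx {g : G} {a b c : α} (hab : a ≠ b) (hac : a ≠ c) (hbc : b ≠ c)
    (ha : g • a = a) (hb : g • b = b) (hc : g • c = c) : 3 ≤ fx α g := by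
  have h : ({a, b, c} : Finset α) ⊆ fxs α g := by
    intro x hx
    simp only [Finset.mem_insert, Finset.mem_singleton] at hx
    rcases hx with rfl | rfl | rfl <;> rw [mem_fxs] <;> assumption
  have hc : ({a, b, c} : Finset α).card = 3 := Finset.card_eq_three.mpr ⟨a, b, c, hab, hac, hbc, rfl⟩
  exact hc ▸ Finset.card_le_card h

theorem four_le_fx {g : G} {a b c d : α} (hab : a ≠ b) (hac : a ≠ c) (had : a ≠ d) (hbc : b ≠ c)
    (hbd : b ≠ d) (hcd : c ≠ d)
    (ha : g • a = a) (hb : g • b = b) (hc : g • c = c) (hd : g • d = d) : 4 ≤ fx α g := by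
  have h : ({a, b, c, d} : Finset α) ⊆ fxs α g := by
    intro x hx
    simp only [Finset.mem_insert, Finset.mem_singleton] at hx
    rcases hx with rfl | rfl | rfl | rfl <;> rw [mem_fxs] <;> assumption
  have hc : ({a, b, c, d} : Finset α).card = 4 := by
    rw [Finset.card_insert_of_notMem (by simp [hab, hac, had]),
      Finset.card_eq_three.mpr ⟨b, c, d, hbc, hbd, hcd, rfl⟩]
  exact hc ▸ Finset.card_le_card h

end fx

/-! ### Groups of degree 11 -/

section d11

variable {G α : Type*} [Group G] [Finite G] [MulAction G α] [Fintype α] [DecidableEq α]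

namespace D11

theorem one (D : D11 G α) (a s : α) : ∃ g : G, g • a = s := by
  obtain ⟨b, hb⟩ : ∃ b, b ≠ a := Fintype.exists_ne_of_one_lt_card (by rw [D.card]; norm_num) a
  obtain ⟨t, ht⟩ : ∃ t, t ≠ s := Fintype.exists_ne_of_one_lt_card (by rw [D.card]; norm_num) s
  obtain ⟨g, hg, -⟩ := D.two a b s t hb.symm ht.symm
  exact ⟨g, hg⟩

theorem eq_one_of_fx (D : D11 G α) {g : G} (h : fx α g = 11) : g = 1 := by
  apply D.faith
  intro a
  have : fxs α g = Finset.univ := Finset.eq_univ_of_card _ (by rw [D.card]; exact h)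
  exact mem_fxs.mp (this ▸ Finset.mem_univ a)

theorem card_stab1 (D : D11 G α) (a : α) : Nat.card G = 11 * Nat.card (stabilizer G a) := by
  have h := card_eq_card_orbit_mul (⊤ : Subgroup G) a Finset.univ (fun x => by
    simp only [Finset.mem_univ, Subgroup.mem_top, true_and, true_iff]
    exact D.one a x)
  rw [Subgroup.card_top, top_inf_eq, Finset.card_univ, D.card] at h
  exact h

theorem card_stab2 (D : D11 G α) {a b : α} (hab : a ≠ b) :
    Nat.card (stabilizer G a) =
      10 * Nat.card (stabilizer G a ⊓ stabilizer G b : Subgroup G) := by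
  have h := card_eq_card_orbit_mul (stabilizer G a) b (Finset.univ.erase a) (fun x => by
    rw [Finset.mem_erase]
    simp only [Finset.mem_univ, and_true, mem_stabilizer_iff]
    constructor
    · intro hx
      obtain ⟨g, hg1, hg2⟩ := D.two a b a x hab (Ne.symm hx)
      exact ⟨g, hg1, hg2⟩
    · rintro ⟨g, hg1, rfl⟩ h
      exact hab (MulAction.injective g (h.trans hg1.symm)).symm)
  rw [Finset.card_erase_of_mem (Finset.mem_univ a), Finset.card_univ, D.card] at h
  exact h

theorem card_stab3 (D : D11 G α) (h3 : Tr3 G α) {a b c : α} (hab : a ≠ b) (hac : a ≠ c)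
    (hbc : b ≠ c) :
    Nat.card (stabilizer G a ⊓ stabilizer G b : Subgroup G) =
      9 * Nat.card (stabilizer G a ⊓ stabilizer G b ⊓ stabilizer G c : Subgroup G) := by
  have h := card_eq_card_orbit_mul (stabilizer G a ⊓ stabilizer G b) c
    ((Finset.univ.erase a).erase b) (fun x => by
    rw [Finset.mem_erase, Finset.mem_erase]
    simp only [Finset.mem_univ, and_true, Subgroup.mem_inf, mem_stabilizer_iff]
    constructor
    · rintro ⟨hxb, hxa⟩
      obtain ⟨g, hg1, hg2, hg3⟩ := h3 a b c a b x hab hac hbc hab (Ne.symm hxa) (Ne.symm hxb)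
      exact ⟨g, ⟨hg1, hg2⟩, hg3⟩
    · rintro ⟨g, ⟨hg1, hg2⟩, rfl⟩
      exact ⟨fun h => hbc (MulAction.injective g (h.trans hg2.symm)).symm,
        fun h => hac (MulAction.injective g (h.trans hg1.symm)).symm⟩)
  rw [Finset.card_erase_of_mem (by simp [hab.symm]),
    Finset.card_erase_of_mem (Finset.mem_univ a), Finset.card_univ, D.card] at h
  exact h

theorem card_eq (D : D11 G α) {a b : α} (hab : a ≠ b) :
    Nat.card G = 110 * Nat.card (stabilizer G a ⊓ stabilizer G b : Subgroup G) := by
  rw [D.card_stab1 a, D.card_stab2 hab]; ring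

theorem card_eq3 (D : D11 G α) (h3 : Tr3 G α) {a b c : α} (hab : a ≠ b) (hac : a ≠ c)
    (hbc : b ≠ c) :
    Nat.card G =
      990 * Nat.card (stabilizer G a ⊓ stabilizer G b ⊓ stabilizer G c : Subgroup G) := by
  rw [D.card_eq hab, D.card_stab3 h3 hab hac hbc]; ring

theorem exists_pair (D : D11 G α) : ∃ a b : α, a ≠ b :=
  Fintype.exists_pair_of_one_lt_card (by rw [D.card]; norm_num)

theorem exists_orderOf_eq_five (D : D11 G α) : ∃ w : G, orderOf w = 5 := by
  obtain ⟨a, b, hab⟩ := D.exists_pair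
  haveI : Fact (Nat.Prime 5) := ⟨by norm_num⟩
  exact exists_prime_orderOf_dvd_card' 5
    (by rw [D.card_eq hab]; exact Dvd.dvd.mul_right (by norm_num) _)

theorem exists_orderOf_eq_eleven (D : D11 G α) : ∃ w : G, orderOf w = 11 := by
  obtain ⟨a, b, hab⟩ := D.exists_pair
  haveI : Fact (Nat.Prime 11) := ⟨by norm_num⟩
  exact exists_prime_orderOf_dvd_card' 11
    (by rw [D.card_eq hab]; exact Dvd.dvd.mul_right (by norm_num) _)

/-- An element commuting with an element of order 5 has `≡ 1 mod 5` fixed points. -/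
theorem c5 (D : D11 G α) {w u : G} (hw : orderOf w = 5) (hc : Commute w u) :
    fx α u % 5 = 1 := by
  haveI : Fact (Nat.Prime 5) := ⟨by norm_num⟩
  have h := fx_modEq_of_commute (α := α) (p := 5) (n := 1) (g := w) (u := u)
    (by rw [pow_one, ← hw, pow_orderOf_eq_one]) hc
  have hw1 : fx α w = 1 := D.o5 w hw
  obtain ⟨a0, ha0⟩ := Finset.card_eq_one.mp hw1
  have hwa : w • a0 = a0 := mem_fxs.mp (ha0 ▸ Finset.mem_singleton_self a0)
  have hu : u • a0 = a0 := by
    have : u • a0 ∈ fxs α w := by
      rw [mem_fxs, smul_smul, hc.eq, mul_smul, hwa]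
    rw [ha0, Finset.mem_singleton] at this
    exact this
  have hf : (fxs α u).filter (fun a => w • a = a) = {a0} := by
    ext a
    rw [Finset.mem_filter, Finset.mem_singleton, mem_fxs]
    constructor
    · rintro ⟨-, h2⟩
      have : a ∈ fxs α w := mem_fxs.mpr h2
      rw [ha0, Finset.mem_singleton] at this; exact this
    · rintro rfl
      exact ⟨hu, hwa⟩
  rw [hf, Finset.card_singleton] at h
  unfold Nat.ModEq at h
  omega

/-- An element commuting with an element of order 11 has `≡ 0 mod 11` fixed points. -/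
theorem c11 (D : D11 G α) {x u : G} (hx : orderOf x = 11) (hc : Commute x u) :
    fx α u % 11 = 0 := by
  haveI : Fact (Nat.Prime 11) := ⟨by norm_num⟩
  have h := fx_modEq_of_commute (α := α) (p := 11) (n := 1) (g := x) (u := u)
    (by rw [pow_one, ← hx, pow_orderOf_eq_one]) hc
  have hx0 : fx α x = 0 := D.o11 x hx
  have hf : (fxs α u).filter (fun a => x • a = a) = ∅ := by
    rw [Finset.filter_eq_empty_iff]
    intro a _ ha
    have : a ∈ fxs α x := mem_fxs.mpr ha
    rw [Finset.card_eq_zero.mp hx0] at this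
    exact absurd this (Finset.notMem_empty a)
  rw [hf, Finset.card_empty] at h
  unfold Nat.ModEq at h
  omega

/-- A conjugation-invariant set of elements with a constant number `f` of fixed points,
`f ≢ 1 mod 5` and `f ≢ 0 mod 11`, has size divisible by `55`. -/
theorem div55 (D : D11 G α) (Y : Finset G) (hconj : ∀ g y, g * y * g⁻¹ ∈ Y ↔ y ∈ Y) (f : ℕ)
    (hf : ∀ y ∈ Y, fx α y = f) (hf5 : f % 5 ≠ 1) (hf11 : f % 11 ≠ 0) : 55 ∣ Y.card := by
  obtain ⟨w, hw⟩ := D.exists_orderOf_eq_five
  obtain ⟨x, hx⟩ := D.exists_orderOf_eq_eleven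
  haveI : Fact (Nat.Prime 5) := ⟨by norm_num⟩
  haveI : Fact (Nat.Prime 11) := ⟨by norm_num⟩
  have h5 : Y.card ≡ (∅ : Finset G).card [MOD 5] := by
    apply card_modEq_conj_fixed (Subgroup.zpowers w)
      (IsPGroup.of_card (n := 1) (by rw [Nat.card_zpowers, hw, pow_one])) Y ∅
    · intro q _ s hs; exact (hconj q s).mpr hs
    · intro s
      simp only [Finset.notMem_empty, false_iff, not_and]
      intro hs hcomm
      exact hf5 (hf s hs ▸ D.c5 hw (hcomm w (Subgroup.mem_zpowers w)))
  have h11 : Y.card ≡ (∅ : Finset G).card [MOD 11] := by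
    apply card_modEq_conj_fixed (Subgroup.zpowers x)
      (IsPGroup.of_card (n := 1) (by rw [Nat.card_zpowers, hx, pow_one])) Y ∅
    · intro q _ s hs; exact (hconj q s).mpr hs
    · intro s
      simp only [Finset.notMem_empty, false_iff, not_and]
      intro hs hcomm
      exact hf11 (hf s hs ▸ D.c11 hx (hcomm x (Subgroup.mem_zpowers x)))
  rw [Finset.card_empty] at h5 h11
  have h5' : 5 ∣ Y.card := (Nat.modEq_zero_iff_dvd).mp h5
  have h11' : 11 ∣ Y.card := (Nat.modEq_zero_iff_dvd).mp h11
  omega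

theorem count1 (D : D11 G α) [DecidableEq G] (Y : Finset G)
    (hconj : ∀ g y, g * y * g⁻¹ ∈ Y ↔ y ∈ Y) (f : ℕ) (hf : ∀ y ∈ Y, fx α y = f) (a : α) :
    Y.card * f = 11 * (Y.filter (fun y => y • a = a)).card := by
  have h := count_fix Y (Finset.univ : Finset α) f a (fun y hy => hf y hy) (fun s _ => by
    obtain ⟨g, hg⟩ := D.one a s
    exact ⟨g, hg, hconj g⟩)
  rw [Finset.card_univ, D.card] at h
  exact h

theorem count2 (D : D11 G α) [DecidableEq G] (Y : Finset G)
    (hconj : ∀ g y, g * y * g⁻¹ ∈ Y ↔ y ∈ Y) (f : ℕ) (hf : ∀ y ∈ Y, fx α y = f) {a b : α}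
    (hab : a ≠ b) :
    Y.card * (f * (f - 1)) = 110 * (Y.filter (fun y => y • a = a ∧ y • b = b)).card := by
  have h1 := D.count1 Y hconj f hf a
  have h2 := count_fix (Y.filter (fun y => y • a = a)) (Finset.univ.erase a) (f - 1) b
    (fun y hy => by
      rw [Finset.mem_filter] at hy
      have : (Finset.univ.erase a).filter (fun s => y • s = s) = (fxs α y).erase a := by
        ext s
        rw [Finset.mem_filter, Finset.mem_erase, Finset.mem_erase, mem_fxs]
        simp only [Finset.mem_univ, and_true]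
      rw [this, Finset.card_erase_of_mem (mem_fxs.mpr hy.2)]
      have := hf y hy.1
      unfold fx at this
      rw [this])
    (fun s hs => by
      rw [Finset.mem_erase] at hs
      obtain ⟨g, hg1, hg2⟩ := D.two a b a s hab (Ne.symm hs.1)
      refine ⟨g, hg2, fun y => ?_⟩
      rw [Finset.mem_filter, Finset.mem_filter, hconj g y, conj_smul_eq_iff y hg1])
  rw [Finset.card_erase_of_mem (Finset.mem_univ a), Finset.card_univ, D.card,
    Finset.filter_filter] at h2
  calc Y.card * (f * (f - 1)) = (Y.card * f) * (f - 1) := by ring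
    _ = 11 * ((Y.filter (fun y => y • a = a)).card * (f - 1)) := by rw [h1]; ring
    _ = 110 * (Y.filter (fun y => y • a = a ∧ y • b = b)).card := by rw [h2]; ring

theorem count3 (D : D11 G α) (h3 : Tr3 G α) [DecidableEq G] (Y : Finset G)
    (hconj : ∀ g y, g * y * g⁻¹ ∈ Y ↔ y ∈ Y) (f : ℕ) (hf : ∀ y ∈ Y, fx α y = f) {a b c : α}
    (hab : a ≠ b) (hac : a ≠ c) (hbc : b ≠ c) :
    Y.card * (f * (f - 1) * (f - 2)) =
      990 * (Y.filter (fun y => y • a = a ∧ y • b = b ∧ y • c = c)).card := by
  have h1 := D.count2 Y hconj f hf hab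
  have h2 := count_fix (Y.filter (fun y => y • a = a ∧ y • b = b))
    ((Finset.univ.erase a).erase b) (f - 2) c
    (fun y hy => by
      rw [Finset.mem_filter] at hy
      have : ((Finset.univ.erase a).erase b).filter (fun s => y • s = s) =
          ((fxs α y).erase a).erase b := by
        ext s
        rw [Finset.mem_filter, Finset.mem_erase, Finset.mem_erase, Finset.mem_erase,
          Finset.mem_erase, mem_fxs]
        simp only [Finset.mem_univ, and_true, and_assoc]
      rw [this, Finset.card_erase_of_mem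
        (Finset.mem_erase.mpr ⟨hab.symm, mem_fxs.mpr hy.2.2⟩),
        Finset.card_erase_of_mem (mem_fxs.mpr hy.2.1)]
      have := hf y hy.1
      unfold fx at this
      rw [this]; rfl)
    (fun s hs => by
      rw [Finset.mem_erase, Finset.mem_erase] at hs
      obtain ⟨g, hg1, hg2, hg3⟩ := h3 a b c a b s hab hac hbc hab (Ne.symm hs.2.1) (Ne.symm hs.1)
      refine ⟨g, hg3, fun y => ?_⟩
      rw [Finset.mem_filter, Finset.mem_filter, hconj g y, conj_smul_eq_iff y hg1,
        conj_smul_eq_iff y hg2])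
  rw [Finset.card_erase_of_mem (by simp [hab.symm]),
    Finset.card_erase_of_mem (Finset.mem_univ a), Finset.card_univ, D.card,
    Finset.filter_filter] at h2
  have h2' : (Y.filter (fun y => y • a = a ∧ y • b = b)).card * (f - 2) =
      9 * (Y.filter (fun y => y • a = a ∧ y • b = b ∧ y • c = c)).card := by
    rw [h2]
    congr 2
    ext y
    simp only [Finset.mem_filter, and_assoc]
  calc Y.card * (f * (f - 1) * (f - 2)) = (Y.card * (f * (f - 1))) * (f - 2) := by ring
    _ = 110 * ((Y.filter (fun y => y • a = a ∧ y • b = b)).card * (f - 2)) := by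
        rw [h1]; ring
    _ = 990 * (Y.filter (fun y => y • a = a ∧ y • b = b ∧ y • c = c)).card := by
        rw [h2']; ring

/-- 2-transitivity plus transitivity of a two-point stabilizer on the rest gives
3-transitivity. -/
theorem tr3_of_stab (D : D11 G α) {a b : α} (hab : a ≠ b)
    (h : ∀ c c' : α, c ≠ a → c ≠ b → c' ≠ a → c' ≠ b →
      ∃ g : G, g • a = a ∧ g • b = b ∧ g • c = c') : Tr3 G α := by
  intro x y z x' y' z' hxy hxz hyz hxy' hxz' hyz'
  obtain ⟨g1, h1x, h1y⟩ := D.two x y a b hxy hab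
  obtain ⟨g2, h2x, h2y⟩ := D.two x' y' a b hxy' hab
  obtain ⟨k, hka, hkb, hkc⟩ := h (g1 • z) (g2 • z')
    (by rw [← h1x]; exact fun e => hxz (MulAction.injective g1 e).symm)
    (by rw [← h1y]; exact fun e => hyz (MulAction.injective g1 e).symm)
    (by rw [← h2x]; exact fun e => hxz' (MulAction.injective g2 e).symm)
    (by rw [← h2y]; exact fun e => hyz' (MulAction.injective g2 e).symm)
  refine ⟨g2⁻¹ * k * g1, ?_, ?_, ?_⟩
  · rw [mul_smul, mul_smul, h1x, hka, ← h2x, inv_smul_smul]
  · rw [mul_smul, mul_smul, h1y, hkb, ← h2y, inv_smul_smul]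
  · rw [mul_smul, mul_smul, hkc, inv_smul_smul]

/-- A nontrivial 3-element fixing three points has exactly five fixed points. -/
theorem fx_three (D : D11 G α) {q : G} {k : ℕ} (hq : q ^ 3 ^ k = 1) (hq1 : q ≠ 1) {a b c : α}
    (hab : a ≠ b) (hac : a ≠ c) (hbc : b ≠ c) (ha : q • a = a) (hb : q • b = b)
    (hc : q • c = c) : fx α q = 5 := by
  haveI : Fact (Nat.Prime 3) := ⟨by norm_num⟩
  obtain ⟨n, hn⟩ := exists_pow_orderOf_eq_prime (by norm_num : Nat.Prime 3) hq hq1
  have hsub : fxs α q ⊆ fxs α (q ^ n) := fxs_subset_pow q n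
  have hge : 3 ≤ fx α q := three_le_fx hab hac hbc ha hb hc
  have hle : fx α q ≤ fx α (q ^ n) := Finset.card_le_card hsub
  have h5 : fx α (q ^ n) = 5 := by
    rcases D.o3 _ hn with h | h
    · omega
    · exact h
  have hmod := fx_modEq_of_commute (α := α) (p := 3) (n := k) (g := q) (u := q ^ n) hq
    (Commute.pow_right (Commute.refl q) n)
  have hfilt : (fxs α (q ^ n)).filter (fun a => q • a = a) = fxs α q := by
    ext x
    rw [Finset.mem_filter, mem_fxs, mem_fxs]
    exact ⟨fun h => h.2, fun h => ⟨mem_fxs.mp (hsub (mem_fxs.mpr h)), h⟩⟩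
  rw [hfilt, h5] at hmod
  have hdef : (fxs α q).card = fx α q := rfl
  rw [hdef] at hmod
  unfold Nat.ModEq at hmod
  omega

/-- A 3-subgroup fixing three points has order dividing 3. -/
theorem card_three_fix (D : D11 G α) (Q : Subgroup G) (hQ : IsPGroup 3 Q) {a b c : α}
    (hab : a ≠ b) (hac : a ≠ c) (hbc : b ≠ c)
    (hfix : ∀ q ∈ Q, q • a = a ∧ q • b = b ∧ q • c = c) : Nat.card Q ∣ 3 := by
  haveI : Fact (Nat.Prime 3) := ⟨by norm_num⟩
  have h1 : Nat.card Q ∣ Fintype.card α - 5 := by
    apply card_dvd_of_fx_const Q 5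
    · intro q hq hq1
      obtain ⟨k, hk⟩ := hQ ⟨q, hq⟩
      have hk' : q ^ 3 ^ k = 1 := by
        have := congrArg Subtype.val hk
        simpa using this
      obtain ⟨h1, h2, h3⟩ := hfix q hq
      exact D.fx_three hk' hq1 hab hac hbc h1 h2 h3
    · rw [D.card]; norm_num
  rw [D.card] at h1
  obtain ⟨n, hn⟩ := IsPGroup.iff_card.mp hQ
  rw [hn] at h1 ⊢
  have hn1 : n ≤ 1 := by
    by_contra hcon
    push Not at hcon
    have h9 : 3 ^ 2 ∣ 3 ^ n := pow_dvd_pow 3 hcon
    have := h9.trans h1
    norm_num at this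
  interval_cases n <;> norm_num

/-- Elements of 2-power order have an odd number of fixed points. -/
theorem fx_odd (D : D11 G α) {u : G} {k : ℕ} (hu : u ^ 2 ^ k = 1) : fx α u % 2 = 1 := by
  haveI : Fact (Nat.Prime 2) := ⟨by norm_num⟩
  have h := fx_modEq_card (α := α) (p := 2) (n := k) (g := u) hu
  rw [D.card] at h
  unfold Nat.ModEq at h
  omega

/-- The order of a subgroup fixing two points is divisible only by the primes 2 and 3. -/
theorem prime_dvd_stab (D : D11 G α) {L : Subgroup G} {a b : α} (hab : a ≠ b)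
    (hL : ∀ g ∈ L, g • a = a ∧ g • b = b) {q : ℕ} (hq : q.Prime) (hdvd : q ∣ Nat.card L) :
    q = 2 ∨ q = 3 := by
  haveI : Fact q.Prime := ⟨hq⟩
  obtain ⟨g, hg⟩ := exists_prime_orderOf_dvd_card' q hdvd
  have hg' : orderOf (g : G) = q := by rw [Subgroup.orderOf_coe]; exact hg
  have hle := D.prime (g : G) (hg' ▸ hq)
  rw [hg'] at hle
  have h2 : 2 ≤ fx α (g : G) := two_le_fx hab (hL g g.2).1 (hL g g.2).2
  interval_cases q
  all_goals first
    | exact Or.inl rfl
    | exact Or.inr rfl
    | (have := D.o5 _ hg'; omega)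
    | exact absurd hg' (D.o7 _)
    | (have := D.o11 _ hg'; omega)
    | exact absurd hq (by norm_num)

end D11

theorem orderOf_conj_eq {G : Type*} [Group G] (g y : G) : orderOf (g * y * g⁻¹) = orderOf y :=
  orderOf_injective (MulAut.conj g).toMonoidHom (MulAut.conj g).injective y

/-- Involutions with 5 (resp. 7) fixed points in a three-point stabilizer of a 3-transitive
group: their number is divisible by 10 (resp. 35). -/
theorem D11.inv_count3 [Fintype G] [DecidableEq G] (D : D11 G α) (h3 : Tr3 G α) {a b c : α}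
    (hab : a ≠ b) (hac : a ≠ c) (hbc : b ≠ c) :
    10 ∣ (Finset.univ.filter (fun y : G => orderOf y = 2 ∧ fx α y = 5 ∧
        y • a = a ∧ y • b = b ∧ y • c = c)).card ∧
    35 ∣ (Finset.univ.filter (fun y : G => orderOf y = 2 ∧ fx α y = 7 ∧
        y • a = a ∧ y • b = b ∧ y • c = c)).card := by
  have key : ∀ f : ℕ, f % 5 ≠ 1 → f % 11 ≠ 0 →
      ∃ j : ℕ, 55 * j * (f * (f - 1) * (f - 2)) =
        990 * (Finset.univ.filter (fun y : G => orderOf y = 2 ∧ fx α y = f ∧
          y • a = a ∧ y • b = b ∧ y • c = c)).card := by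
    intro f hf5 hf11
    set Y : Finset G := Finset.univ.filter (fun y : G => orderOf y = 2 ∧ fx α y = f) with hY
    have hconj : ∀ g y, g * y * g⁻¹ ∈ Y ↔ y ∈ Y := by
      intro g y
      rw [hY, Finset.mem_filter, Finset.mem_filter, orderOf_conj_eq, fx_conj]
      simp only [Finset.mem_univ, true_and]
    have hfY : ∀ y ∈ Y, fx α y = f := fun y hy => (Finset.mem_filter.mp hy).2.2
    obtain ⟨j, hj⟩ := D.div55 Y hconj f hfY hf5 hf11
    have hc := D.count3 h3 Y hconj f hfY hab hac hbc
    refine ⟨j, ?_⟩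
    rw [← hj, hc, hY, Finset.filter_filter]
    congr 2
    ext y
    simp only [Finset.mem_filter, and_assoc]
  obtain ⟨j5, h5⟩ := key 5 (by norm_num) (by norm_num)
  obtain ⟨j7, h7⟩ := key 7 (by norm_num) (by norm_num)
  constructor <;> omega

/-- 3-elements with 5 fixed points in a two-point stabilizer: their number is divisible
by 10. -/
theorem D11.three_count2 [Fintype G] [DecidableEq G] (D : D11 G α) {a b : α} (hab : a ≠ b) :
    10 ∣ (Finset.univ.filter (fun y : G => y ^ 9 = 1 ∧ fx α y = 5 ∧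
        y • a = a ∧ y • b = b)).card := by
  set Y : Finset G := Finset.univ.filter (fun y : G => y ^ 9 = 1 ∧ fx α y = 5) with hY
  have hconj : ∀ g y, g * y * g⁻¹ ∈ Y ↔ y ∈ Y := by
    intro g y
    rw [hY, Finset.mem_filter, Finset.mem_filter, conj_pow, fx_conj]
    simp only [Finset.mem_univ, true_and]
    refine and_congr_left (fun _ => ?_)
    constructor
    · intro h
      have := congrArg (fun x => g⁻¹ * x * g) h
      simpa [mul_assoc] using this
    · intro h
      rw [h]; group
  have hfY : ∀ y ∈ Y, fx α y = 5 := fun y hy => (Finset.mem_filter.mp hy).2.2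
  obtain ⟨j, hj⟩ := D.div55 Y hconj 5 hfY (by norm_num) (by norm_num)
  have hc := D.count2 Y hconj 5 hfY hab
  have hfilt : Y.filter (fun y => y • a = a ∧ y • b = b) =
      Finset.univ.filter (fun y : G => y ^ 9 = 1 ∧ fx α y = 5 ∧ y • a = a ∧ y • b = b) := by
    rw [hY, Finset.filter_filter]
    congr 1
    ext y
    simp only [and_assoc]
  rw [hfilt, hj] at hc
  omega

end d11

end Cfsg.Agent.Helper59
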