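import Mathlib
import Cfsg.Prelude.Def_Sporadic_a
import Cfsg.Agent.Helper48.M11UDefs

/-!
# Helper59: PIECE P2 of CALL S0420 (helper48): a sharply 4-transitive group of degree 11 preserves
a Steiner system `S(4,5,11)`.

The blocks are the 5-sets `b` on which every transposition is induced by an element of `H`
("full" 5-sets).  For distinct `p q u v` the involution `τ ∈ H` fixing `p, q` and swapping `u, v`
has exactly three fixed points `p, q, f`, and `{p, q, u, v, f}` is full.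
-/

set_option autoImplicit false
open scoped Pointwise
open Cfsg Cfsg.Agent.Helper48.M11U

namespace Cfsg.Agent.Helper59

section

variable {α : Type*} [Fintype α] [DecidableEq α]

/-- the embedding of four distinct points -/
def m11p2_emb (a b c d : α) (hab : a ≠ b) (hac : a ≠ c) (had : a ≠ d) (hbc : b ≠ c)
    (hbd : b ≠ d) (hcd : c ≠ d) : Fin 4 ↪ α :=
  ⟨![a, b, c, d], by
    intro i j h
    fin_cases i <;> fin_cases j <;> simp_all⟩

omit [Fintype α] [DecidableEq α] in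
theorem m11p2_inv_apply (f : Equiv.Perm α) (x : α) : f⁻¹ (f x) = x := by simp

omit [Fintype α] [DecidableEq α] in
theorem m11p2_fix4 {H : Subgroup (Equiv.Perm α)} (hH : Sharp4 H) {h : Equiv.Perm α}
    (hh : h ∈ H) {a b c d : α} (hab : a ≠ b) (hac : a ≠ c) (had : a ≠ d) (hbc : b ≠ c)
    (hbd : b ≠ d) (hcd : c ≠ d) (ha : h a = a) (hb : h b = b) (hc : h c = c) (hd : h d = d) :
    h = 1 := by
  apply hH.2 h hh (m11p2_emb a b c d hab hac had hbc hbd hcd)
  intro i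
  fin_cases i
  · exact ha
  · exact hb
  · exact hc
  · exact hd

omit [Fintype α] [DecidableEq α] in
theorem m11p2_ex {H : Subgroup (Equiv.Perm α)} (hH : Sharp4 H) {a b c d a' b' c' d' : α}
    (hab : a ≠ b) (hac : a ≠ c) (had : a ≠ d) (hbc : b ≠ c) (hbd : b ≠ d) (hcd : c ≠ d)
    (hab' : a' ≠ b') (hac' : a' ≠ c') (had' : a' ≠ d') (hbc' : b' ≠ c') (hbd' : b' ≠ d')
    (hcd' : c' ≠ d') : ∃ h ∈ H, h a = a' ∧ h b = b' ∧ h c = c' ∧ h d = d' := by
  obtain ⟨h, hh, hx⟩ := hH.1 (m11p2_emb a b c d hab hac had hbc hbd hcd)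
    (m11p2_emb a' b' c' d' hab' hac' had' hbc' hbd' hcd')
  exact ⟨h, hh, hx 0, hx 1, hx 2, hx 3⟩

omit [Fintype α] [DecidableEq α] in
theorem m11p2_uniq {H : Subgroup (Equiv.Perm α)} (hH : Sharp4 H) {h h' : Equiv.Perm α}
    (hh : h ∈ H) (hh' : h' ∈ H) {a b c d : α} (hab : a ≠ b) (hac : a ≠ c) (had : a ≠ d)
    (hbc : b ≠ c) (hbd : b ≠ d) (hcd : c ≠ d) (ha : h a = h' a) (hb : h b = h' b)
    (hc : h c = h' c) (hd : h d = h' d) : h = h' := by
  have key : h⁻¹ * h' = 1 := by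
    apply m11p2_fix4 hH (H.mul_mem (H.inv_mem hh) hh') hab hac had hbc hbd hcd
    · rw [Equiv.Perm.mul_apply, ← ha, m11p2_inv_apply]
    · rw [Equiv.Perm.mul_apply, ← hb, m11p2_inv_apply]
    · rw [Equiv.Perm.mul_apply, ← hc, m11p2_inv_apply]
    · rw [Equiv.Perm.mul_apply, ← hd, m11p2_inv_apply]
  exact inv_mul_eq_one.mp key

/-- an involution of degree 11 fixing two points fixes a third one -/
theorem m11p2_inv_fix (hα : Fintype.card α = 11) (τ : Equiv.Perm α) (hτ : τ * τ = 1) (p q : α)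
    (hpq : p ≠ q) (hp : τ p = p) (hq : τ q = q) : ∃ w, τ w = w ∧ w ≠ p ∧ w ≠ q := by
  by_contra hcon
  push Not at hcon
  have : Fact (Nat.Prime 2) := ⟨Nat.prime_two⟩
  have h := Equiv.Perm.card_compl_support_modEq (p := 2) (n := 1) (σ := τ)
    (by rw [pow_one, pow_two, hτ])
  have hs : τ.supportᶜ = {p, q} := by
    ext w
    simp only [Finset.mem_compl, Equiv.Perm.mem_support, not_not, Finset.mem_insert,
      Finset.mem_singleton]
    constructor
    · intro hw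
      by_cases hwp : w = p
      · exact Or.inl hwp
      · exact Or.inr (hcon w hw hwp)
    · rintro (rfl | rfl) <;> assumption
  rw [hs, Finset.card_pair hpq, hα] at h
  exact absurd h (by decide)

/-- a non-trivial element of order 3 of `H` fixing a point has exactly two fixed points -/
theorem m11p2_three_fix (hα : Fintype.card α = 11) {H : Subgroup (Equiv.Perm α)}
    (hH : Sharp4 H) (x : Equiv.Perm α) (hxH : x ∈ H) (hx3 : x ^ 3 = 1) (hx1 : x ≠ 1) (p : α)
    (hp : x p = p) : ∃ e, x e = e ∧ e ≠ p ∧ ∀ z, x z = z → z = p ∨ z = e := by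
  have : Fact (Nat.Prime 3) := ⟨Nat.prime_three⟩
  have h := Equiv.Perm.card_compl_support_modEq (p := 3) (n := 1) (σ := x)
    (by rw [pow_one]; exact hx3)
  rw [hα] at h
  have hex : ∃ e, x e = e ∧ e ≠ p := by
    by_contra hcon
    push Not at hcon
    have hs : x.supportᶜ = {p} := by
      ext w
      simp only [Finset.mem_compl, Equiv.Perm.mem_support, not_not, Finset.mem_singleton]
      constructor
      · intro hw
        exact hcon w hw
      · rintro rfl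
        exact hp
    rw [hs, Finset.card_singleton] at h
    exact absurd h (by decide)
  obtain ⟨e, he, hep⟩ := hex
  refine ⟨e, he, hep, ?_⟩
  intro z hz
  by_contra hcon
  push Not at hcon
  have hex4 : ∃ z', x z' = z' ∧ z' ≠ p ∧ z' ≠ e ∧ z' ≠ z := by
    by_contra hc4
    push Not at hc4
    have hs : x.supportᶜ = {p, e, z} := by
      ext w
      simp only [Finset.mem_compl, Equiv.Perm.mem_support, not_not, Finset.mem_insert,
        Finset.mem_singleton]
      constructor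
      · intro hw
        by_cases h1 : w = p
        · exact Or.inl h1
        by_cases h2 : w = e
        · exact Or.inr (Or.inl h2)
        exact Or.inr (Or.inr (hc4 w hw h1 h2))
      · rintro (rfl | rfl | rfl) <;> assumption
    rw [hs, Finset.card_eq_three.mpr ⟨p, e, z, hep.symm, hcon.1.symm, hcon.2.symm, rfl⟩] at h
    exact absurd h (by decide)
  obtain ⟨z', hz', h1, h2, h3⟩ := hex4
  exact hx1 (m11p2_fix4 hH hxH hep.symm hcon.1.symm h1.symm hcon.2.symm h2.symm h3.symm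
    hp he hz hz')

/-- `k ∈ H` induces the transposition `(u v)` on `b` -/
def m11p2_Sw (H : Subgroup (Equiv.Perm α)) (b : Finset α) (u v : α) : Prop :=
  ∃ k ∈ H, k u = v ∧ k v = u ∧ ∀ z ∈ b, z ≠ u → z ≠ v → k z = z

/-- every transposition of `b` is induced by an element of `H` -/
def m11p2_Full (H : Subgroup (Equiv.Perm α)) (b : Finset α) : Prop :=
  ∀ u ∈ b, ∀ v ∈ b, u ≠ v → m11p2_Sw H b u v

/-- the two involutions `(u v)` and `(q v)` fixing `p` have the same third fixed point -/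
theorem m11p2_L1 (hα : Fintype.card α = 11) {H : Subgroup (Equiv.Perm α)} (hH : Sharp4 H)
    {p q u v w : α} (hpq : p ≠ q) (hpu : p ≠ u) (hpv : p ≠ v) (hqu : q ≠ u) (hqv : q ≠ v)
    (huv : u ≠ v) {τ₁ τ₂ : Equiv.Perm α} (h1 : τ₁ ∈ H) (h2 : τ₂ ∈ H)
    (h1p : τ₁ p = p) (h1q : τ₁ q = q) (h1u : τ₁ u = v) (h1v : τ₁ v = u)
    (h2p : τ₂ p = p) (h2u : τ₂ u = u) (h2q : τ₂ q = v) (h2v : τ₂ v = q)
    (hw : τ₁ w = w) (hwp : w ≠ p) (hwq : w ≠ q) : τ₂ w = w := by
  have hτ1 : τ₁ * τ₁ = 1 := by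
    apply m11p2_fix4 hH (H.mul_mem h1 h1) hpq hpu hpv hqu hqv huv
    · rw [Equiv.Perm.mul_apply, h1p, h1p]
    · rw [Equiv.Perm.mul_apply, h1q, h1q]
    · rw [Equiv.Perm.mul_apply, h1u, h1v]
    · rw [Equiv.Perm.mul_apply, h1v, h1u]
  have hτ2 : τ₂ * τ₂ = 1 := by
    apply m11p2_fix4 hH (H.mul_mem h2 h2) hpq hpu hpv hqu hqv huv
    · rw [Equiv.Perm.mul_apply, h2p, h2p]
    · rw [Equiv.Perm.mul_apply, h2q, h2v]
    · rw [Equiv.Perm.mul_apply, h2u, h2u]
    · rw [Equiv.Perm.mul_apply, h2v, h2q]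
  have hxH : τ₁ * τ₂ ∈ H := H.mul_mem h1 h2
  have hxp : (τ₁ * τ₂) p = p := by rw [Equiv.Perm.mul_apply, h2p, h1p]
  have hxq : (τ₁ * τ₂) q = u := by rw [Equiv.Perm.mul_apply, h2q, h1v]
  have hxu : (τ₁ * τ₂) u = v := by rw [Equiv.Perm.mul_apply, h2u, h1u]
  have hxv : (τ₁ * τ₂) v = q := by rw [Equiv.Perm.mul_apply, h2v, h1q]
  have hx3 : (τ₁ * τ₂) ^ 3 = 1 := by
    apply m11p2_fix4 hH (H.pow_mem hxH 3) hpq hpu hpv hqu hqv huv
    · rw [pow_succ, pow_succ, pow_one, Equiv.Perm.mul_apply, Equiv.Perm.mul_apply, hxp, hxp, hxp]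
    · rw [pow_succ, pow_succ, pow_one, Equiv.Perm.mul_apply, Equiv.Perm.mul_apply, hxq, hxu, hxv]
    · rw [pow_succ, pow_succ, pow_one, Equiv.Perm.mul_apply, Equiv.Perm.mul_apply, hxu, hxv, hxq]
    · rw [pow_succ, pow_succ, pow_one, Equiv.Perm.mul_apply, Equiv.Perm.mul_apply, hxv, hxq, hxu]
  have hx1 : τ₁ * τ₂ ≠ 1 := by
    intro h
    rw [h] at hxq
    exact hqu hxq
  obtain ⟨e, he, hep, huniq⟩ := m11p2_three_fix hα hH (τ₁ * τ₂) hxH hx3 hx1 p hxp
  have i1 : τ₁⁻¹ = τ₁ := inv_eq_of_mul_eq_one_right hτ1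
  have i2 : τ₂⁻¹ = τ₂ := inv_eq_of_mul_eq_one_right hτ2
  have hxinv : (τ₁ * τ₂)⁻¹ = τ₂ * τ₁ := by rw [mul_inv_rev, i1, i2]
  have hxe' : (τ₂ * τ₁) e = e := by
    rw [← hxinv, Equiv.Perm.inv_eq_iff_eq]
    exact he.symm
  -- `τ₁ e` and `τ₂ e` are fixed points of `x`
  have ht1 : (τ₁ * τ₂) (τ₁ e) = τ₁ e := by
    have : (τ₁ * τ₂) (τ₁ e) = τ₁ ((τ₂ * τ₁) e) := by
      simp only [Equiv.Perm.mul_apply]
    rw [this, hxe']
  have ht2 : (τ₁ * τ₂) (τ₂ e) = τ₂ e := by
    have h3 : τ₁ * τ₂ * τ₂ = τ₂ * (τ₂ * τ₁) := by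
      rw [mul_assoc, hτ2, mul_one, ← mul_assoc, hτ2, one_mul]
    have : (τ₁ * τ₂) (τ₂ e) = τ₂ ((τ₂ * τ₁) e) := by
      have := congrArg (fun σ : Equiv.Perm α => σ e) h3
      simpa only [Equiv.Perm.mul_apply] using this
    rw [this, hxe']
  have h1e : τ₁ e = e := by
    rcases huniq _ ht1 with h | h
    · exact absurd (τ₁.injective (h.trans h1p.symm)) hep
    · exact h
  have h2e : τ₂ e = e := by
    rcases huniq _ ht2 with h | h
    · exact absurd (τ₂.injective (h.trans h2p.symm)) hep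
    · exact h
  have heq : e ≠ q := by
    rintro rfl
    rw [he] at hxq
    exact hqu hxq
  have hwe : w = e := by
    by_contra hne
    have := m11p2_fix4 hH h1 hpq hwp.symm hep.symm hwq.symm heq.symm hne h1p h1q hw h1e
    rw [this] at h1u
    exact huv h1u
  rw [hwe]
  exact h2e

/-- the star of transpositions at `v` on the 5-set `{p, q, u, v, f}` -/
theorem m11p2_star (hα : Fintype.card α = 11) {H : Subgroup (Equiv.Perm α)} (hH : Sharp4 H)
    {p q u v : α} (hpq : p ≠ q) (hpu : p ≠ u) (hpv : p ≠ v) (hqu : q ≠ u) (hqv : q ≠ v)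
    (huv : u ≠ v) :
    ∃ f, f ≠ p ∧ f ≠ q ∧ f ≠ u ∧ f ≠ v ∧
      m11p2_Sw H {p, q, u, v, f} u v ∧ m11p2_Sw H {p, q, u, v, f} q v ∧
      m11p2_Sw H {p, q, u, v, f} p v ∧ m11p2_Sw H {p, q, u, v, f} f v := by
  obtain ⟨τ, hτH, hτp, hτq, hτu, hτv⟩ :=
    m11p2_ex hH hpq hpu hpv hqu hqv huv hpq hpv hpu hqv hqu huv.symm
  have hττ : τ * τ = 1 := by
    apply m11p2_fix4 hH (H.mul_mem hτH hτH) hpq hpu hpv hqu hqv huv
    · rw [Equiv.Perm.mul_apply, hτp, hτp]
    · rw [Equiv.Perm.mul_apply, hτq, hτq]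
    · rw [Equiv.Perm.mul_apply, hτu, hτv]
    · rw [Equiv.Perm.mul_apply, hτv, hτu]
  obtain ⟨f, hf, hfp, hfq⟩ := m11p2_inv_fix hα τ hττ p q hpq hτp hτq
  have hfu : f ≠ u := by
    rintro rfl
    rw [hf] at hτu
    exact huv hτu
  have hfv : f ≠ v := by
    rintro rfl
    rw [hf] at hτv
    exact huv hτv.symm
  refine ⟨f, hfp, hfq, hfu, hfv, ?_, ?_, ?_, ?_⟩
  · refine ⟨τ, hτH, hτu, hτv, ?_⟩
    intro z hz hzu hzv
    simp only [Finset.mem_insert, Finset.mem_singleton] at hz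
    rcases hz with rfl | rfl | rfl | rfl | rfl
    · exact hτp
    · exact hτq
    · exact absurd rfl hzu
    · exact absurd rfl hzv
    · exact hf
  · obtain ⟨τ₂, h2H, h2p, h2u, h2q, h2v⟩ :=
      m11p2_ex hH hpu hpq hpv hqu.symm huv hqv hpu hpv hpq huv hqu.symm hqv.symm
    have h2f : τ₂ f = f := m11p2_L1 hα hH hpq hpu hpv hqu hqv huv hτH h2H hτp hτq hτu hτv
      h2p h2u h2q h2v hf hfp hfq
    refine ⟨τ₂, h2H, h2q, h2v, ?_⟩
    intro z hz hzq hzv
    simp only [Finset.mem_insert, Finset.mem_singleton] at hz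
    rcases hz with rfl | rfl | rfl | rfl | rfl
    · exact h2p
    · exact absurd rfl hzq
    · exact h2u
    · exact absurd rfl hzv
    · exact h2f
  · obtain ⟨τ₂, h2H, h2q, h2u, h2p, h2v⟩ :=
      m11p2_ex hH hqu hpq.symm hqv hpu.symm huv hpv hqu hqv hpq.symm huv hpu.symm hpv.symm
    have h2f : τ₂ f = f := m11p2_L1 hα hH hpq.symm hqu hqv hpu hpv huv hτH h2H hτq hτp hτu hτv
      h2q h2u h2p h2v hf hfq hfp
    refine ⟨τ₂, h2H, h2p, h2v, ?_⟩
    intro z hz hzp hzv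
    simp only [Finset.mem_insert, Finset.mem_singleton] at hz
    rcases hz with rfl | rfl | rfl | rfl | rfl
    · exact absurd rfl hzp
    · exact h2q
    · exact h2u
    · exact absurd rfl hzv
    · exact h2f
  · obtain ⟨τ₂, h2H, h2p, h2u, h2f, h2v⟩ :=
      m11p2_ex hH hpu hfp.symm hpv hfu.symm huv hfv hpu hpv hfp.symm huv hfu.symm hfv.symm
    have h2q : τ₂ q = q := m11p2_L1 hα hH hfp.symm hpu hpv hfu hfv huv hτH h2H hτp hf hτu hτv
      h2p h2u h2f h2v hτq hpq.symm hfq.symm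
    refine ⟨τ₂, h2H, h2f, h2v, ?_⟩
    intro z hz hzf hzv
    simp only [Finset.mem_insert, Finset.mem_singleton] at hz
    rcases hz with rfl | rfl | rfl | rfl | rfl
    · exact h2p
    · exact h2q
    · exact h2u
    · exact absurd rfl hzv
    · exact absurd rfl hzf

omit [Fintype α] in
/-- conjugating transpositions -/
theorem m11p2_conj {H : Subgroup (Equiv.Perm α)} {b : Finset α} {y z v : α} (hy : y ∈ b)
    (hz : z ∈ b) (hyz : y ≠ z) (hyv : y ≠ v) (hzv : z ≠ v)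
    (h1 : m11p2_Sw H b y v) (h2 : m11p2_Sw H b z v) : m11p2_Sw H b y z := by
  obtain ⟨k1, hk1, k1y, k1v, k1f⟩ := h1
  obtain ⟨k2, hk2, k2z, k2v, k2f⟩ := h2
  have i1y : k1⁻¹ y = v := by rw [Equiv.Perm.inv_eq_iff_eq]; exact k1v.symm
  have i1v : k1⁻¹ v = y := by rw [Equiv.Perm.inv_eq_iff_eq]; exact k1y.symm
  have k1z : k1 z = z := k1f z hz hyz.symm hzv
  have i1z : k1⁻¹ z = z := by rw [Equiv.Perm.inv_eq_iff_eq]; exact k1z.symm
  have k2y : k2 y = y := k2f y hy hyz hyv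
  refine ⟨k1 * k2 * k1⁻¹, H.mul_mem (H.mul_mem hk1 hk2) (H.inv_mem hk1), ?_, ?_, ?_⟩
  · rw [Equiv.Perm.mul_apply, Equiv.Perm.mul_apply, i1y, k2v, k1z]
  · rw [Equiv.Perm.mul_apply, Equiv.Perm.mul_apply, i1z, k2z, k1v]
  · intro t ht hty htz
    by_cases htv : t = v
    · rw [htv, Equiv.Perm.mul_apply, Equiv.Perm.mul_apply, i1v, k2y, k1y]
    · have k1t : k1 t = t := k1f t ht hty htv
      have i1t : k1⁻¹ t = t := by rw [Equiv.Perm.inv_eq_iff_eq]; exact k1t.symm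
      rw [Equiv.Perm.mul_apply, Equiv.Perm.mul_apply, i1t, k2f t ht htz htv, k1t]

/-- every 4-set lies in a full 5-set -/
theorem m11p2_full (hα : Fintype.card α = 11) {H : Subgroup (Equiv.Perm α)} (hH : Sharp4 H)
    {p q u v : α} (hpq : p ≠ q) (hpu : p ≠ u) (hpv : p ≠ v) (hqu : q ≠ u) (hqv : q ≠ v)
    (huv : u ≠ v) :
    ∃ f, f ≠ p ∧ f ≠ q ∧ f ≠ u ∧ f ≠ v ∧ m11p2_Full H {p, q, u, v, f} := by
  obtain ⟨f, hfp, hfq, hfu, hfv, s1, s2, s3, s4⟩ := m11p2_star hα hH hpq hpu hpv hqu hqv huv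
  refine ⟨f, hfp, hfq, hfu, hfv, ?_⟩
  have hstar : ∀ y ∈ ({p, q, u, v, f} : Finset α), y ≠ v → m11p2_Sw H {p, q, u, v, f} y v := by
    intro y hy hyv
    simp only [Finset.mem_insert, Finset.mem_singleton] at hy
    rcases hy with rfl | rfl | rfl | rfl | rfl
    · exact s3
    · exact s2
    · exact s1
    · exact absurd rfl hyv
    · exact s4
  intro y hy z hz hyz
  by_cases hyv : y = v
  · obtain ⟨k, hk, kz, kv, kf⟩ := hstar z hz (fun h => hyz (hyv.trans h.symm))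
    rw [hyv]
    exact ⟨k, hk, kv, kz, fun t ht h1 h2 => kf t ht h2 h1⟩
  · by_cases hzv : z = v
    · rw [hzv]
      exact hstar y hy hyv
    · exact m11p2_conj hy hz hyz hyv hzv (hstar y hy hyv) (hstar z hz hzv)

/-- two full 5-sets sharing a 4-set are equal -/
theorem m11p2_unique {H : Subgroup (Equiv.Perm α)} (hH : Sharp4 H) {b b' s : Finset α}
    (hb : b.card = 5) (hb' : b'.card = 5) (hs : s.card = 4) (hsb : s ⊆ b) (hsb' : s ⊆ b')
    (hF : m11p2_Full H b) (hF' : m11p2_Full H b') : b = b' := by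
  have h1 : (b \ s).card = 1 := by rw [Finset.card_sdiff_of_subset hsb, hb, hs]
  have h1' : (b' \ s).card = 1 := by rw [Finset.card_sdiff_of_subset hsb', hb', hs]
  obtain ⟨e, he⟩ := Finset.card_eq_one.mp h1
  obtain ⟨e', he'⟩ := Finset.card_eq_one.mp h1'
  have heb : e ∈ b ∧ e ∉ s := by
    have : e ∈ b \ s := by rw [he]; exact Finset.mem_singleton_self e
    exact Finset.mem_sdiff.mp this
  have heb' : e' ∈ b' ∧ e' ∉ s := by
    have : e' ∈ b' \ s := by rw [he']; exact Finset.mem_singleton_self e'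
    exact Finset.mem_sdiff.mp this
  by_cases hee : e = e'
  · rw [← Finset.sdiff_union_of_subset hsb, ← Finset.sdiff_union_of_subset hsb', he, he', hee]
  · exfalso
    obtain ⟨u, t, hut, hst, ht⟩ := Finset.card_eq_succ.mp hs
    obtain ⟨v, p, q, hvp, hvq, hpq, rfl⟩ := Finset.card_eq_three.mp ht
    have hus : u ∈ s := by rw [← hst]; exact Finset.mem_insert_self _ _
    have hvs : v ∈ s := by rw [← hst]; simp
    have hps : p ∈ s := by rw [← hst]; simp
    have hqs : q ∈ s := by rw [← hst]; simp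
    simp only [Finset.mem_insert, Finset.mem_singleton, not_or] at hut
    obtain ⟨huv, hup, huq⟩ := hut
    obtain ⟨k, hk, ku, kv, kf⟩ := hF u (hsb hus) v (hsb hvs) huv
    obtain ⟨k', hk', ku', kv', kf'⟩ := hF' u (hsb' hus) v (hsb' hvs) huv
    have kp : k p = p := kf p (hsb hps) (Ne.symm hup) (Ne.symm hvp)
    have kq : k q = q := kf q (hsb hqs) (Ne.symm huq) (Ne.symm hvq)
    have kp' : k' p = p := kf' p (hsb' hps) (Ne.symm hup) (Ne.symm hvp)
    have kq' : k' q = q := kf' q (hsb' hqs) (Ne.symm huq) (Ne.symm hvq)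
    have hkk : k = k' := m11p2_uniq hH hk hk' huv hup huq hvp hvq hpq
      (by rw [ku, ku']) (by rw [kv, kv']) (by rw [kp, kp']) (by rw [kq, kq'])
    have hne : ∀ {x c : α}, x ∈ s → c ∉ s → c ≠ x := fun hx hc h => hc (h ▸ hx)
    have ke : k e = e := kf e heb.1 (hne hus heb.2) (hne hvs heb.2)
    have ke' : k e' = e' := by
      rw [hkk]
      exact kf' e' heb'.1 (hne hus heb'.2) (hne hvs heb'.2)
    have hk1 : k = 1 := m11p2_fix4 hH hk hpq (hne hps heb.2).symm (hne hps heb'.2).symm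
      (hne hqs heb.2).symm (hne hqs heb'.2).symm hee kp kq ke ke'
    rw [hk1] at ku
    exact huv ku

omit [Fintype α] in
/-- fullness is `H`-invariant -/
theorem m11p2_full_smul {H : Subgroup (Equiv.Perm α)} {b : Finset α} {h : Equiv.Perm α}
    (hh : h ∈ H) (hF : m11p2_Full H b) : m11p2_Full H (h • b) := by
  intro u' hu' v' hv' huv'
  obtain ⟨u, hu, rfl⟩ := Finset.mem_smul_finset.mp hu'
  obtain ⟨v, hv, rfl⟩ := Finset.mem_smul_finset.mp hv'
  have huv : u ≠ v := fun h' => huv' (by rw [h'])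
  obtain ⟨k, hk, ku, kv, kf⟩ := hF u hu v hv huv
  refine ⟨h * k * h⁻¹, H.mul_mem (H.mul_mem hh hk) (H.inv_mem hh), ?_, ?_, ?_⟩
  · rw [Equiv.Perm.smul_def, Equiv.Perm.smul_def, Equiv.Perm.mul_apply, Equiv.Perm.mul_apply,
      m11p2_inv_apply, ku]
  · rw [Equiv.Perm.smul_def, Equiv.Perm.smul_def, Equiv.Perm.mul_apply, Equiv.Perm.mul_apply,
      m11p2_inv_apply, kv]
  · intro z' hz' hzu hzv
    obtain ⟨z, hz, rfl⟩ := Finset.mem_smul_finset.mp hz'
    have hkz : k z = z := kf z hz (fun h' => hzu (by rw [h'])) (fun h' => hzv (by rw [h']))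
    rw [Equiv.Perm.smul_def, Equiv.Perm.mul_apply, Equiv.Perm.mul_apply,
      m11p2_inv_apply, hkz]

end

/-- PART II (pure permutation groups): a sharply 4-transitive group of degree 11 preserves a
Steiner system S(4,5,11). -/
theorem m11u_part2 {α : Type*} [Fintype α] [DecidableEq α] (hα : Fintype.card α = 11)
    (H : Subgroup (Equiv.Perm α)) (hH : Sharp4 H) :
    ∃ B : Set (Finset α), Cfsg.IsSteinerSystem 4 5 B ∧ H ≤ Cfsg.setSystemAut B := by
  refine ⟨{b | b.card = 5 ∧ m11p2_Full H b}, ⟨fun b hb => hb.1, ?_⟩, ?_⟩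
  · intro s hs
    obtain ⟨p, t, hpt, hst, ht⟩ := Finset.card_eq_succ.mp hs
    obtain ⟨q, u, v, hqu, hqv, huv, rfl⟩ := Finset.card_eq_three.mp ht
    simp only [Finset.mem_insert, Finset.mem_singleton, not_or] at hpt
    obtain ⟨hpq, hpu, hpv⟩ := hpt
    obtain ⟨f, hfp, hfq, hfu, hfv, hF⟩ := m11p2_full hα hH hpq hpu hpv hqu hqv huv
    have hcard : ({p, q, u, v, f} : Finset α).card = 5 := by
      rw [Finset.card_insert_of_notMem (by simp [hpq, hpu, hpv, hfp.symm]),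
        Finset.card_insert_of_notMem (by simp [hqu, hqv, hfq.symm]),
        Finset.card_insert_of_notMem (by simp [huv, hfu.symm]),
        Finset.card_pair hfv.symm]
    have hsub : s ⊆ ({p, q, u, v, f} : Finset α) := by
      rw [← hst]
      intro z hz
      simp only [Finset.mem_insert, Finset.mem_singleton] at hz ⊢
      tauto
    refine ⟨{p, q, u, v, f}, ⟨⟨hcard, hF⟩, hsub⟩, ?_⟩
    rintro b' ⟨⟨hb'c, hb'F⟩, hsb'⟩
    exact m11p2_unique hH hb'c hcard hs hsb' hsub hb'F hF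
  · intro h hh
    rw [MulAction.mem_stabilizer_iff]
    ext b
    constructor
    · rintro ⟨b', ⟨hc, hF⟩, rfl⟩
      exact ⟨by rw [Finset.card_smul_finset]; exact hc, m11p2_full_smul hh hF⟩
    · rintro ⟨hc, hF⟩
      exact ⟨h⁻¹ • b, ⟨by rw [Finset.card_smul_finset]; exact hc,
        m11p2_full_smul (H.inv_mem hh) hF⟩, smul_inv_smul h b⟩

end Cfsg.Agent.Helper59
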