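import Mathlib

/-!
# Helper59: tools for "no simple group of order n" arguments

* `Cfsg.Agent.Helper59.smallSimple_sylow_card` : order of a Sylow subgroup from `|G| = p ^ a * m`.
* `Cfsg.Agent.Helper59.smallSimple_normal_card` : a normal subgroup of a simple group has order
  `1` or `|G|`.
* `Cfsg.Agent.Helper59.smallSimple_normalizer_le_centralizer` : for a Sylow subgroup of prime
  order `p` whose normalizer has order coprime to `p - 1`, `N(P) ≤ C(P)`.
* `Cfsg.Agent.Helper59.smallSimple_burnside` : Burnside's transfer theorem contradicts simplicity.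
-/

set_option autoImplicit false

namespace Cfsg.Agent.Helper59

variable {G : Type*} [Group G]

theorem smallSimple_sylow_card [Finite G] (p a m : ℕ) [Fact p.Prime]
    (hG : Nat.card G = p ^ a * m) (hm : ¬ p ∣ m) (P : Sylow p G) :
    Nat.card ↥(P : Subgroup G) = p ^ a := by
  have hp : p.Prime := Fact.out
  have hm0 : m ≠ 0 := by rintro rfl; exact hm (dvd_zero p)
  rw [Sylow.card_eq_multiplicity, hG, Nat.factorization_mul (pow_ne_zero a hp.ne_zero) hm0]
  simp [hp.factorization_pow, Nat.factorization_eq_zero_of_not_dvd hm]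

theorem smallSimple_normal_card [IsSimpleGroup G] (H : Subgroup G) (hH : H.Normal) :
    Nat.card ↥H = 1 ∨ Nat.card ↥H = Nat.card G := by
  rcases hH.eq_bot_or_eq_top with h | h
  · left; rw [h, Subgroup.card_bot]
  · right; rw [h, Subgroup.card_top]

/-- The number of Sylow `p`-subgroups times the order of the normalizer is `|G|`. -/
theorem smallSimple_card_normalizer [Finite G] (p : ℕ) [Fact p.Prime] (P : Sylow p G) :
    Nat.card ↥(Subgroup.normalizer ((P : Subgroup G) : Set G)) * Nat.card (Sylow p G)
      = Nat.card G := by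
  have h1 := (Subgroup.normalizer ((P : Subgroup G) : Set G)).card_mul_index
  have h2 : (Subgroup.normalizer ((P : Subgroup G) : Set G)).index = Nat.card (Sylow p G) :=
    (P.card_eq_index_normalizer).symm
  rw [h2] at h1
  exact h1

theorem smallSimple_normalizer_le_centralizer [Finite G] (p : ℕ) [Fact p.Prime] (P : Sylow p G)
    (hP : Nat.card ↥(P : Subgroup G) = p)
    (hcop : Nat.Coprime (Nat.card ↥(Subgroup.normalizer ((P : Subgroup G) : Set G))) (p - 1)) :
    Subgroup.normalizer ((P : Subgroup G) : Set G) ≤ Subgroup.centralizer ((P : Subgroup G) : Set G) := by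
  have hp : p.Prime := Fact.out
  have hcyc : IsCyclic ↥(P : Subgroup G) := isCyclic_of_prime_card hP
  have hcard_aut : Nat.card (MulAut ↥(P : Subgroup G)) = p - 1 := by
    rw [IsCyclic.card_mulAut, hP, Nat.totient_prime hp]
  have h1 : (Subgroup.normalizerMonoidHom (P : Subgroup G)).ker.index ∣ p - 1 := by
    rw [Subgroup.index_ker, ← hcard_aut]
    exact Subgroup.card_subgroup_dvd_card _
  have h2 : (Subgroup.normalizerMonoidHom (P : Subgroup G)).ker.index ∣
      Nat.card ↥(Subgroup.normalizer ((P : Subgroup G) : Set G)) :=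
    Subgroup.index_dvd_card _
  have h3 : (Subgroup.normalizerMonoidHom (P : Subgroup G)).ker.index = 1 := by
    have := Nat.dvd_gcd h2 h1
    rw [hcop] at this
    exact Nat.dvd_one.1 this
  rw [Subgroup.index_eq_one, Subgroup.normalizerMonoidHom_ker, Subgroup.subgroupOf_eq_top] at h3
  exact h3

theorem smallSimple_burnside [Finite G] [IsSimpleGroup G] (p : ℕ) [Fact p.Prime] (P : Sylow p G)
    (hP : Subgroup.normalizer ((P : Subgroup G) : Set G) ≤
      Subgroup.centralizer ((P : Subgroup G) : Set G))
    (h1 : Nat.card ↥(P : Subgroup G) ≠ 1) (h2 : Nat.card ↥(P : Subgroup G) ≠ Nat.card G) :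
    False := by
  have hc := MonoidHom.ker_transferSylow_isComplement' P hP
  have hcard := hc.card_mul_card
  rcases smallSimple_normal_card _ (MonoidHom.normal_ker (MonoidHom.transferSylow P hP)) with h | h
  · rw [h, one_mul] at hcard
    exact h2 hcard
  · rw [h] at hcard
    have hpos : 0 < Nat.card G := Nat.card_pos
    have : Nat.card ↥(P : Subgroup G) = 1 := by
      have h3 : Nat.card G * Nat.card ↥(P : Subgroup G) = Nat.card G * 1 := by rw [hcard, mul_one]
      exact Nat.eq_of_mul_eq_mul_left hpos h3
    exact h1 this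

/-- A Sylow subgroup of a simple group which is neither trivial nor everything is not unique. -/
theorem smallSimple_sylow_ne_one [Finite G] [IsSimpleGroup G] (p : ℕ) [Fact p.Prime]
    (P : Sylow p G) (h1 : Nat.card ↥(P : Subgroup G) ≠ 1)
    (h2 : Nat.card ↥(P : Subgroup G) ≠ Nat.card G) : Nat.card (Sylow p G) ≠ 1 := by
  intro hn
  have hPn : (P : Subgroup G).Normal := by
    rw [← Subgroup.normalizer_eq_top_iff, ← Subgroup.index_eq_one]
    exact (P.card_eq_index_normalizer).symm.trans hn
  rcases smallSimple_normal_card _ hPn with h | h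
  · exact h1 h
  · exact h2 h

end Cfsg.Agent.Helper59
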